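import Groth.Prelude.Def_ProEtS
import Mathlib.AlgebraicGeometry.Morphisms.WeaklyEtale
import Mathlib.RingTheory.Etale.Weakly

/-!
Coverings in the small pro-etale site.
-/

set_option autoImplicit false

universe u

open CategoryTheory CategoryTheory.Limits AlgebraicGeometry Opposite

namespace Groth.Agent.Lib.ProEt.Basic

set_option backward.isDefEq.respectTransparency.types false

lemma weaklyEtale_SpecMap_iff {R S : Type u} [CommRing R] [CommRing S] [Algebra R S] :
    WeaklyEtale (Spec.map (CommRingCat.ofHom (algebraMap R S))) ↔ Algebra.WeaklyEtale R S := by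
  have hflat : ∀ {A B : CommRingCat.{u}} (φ : A ⟶ B), Flat (Spec.map φ) ↔ φ.hom.Flat :=
    fun φ => HasRingHomProperty.Spec_iff (P := @Flat)
  have hd : Flat (pullback.diagonal (Spec.map (CommRingCat.ofHom (algebraMap R S)))) ↔
      (Algebra.TensorProduct.lmul' R (S := S)).toRingHom.Flat := by
    rw [diagonal_SpecMap, MorphismProperty.cancel_right_of_respectsIso @Flat, hflat]
    rfl
  rw [weaklyEtale_iff, hd, hflat]
  exact ⟨fun h => ⟨RingHom.flat_algebraMap_iff.mp h.1, h.2⟩,
    fun h => ⟨RingHom.flat_algebraMap_iff.mpr h.flat, h.flat_lmul'⟩⟩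

lemma weaklyEtale_SpecMap_iff' {R S : CommRingCat.{u}} (φ : R ⟶ S) :
    WeaklyEtale (Spec.map φ) ↔ @Algebra.WeaklyEtale R S _ _ φ.hom.toAlgebra := by
  letI := φ.hom.toAlgebra
  exact weaklyEtale_SpecMap_iff

variable {X : Scheme.{u}}

/-- The map on global functions between affine objects is weakly etale. -/
lemma weaklyEtale_appTop {V U : Scheme.{u}} [IsAffine V] [IsAffine U] (f : V ⟶ U) [WeaklyEtale f] :
    @Algebra.WeaklyEtale Γ(U, ⊤) Γ(V, ⊤) _ _ f.appTop.hom.toAlgebra := by
  rw [← weaklyEtale_SpecMap_iff']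
  have h : Spec.map f.appTop = V.isoSpec.inv ≫ f ≫ U.isoSpec.hom := by
    rw [Iso.eq_inv_comp, Scheme.isoSpec_hom_naturality]
  rw [h]
  infer_instance

/-- A morphism in the pro-etale site is weakly etale. -/
instance weaklyEtale_left {U V : X.ProEt} (g : V ⟶ U) : WeaklyEtale g.left := by
  have : WeaklyEtale (g.left ≫ U.hom) := by
    rw [MorphismProperty.Over.w g]
    exact V.prop
  exact WeaklyEtale.of_comp g.left U.hom

instance : PreservesLimitsOfShape WalkingCospan
    (Scheme.ProEt.forget X ⋙ Over.forget X) := inferInstance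

lemma mem_topology_iff {U : X.ProEt} {R : Sieve U} :
    R ∈ Scheme.ProEt.topology X U ↔ ∃ T ∈ Scheme.ProEt.precoverage X U, T ≤ R.arrows := by
  haveI : (Scheme.ProEt.precoverage X).IsStableUnderBaseChange := by
    unfold Scheme.ProEt.precoverage; infer_instance
  haveI : (Scheme.ProEt.precoverage X).IsStableUnderComposition := by
    unfold Scheme.ProEt.precoverage; infer_instance
  haveI : (Scheme.ProEt.precoverage X).HasIsos := by
    unfold Scheme.ProEt.precoverage; infer_instance
  haveI : (Scheme.ProEt.precoverage X).HasPullbacks :=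
    ⟨fun {_ _ _} _ _ => ⟨fun {_ _} _ => inferInstance⟩⟩
  exact Precoverage.mem_toGrothendieck_iff_of_isStableUnderComposition

/-- A finite jointly surjective family with affine members generates a covering sieve. -/
lemma ofArrows_mem {U : X.ProEt} {ι : Type} [Finite ι] {V : ι → X.ProEt} (g : ∀ i, V i ⟶ U)
    [∀ i, QuasiCompact (g i).left] (h : ⋃ i, Set.range (g i).left.base = Set.univ) :
    Sieve.ofArrows V g ∈ Scheme.ProEt.topology X U := by
  refine Precoverage.generate_mem_toGrothendieck ?_
  change (Presieve.ofArrows V g).map (Scheme.ProEt.forget X ⋙ Over.forget X) ∈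
    Scheme.proetalePrecoverage _
  rw [Presieve.map_ofArrows]
  let E : U.left.Cover (Scheme.precoverage @WeaklyEtale) :=
    { I₀ := ι
      X := fun i => (V i).left
      f := fun i => (g i).left
      mem₀ := (Scheme.ofArrows_mem_precoverage_iff _).mpr
        ⟨fun x => Set.mem_iUnion.mp (h.ge (Set.mem_univ x)), fun i => weaklyEtale_left (g i)⟩ }
  refine ⟨?_, E.mem₀⟩
  refine (Scheme.presieve₀_mem_qcPrecoverage_iff (E := E.toPreZeroHypercover)).mpr ?_
  have : ∀ i, QuasiCompact (E.f i) := fun i => (inferInstance : QuasiCompact (g i).left)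
  have : Finite E.I₀ := ‹Finite ι›
  exact QuasiCompactCover.of_finite

/-- A quasi-compact surjection generates a covering sieve. -/
lemma singleton_mem {U V : X.ProEt} (g : V ⟶ U) [QuasiCompact g.left] [Surjective g.left] :
    Sieve.generate (Presieve.singleton g) ∈ Scheme.ProEt.topology X U := by
  refine Precoverage.generate_mem_toGrothendieck ?_
  change (Presieve.singleton g).map (Scheme.ProEt.forget X ⋙ Over.forget X) ∈
    Scheme.proetalePrecoverage _
  rw [Presieve.map_singleton]
  exact Scheme.Hom.singleton_mem_propQCPrecoverage (f := g.left) (weaklyEtale_left g)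

/-- A covering sieve of a quasi-compact object contains a finite jointly surjective family of
affine objects. -/
lemma exists_finite_refinement {U : X.ProEt} [CompactSpace U.left] {R : Sieve U}
    (hR : R ∈ Scheme.ProEt.topology X U) :
    ∃ (n : ℕ) (V : Fin n → X.ProEt) (g : ∀ i, V i ⟶ U),
      (∀ i, IsAffine (V i).left) ∧ (∀ i, R (g i)) ∧
        ⋃ i, Set.range (g i).left.base = Set.univ := by
  obtain ⟨T, hT, hTR⟩ := mem_topology_iff.mp hR
  obtain ⟨ι, Y, f, rfl⟩ := T.exists_eq_ofArrows
  have hT' : Presieve.ofArrows (fun i => (Y i).left) (fun i => (f i).left) ∈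
      Scheme.proetalePrecoverage U.left := by
    have h1 : (Presieve.ofArrows Y f).map (Scheme.ProEt.forget X ⋙ Over.forget X) ∈
      Scheme.proetalePrecoverage _ := hT
    rwa [Presieve.map_ofArrows] at h1
  let E : PreZeroHypercover U.left :=
    { I₀ := ι, X := fun i => (Y i).left, f := fun i => (f i).left }
  have : QuasiCompactCover E := Scheme.presieve₀_mem_qcPrecoverage_iff.mp hT'.1
  obtain ⟨n, a, W, hW, hUW⟩ := QuasiCompactCover.exists_isAffineOpen_of_isCompact E
    (U := ⊤) (by simpa using isCompact_univ)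
  have hwe : ∀ i, WeaklyEtale ((W i).ι ≫ (Y (a i)).hom) := fun i => inferInstance
  let V : Fin n → X.ProEt := fun i => Scheme.ProEt.mk ((W i).ι ≫ (Y (a i)).hom)
  let c : ∀ i, V i ⟶ Y (a i) := fun i => MorphismProperty.Over.homMk (W i).ι
  refine ⟨n, V, fun i => c i ≫ f (a i), hW, fun i => R.downward_closed (hTR _ _ (Presieve.ofArrows.mk (a i))) _, ?_⟩
  refine Set.eq_univ_of_forall fun x => ?_
  obtain ⟨i, hi⟩ := Set.mem_iUnion.mp (hUW.ge (Set.mem_univ x))
  obtain ⟨y, hy, rfl⟩ := hi
  exact Set.mem_iUnion.mpr ⟨i, ⟨⟨y, hy⟩, rfl⟩⟩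

end Groth.Agent.Lib.ProEt.Basic
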