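import Groth.Agent.Lib.ProEt.Basic
import Mathlib.CategoryTheory.Sites.CoverPreserving

/-!
Continuity of the functors between etale and pro-etale sites.
-/

set_option autoImplicit false

universe u

open CategoryTheory CategoryTheory.Limits AlgebraicGeometry Opposite

namespace Groth.Agent.Lib.ProEt.Continuity

set_option backward.isDefEq.respectTransparency.types false

/-- Weakly etale morphisms. -/
abbrev we : MorphismProperty Scheme.{u} := @WeaklyEtale

instance preservesFiniteLimits_bcP {X Y : Scheme.{u}} (f : X ⟶ Y) :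
    PreservesFiniteLimits (ProEtS.bcP f) :=
  (inferInstance : PreservesFiniteLimits (MorphismProperty.Over.pullback we ⊤ f))

instance flat_bcP {X Y : Scheme.{u}} (f : X ⟶ Y) : RepresentablyFlat (ProEtS.bcP f) :=
  haveI : HasFiniteLimits (MorphismProperty.Over @WeaklyEtale ⊤ Y) :=
    (inferInstance : HasFiniteLimits Y.ProEt)
  flat_of_preservesFiniteLimits _

instance preservesFiniteLimits_eps (X : Scheme.{u}) : PreservesFiniteLimits (ProEtS.eps X) where
  preservesFiniteLimits J _ _ := by
    have h1 : PreservesLimitsOfShape J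
        (ProEtS.eps X ⋙ MorphismProperty.Over.forget @WeaklyEtale ⊤ X) :=
      inferInstanceAs <| PreservesLimitsOfShape J <|
        MorphismProperty.Over.forget EtCoh.etaleMP.{u} ⊤ X
    have h2 : ReflectsLimitsOfShape J (MorphismProperty.Over.forget we ⊤ X) := inferInstance
    refine @preservesLimitsOfShape_of_reflects_of_preserves _ _ _ _ _ _ _ _
      (ProEtS.eps X) (MorphismProperty.Over.forget we ⊤ X) ?_ ?_
    · exact h1
    · exact h2

instance flat_eps (X : Scheme.{u}) : RepresentablyFlat (ProEtS.eps X) :=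
  haveI : HasFiniteLimits (MorphismProperty.Over EtCoh.etaleMP.{u} ⊤ X) :=
    (inferInstance : HasFiniteLimits X.Etale)
  flat_of_preservesFiniteLimits _

/-- Jointly surjective families of open maps are coverings. -/
lemma ofArrows_mem_of_isOpenMap {X : Scheme.{u}} {U : X.ProEt} {ι : Type*} {V : ι → X.ProEt}
    (g : ∀ i, V i ⟶ U) (ho : ∀ i, IsOpenMap (g i).left.base)
    (h : ⋃ i, Set.range (g i).left.base = Set.univ) :
    Sieve.ofArrows V g ∈ Scheme.ProEt.topology X U := by
  refine Precoverage.generate_mem_toGrothendieck ?_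
  change (Presieve.ofArrows V g).map (Scheme.ProEt.forget X ⋙ Over.forget X) ∈
    Scheme.proetalePrecoverage _
  rw [Presieve.map_ofArrows]
  let E : U.left.Cover (Scheme.precoverage @WeaklyEtale) :=
    { I₀ := ι
      X := fun i => (V i).left
      f := fun i => (g i).left
      mem₀ := (Scheme.ofArrows_mem_precoverage_iff _).mpr
        ⟨fun x => Set.mem_iUnion.mp (h.ge (Set.mem_univ x)), fun i => Basic.weaklyEtale_left (g i)⟩ }
  exact ⟨(Scheme.presieve₀_mem_qcPrecoverage_iff (E := E.toPreZeroHypercover)).mpr
    (QuasiCompactCover.of_isOpenMap ho), E.mem₀⟩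

theorem epsCont (X : Scheme.{u}) : ProEtS.EpsCont X := by
  refine (Functor.isContinuous_iff_coverPreserving (F := ProEtS.eps X)).mpr ⟨fun {W S} hS => ?_⟩
  obtain ⟨ι, Y, f, rfl⟩ := S.exists_eq_ofArrows
  have hu := (Scheme.ofArrows_mem_smallEtaleTopology_iff f).mp hS
  have ho : ∀ i, IsOpenMap (((ProEtS.eps X).map (f i)).left).base := fun i => by
    have : Etale ((f i).left ≫ W.hom) := by
      rw [MorphismProperty.Over.w (f i)]
      exact (Y i).prop
    have : Etale W.hom := W.prop
    have : Etale (f i).left := Etale.of_comp (f i).left W.hom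
    exact (f i).left.isOpenMap
  refine GrothendieckTopology.superset_covering _ ?_
    (ofArrows_mem_of_isOpenMap (fun i => (ProEtS.eps X).map (f i)) ho hu)
  rw [Sieve.ofArrows, Sieve.generate_le_iff]
  rintro _ _ ⟨i⟩
  exact Sieve.image_mem_functorPushforward _ _ (Sieve.ofArrows_mk _ _ i)

theorem pCont {X Y : Scheme.{u}} (f : X ⟶ Y) : ProEtS.PCont f := by
  refine (Functor.isContinuous_iff_coverPreserving (F := ProEtS.bcP f)).mpr ⟨fun {U S} hS => ?_⟩
  obtain ⟨T, hT, hTS⟩ := Basic.mem_topology_iff.mp hS
  obtain ⟨ι, Z, g, rfl⟩ := T.exists_eq_ofArrows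
  have hT' : Presieve.ofArrows (fun i => (Z i).left) (fun i => (g i).left) ∈
      Scheme.proetalePrecoverage U.left := by
    have h1 : (Presieve.ofArrows Z g).map (Scheme.ProEt.forget Y ⋙ Over.forget Y) ∈
      Scheme.proetalePrecoverage _ := hT
    rwa [Presieve.map_ofArrows] at h1
  have hpb : ∀ i, IsPullback (pullback.fst (Z i).hom f) ((ProEtS.bcP f).map (g i)).left (g i).left
      (pullback.fst U.hom f) := fun i => by
    refine IsPullback.of_bot ?_ ?_ (IsPullback.of_hasPullback U.hom f)
    · have h := IsPullback.of_hasPullback (Z i).hom f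
      have e1 : ((ProEtS.bcP f).map (g i)).left ≫ pullback.snd U.hom f = pullback.snd (Z i).hom f :=
        MorphismProperty.Over.w ((ProEtS.bcP f).map (g i))
      have e2 : (g i).left ≫ U.hom = (Z i).hom := MorphismProperty.Over.w (g i)
      exact cast (congrArg₂ (fun a b => IsPullback (pullback.fst (Z i).hom f) a b f)
        e1.symm e2.symm) h
    · exact (pullback.lift_fst _ _ _).symm
  have hmem : (Presieve.ofArrows (fun i => (ProEtS.bcP f).obj (Z i))
      fun i => (ProEtS.bcP f).map (g i)).map (Scheme.ProEt.forget X ⋙ Over.forget X) ∈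
      Scheme.proetalePrecoverage ((Scheme.ProEt.forget X ⋙ Over.forget X).obj ((ProEtS.bcP f).obj U)) := by
    rw [Presieve.map_ofArrows]
    exact Precoverage.mem_coverings_of_isPullback (J := Scheme.proetalePrecoverage)
      (fun i => (g i).left) hT' (pullback.fst U.hom f) _ _ (fun i => (hpb i).flip)
  refine GrothendieckTopology.superset_covering _ ?_ (Precoverage.generate_mem_toGrothendieck
    (J := Scheme.ProEt.precoverage X) hmem)
  rw [Sieve.generate_le_iff]
  rintro _ _ ⟨i⟩
  exact Sieve.image_mem_functorPushforward _ _ (hTS _ _ (Presieve.ofArrows.mk i))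

end Groth.Agent.Lib.ProEt.Continuity
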