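import Groth.Agent.Lib.ProEt.Criterion
import Groth.Agent.Lib.WLocal.Contract
import Mathlib.AlgebraicGeometry.Limits

/-!
Covers by weakly contractible objects.
-/

set_option autoImplicit false

universe u

open CategoryTheory CategoryTheory.Limits AlgebraicGeometry Opposite

namespace Groth.Agent.Lib.ProEt.Covers

set_option backward.isDefEq.respectTransparency.types false

lemma isWContractible_of_ringEquiv {A B : Type u} [CommRing A] [CommRing B] (e : A ≃+* B)
    (h : EtPBC.IsWContractible A) : EtPBC.IsWContractible B := by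
  intro C _ _ hff hw
  letI : Algebra A B := e.toRingHom.toAlgebra
  letI : Algebra A C := ((algebraMap B C).comp e.toRingHom).toAlgebra
  haveI : IsScalarTower A B C := .of_algebraMap_eq fun _ => rfl
  haveI : Algebra.Etale A B := by
    rw [← RingHom.etale_algebraMap]
    exact RingHom.Etale.of_bijective e.bijective
  haveI : Algebra.WeaklyEtale A C := Algebra.WeaklyEtale.trans A B C
  haveI : Module.FaithfullyFlat A B :=
    Module.FaithfullyFlat.of_linearEquiv A A
      (AlgEquiv.ofBijective (Algebra.ofId A B) e.bijective).symm.toLinearEquiv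
  haveI : Module.FaithfullyFlat A C := Module.FaithfullyFlat.trans A B C
  obtain ⟨r⟩ := h C inferInstance inferInstance
  refine ⟨{ e.toRingHom.comp r.toRingHom with commutes' := fun b => ?_ }⟩
  obtain ⟨a, rfl⟩ := e.surjective b
  exact congrArg e (r.commutes a)

variable {X : Scheme.{u}}

/-- An affine object with w-contractible ring maps onto every affine open. -/
theorem exists_over_affineOpen (U : X.ProEt) {W : U.left.Opens} (hW : IsAffineOpen W) :
    ∃ (P : X.ProEt) (g : P ⟶ U), IsAffine P.left ∧ EtPBC.IsWContractible ↥Γ(P.left, ⊤) ∧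
      Set.range g.left.base = (W : Set ↥U.left) := by
  obtain ⟨D, _, _, hff, hind, hwc⟩ := WLocal.Contract.exists_wContractible ↥Γ(U.left, W)
  haveI : Algebra.WeaklyEtale ↥Γ(U.left, W) D := IndEtale.Basic.weaklyEtale hind
  let e : Spec (CommRingCat.of D) ⟶ Spec Γ(U.left, W) :=
    Spec.map (CommRingCat.ofHom (algebraMap ↥Γ(U.left, W) D))
  have hwe : WeaklyEtale e := Basic.weaklyEtale_SpecMap_iff.mpr inferInstance
  have hse : Surjective e :=
    ⟨PrimeSpectrum.comap_surjective_of_faithfullyFlat (A := ↥Γ(U.left, W)) (B := D)⟩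
  refine ⟨Scheme.ProEt.mk ((e ≫ hW.fromSpec) ≫ U.hom), MorphismProperty.Over.homMk (e ≫ hW.fromSpec),
    (inferInstance : IsAffine (Spec (CommRingCat.of D))),
    isWContractible_of_ringEquiv (Scheme.ΓSpecIso (CommRingCat.of D)).symm.commRingCatIsoToRingEquiv hwc, ?_⟩
  change Set.range ((e ≫ hW.fromSpec) : Spec (CommRingCat.of D) ⟶ U.left).base = _
  rw [Scheme.Hom.comp_base, TopCat.coe_comp, Set.range_comp, hse.surj.range_eq, Set.image_univ]
  exact hW.range_fromSpec

variable {ι : Type u} (P : ι → X.ProEt)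

/-- The disjoint union of objects of the site. -/
noncomputable def sigmaObj : X.ProEt :=
  haveI : WeaklyEtale (Sigma.desc fun i => (P i).hom) :=
    IsZariskiLocalAtSource.sigmaDesc fun i => (P i).prop
  Scheme.ProEt.mk (Sigma.desc fun i => (P i).hom)

/-- The inclusions. -/
noncomputable def sigmaIncl (i : ι) : P i ⟶ sigmaObj P :=
  MorphismProperty.Over.homMk (Sigma.ι (fun i => (P i).left) i)
    (Sigma.ι_desc (fun i => (P i).hom) i)

variable {P} in
/-- Maps out of the disjoint union. -/
noncomputable def sigmaDesc {U : X.ProEt} (g : ∀ i, P i ⟶ U) : sigmaObj P ⟶ U :=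
  MorphismProperty.Over.homMk (Sigma.desc fun i => (g i).left)
    (Sigma.hom_ext _ _ fun i => by
      erw [Sigma.ι_desc_assoc, Sigma.ι_desc]
      exact MorphismProperty.Over.w (g i))

lemma sigmaIncl_desc {U : X.ProEt} (g : ∀ i, P i ⟶ U) (i : ι) :
    sigmaIncl P i ≫ sigmaDesc g = g i :=
  MorphismProperty.Over.Hom.ext (Sigma.ι_desc (fun i => (g i).left) i)

lemma sigma_mem :
    Sieve.ofArrows P (sigmaIncl P) ∈ Scheme.ProEt.topology X (sigmaObj P) := by
  refine Precoverage.generate_mem_toGrothendieck ?_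
  change (Presieve.ofArrows P (sigmaIncl P)).map (Scheme.ProEt.forget X ⋙ Over.forget X) ∈
    Scheme.proetalePrecoverage _
  rw [Presieve.map_ofArrows]
  exact Scheme.zariskiPrecoverage_le_propQCPrecoverage (P := @WeaklyEtale) _
    (sigmaOpenCover fun i => (P i).left).mem₀

/-- Sections on a disjoint union. -/
theorem existsUnique_glue (F : Sheaf (Scheme.ProEt.topology X) (Type (u + 1)))
    (t : ∀ i, F.obj.obj (op (P i))) :
    ∃! s : F.obj.obj (op (sigmaObj P)), ∀ i, F.obj.map (sigmaIncl P i).op s = t i := by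
  have hsf : Presieve.IsSheafFor F.obj (Presieve.ofArrows P (sigmaIncl P)) :=
    (Presieve.isSheafFor_iff_generate _).mpr
      ((isSheaf_iff_isSheaf_of_type _ _).mp F.property _ (sigma_mem P))
  refine (Presieve.isSheafFor_arrows_iff _ _).mp hsf t fun k l Z a b hab => ?_
  rcases eq_or_ne k l with rfl | hkl
  · have : a = b := MorphismProperty.Over.Hom.ext
      ((cancel_mono (Sigma.ι (fun i => (P i).left) k)).mp (congrArg (fun φ => φ.left) hab))
    rw [this]
  · have : IsEmpty Z.left := ⟨fun z => by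
      have h1 : (a ≫ sigmaIncl P k).left z = (b ≫ sigmaIncl P l).left z := by rw [hab]
      have h0 := disjoint_iff.mp (disjoint_opensRange_sigmaι (fun i => (P i).left) k l hkl)
      have h2 : (a ≫ sigmaIncl P k).left z ∈ (Sigma.ι (fun i => (P i).left) k).opensRange ⊓
          (Sigma.ι (fun i => (P i).left) l).opensRange := ⟨⟨a.left z, rfl⟩, h1 ▸ ⟨b.left z, rfl⟩⟩
      rw [h0] at h2
      exact h2⟩
    exact @Subsingleton.elim _ (Decomp.subsingleton_of_isEmpty F Z) _ _

/-- A disjoint union of weakly contractible objects is weakly contractible. -/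
theorem isWC_sigma (h : ∀ i, ProEtS.IsWC (P i)) : ProEtS.IsWC (sigmaObj P) := by
  intro F G φ hφ s
  choose t ht using fun i => h i F G φ hφ (G.obj.map (sigmaIncl P i).op s)
  obtain ⟨r, hr, -⟩ := existsUnique_glue P F t
  refine ⟨r, (existsUnique_glue P G _).unique (fun i => ?_) (fun i => rfl)⟩
  rw [← ht i, ← hr i]
  exact (ConcreteCategory.congr_hom (φ.hom.naturality (sigmaIncl P i).op) r).symm

variable {P}

/-- A family which contains an affine object onto each of a covering set of affine opens gives a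
covering. -/
theorem fam_mem {U : X.ProEt} (g : ∀ i, P i ⟶ U) [∀ i, IsAffine (P i).left] (W : ι → U.left.Opens)
    (hWa : ∀ i, IsAffineOpen (W i))
    (hg : ∀ i, Set.range (g i).left.base = (W i : Set ↥U.left)) (hWu : ⨆ i, W i = ⊤) :
    Sieve.ofArrows P g ∈ Scheme.ProEt.topology X U := by
  refine Precoverage.generate_mem_toGrothendieck ?_
  change (Presieve.ofArrows P g).map (Scheme.ProEt.forget X ⋙ Over.forget X) ∈
    Scheme.proetalePrecoverage _
  rw [Presieve.map_ofArrows]
  let E : U.left.Cover (Scheme.precoverage @WeaklyEtale) :=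
    { I₀ := ι
      X := fun i => (P i).left
      f := fun i => (g i).left
      mem₀ := (Scheme.ofArrows_mem_precoverage_iff _).mpr
        ⟨fun x => by
          obtain ⟨i, hi⟩ := TopologicalSpace.Opens.mem_iSup.mp
            (hWu.ge (trivial : x ∈ (⊤ : U.left.Opens)))
          exact ⟨i, (hg i).ge hi⟩, fun i => Basic.weaklyEtale_left (g i)⟩ }
  refine ⟨(Scheme.presieve₀_mem_qcPrecoverage_iff (E := E.toPreZeroHypercover)).mpr ⟨?_⟩, E.mem₀⟩
  intro O hO
  refine .of_isCompact_of_forall_exists_isCompactOpenCovered hO.isCompact fun x hx => ?_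
  obtain ⟨i, hi⟩ := TopologicalSpace.Opens.mem_iSup.mp
    (hWu.ge (trivial : x ∈ (⊤ : U.left.Opens)))
  obtain ⟨_, ⟨⟨T, hT, rfl⟩, hxT, hTW⟩⟩ := U.left.isBasis_affineOpens.exists_subset_of_mem_open
    (show x ∈ ((O ⊓ W i : U.left.Opens) : Set ↥U.left) from ⟨hx, hi⟩) (O ⊓ W i).2
  refine ⟨T, fun z hz => (hTW hz).1, hxT, T.2, ?_⟩
  haveI : IsAffine (W i).toScheme := hWa i
  let l : (P i).left ⟶ (W i).toScheme := IsOpenImmersion.lift (W i).ι (g i).left (by
    rw [hg i, Scheme.Opens.range_ι])
  have hl : l ≫ (W i).ι = (g i).left := IsOpenImmersion.lift_fac _ _ _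
  have hcT : IsCompact (((W i).ι ⁻¹ᵁ T : (W i).toScheme.Opens) : Set (W i).toScheme) := by
    refine (W i).ι.isOpenEmbedding.isInducing.isCompact_iff.mpr ?_
    rw [show (W i).ι '' ((W i).ι ⁻¹ᵁ T : (W i).toScheme.Opens) = (T : Set ↥U.left) from
      Set.image_preimage_eq_of_subset (by
        rw [Scheme.Opens.range_ι]
        exact fun z hz => (hTW hz).2)]
    exact hT.isCompact
  have hqc : QuasiCompact l := inferInstance
  refine ⟨{i}, Set.finite_singleton i, fun j hj => hj ▸ l ⁻¹ᵁ ((W i).ι ⁻¹ᵁ T),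
    fun j hj => ?_, ?_⟩
  · obtain rfl : j = i := hj
    exact (quasiCompact_iff_isSpectralMap.mp hqc).2 ((W j).ι ⁻¹ᵁ T).2 hcT
  · simp only [Set.mem_singleton_iff, Set.iUnion_iUnion_eq_left]
    change (g i).left '' (l.base ⁻¹' ((W i).ι.base ⁻¹' (T : Set ↥U.left))) = (T : Set ↥U.left)
    rw [← hl]
    refine Set.Subset.antisymm (Set.image_subset_iff.mpr fun z hz => hz) fun z hz => ?_
    obtain ⟨y, hy⟩ := (hg i).ge (hTW hz).2
    rw [← hl] at hy
    exact ⟨y, by subst hy; exact hz, hy⟩

/-- The single covering map from the disjoint union. -/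
theorem desc_mem {U : X.ProEt} (g : ∀ i, P i ⟶ U) [∀ i, IsAffine (P i).left] (W : ι → U.left.Opens)
    (hWa : ∀ i, IsAffineOpen (W i))
    (hg : ∀ i, Set.range (g i).left.base = (W i : Set ↥U.left)) (hWu : ⨆ i, W i = ⊤) :
    Sieve.generate (Presieve.singleton (sigmaDesc g)) ∈ Scheme.ProEt.topology X U := by
  have hfam := fam_mem g W hWa hg hWu
  refine GrothendieckTopology.superset_covering _ ?_ hfam
  rw [Sieve.generate_le_iff]
  rintro _ _ ⟨i⟩
  exact ⟨_, sigmaIncl P i, _, Presieve.singleton_self _, sigmaIncl_desc P g i⟩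

/-- Every object has a covering by a family of affine objects with w-contractible rings. -/
theorem exists_cover (U : X.ProEt) {κ : Type u} (W : κ → U.left.Opens)
    (hWa : ∀ i, IsAffineOpen (W i)) (hWu : ⨆ i, W i = ⊤) :
    ∃ (P : κ → X.ProEt) (g : ∀ i, P i ⟶ U), (∀ i, IsAffine (P i).left) ∧
      (∀ i, EtPBC.IsWContractible ↥Γ((P i).left, ⊤)) ∧
      Sieve.ofArrows P g ∈ Scheme.ProEt.topology X U ∧
      Sieve.generate (Presieve.singleton (sigmaDesc g)) ∈ Scheme.ProEt.topology X U ∧
      ProEtS.IsWC (sigmaObj P) := by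
  choose P g hP hwc hg using fun i => exists_over_affineOpen U (hWa i)
  haveI := hP
  exact ⟨P, g, hP, hwc, fam_mem g W hWa hg hWu, desc_mem g W hWa hg hWu, isWC_sigma P fun i => Decomp.isWC_of (hwc i)⟩

end Groth.Agent.Lib.ProEt.Covers
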