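import Groth.Agent.Lib.ProEt.Sheafify
import Groth.Agent.Lib.ProEt.Covers
import Groth.Agent.Lib.ProEt.Continuity
import Mathlib.CategoryTheory.Limits.ConcreteCategory.Basic
import Mathlib.CategoryTheory.Sites.Pullback
import Mathlib.Algebra.Category.Grp.FilteredColimits

/-!
Sections of pullbacks of abelian sheaves over weakly contractible affine objects.
-/

set_option autoImplicit false

universe u

open CategoryTheory CategoryTheory.Limits AlgebraicGeometry Opposite

namespace Groth.Agent.Lib.ProEt.AbPullback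

set_option backward.isDefEq.respectTransparency.types false

variable {C : Type (u + 1)} [Category.{u} C] {X : Scheme.{u}} (Φ : C ⥤ X.ProEt)
  (J : GrothendieckTopology C)

/-- Finite disjoint unions in the source site. -/
def HasSums : Prop :=
  ∀ (n : ℕ) (P : Fin n → C), ∃ (S : C) (inc : ∀ k, P k ⟶ S),
    (∀ (F : Sheaf J AddCommGrpCat.{u + 1}) (t : ∀ k, F.obj.obj (op (P k))),
      ∃! s : F.obj.obj (op S), ∀ k, F.obj.map (inc k).op s = t k) ∧
    ∀ (V : C) (g : ∀ k, P k ⟶ V), ∃ d : S ⟶ V, ∀ k, inc k ≫ d = g k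

variable [Φ.IsContinuous J (Scheme.ProEt.topology X)]
  [∀ (F : Cᵒᵖ ⥤ AddCommGrpCat.{u + 1}), Φ.op.HasPointwiseLeftKanExtension F]

variable {J} (F : Sheaf J AddCommGrpCat.{u + 1})

/-- The presheaf pullback. -/
noncomputable abbrev L : X.ProEtᵒᵖ ⥤ AddCommGrpCat.{u + 1} := Φ.op.lan.obj F.obj

/-- The element given by a morphism and a section. -/
noncomputable def ι {U : X.ProEt} {V : C} (a : U ⟶ Φ.obj V) (x : F.obj.obj (op V)) :
    (L Φ F).obj (op U) :=
  (L Φ F).map a.op ((Φ.op.lanUnit.app F.obj).app (op V) x)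

lemma map_ι {U U' : X.ProEt} {V : C} (i : U' ⟶ U) (a : U ⟶ Φ.obj V)
    (x : F.obj.obj (op V)) : (L Φ F).map i.op (ι Φ F a x) = ι Φ F (i ≫ a) x := by
  simp only [ι, op_comp, Functor.map_comp]
  rfl

lemma ι_map {U : X.ProEt} {V V' : C} (h : V' ⟶ V) (b : U ⟶ Φ.obj V')
    (x : F.obj.obj (op V)) :
    ι Φ F b (F.obj.map h.op x) = ι Φ F (b ≫ Φ.map h) x := by
  have h1 := ConcreteCategory.congr_hom
    ((Φ.op.lanUnit.app F.obj).naturality h.op) x
  have h2 : (Φ.op.lanUnit.app F.obj).app (op V') (F.obj.map h.op x) =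
      (L Φ F).map (Φ.map h).op ((Φ.op.lanUnit.app F.obj).app (op V) x) := h1
  simp only [ι, op_comp, Functor.map_comp, h2]
  rfl

/-- The colimit description. -/
noncomputable def isColimit (U : X.ProEt) :=
  Functor.isPointwiseLeftKanExtensionLeftKanExtensionUnit Φ.op F.obj (op U)

instance : PreservesFilteredColimitsOfSize.{u, u + 1} (forget AddCommGrpCat.{u + 1}) :=
  preservesFilteredColimitsOfSize_shrink.{u + 1, u + 1, u, u + 1} _

variable [RepresentablyFlat Φ]

lemma isFiltered (U : X.ProEt) : IsFiltered (CostructuredArrow Φ.op (op U)) :=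
  IsFiltered.of_equivalence (structuredArrowOpEquivalence Φ U)

lemma exists_rep {U : X.ProEt} (y : (L Φ F).obj (op U)) :
    ∃ (V : C) (a : U ⟶ Φ.obj V) (x : F.obj.obj (op V)), ι Φ F a x = y := by
  have := isFiltered Φ U
  obtain ⟨j, x, hx⟩ := Concrete.isColimit_exists_rep _ (isColimit Φ F U) y
  exact ⟨j.left.unop, j.hom.unop, x, hx⟩

lemma exists_rep₂ {U : X.ProEt} (y y' : (L Φ F).obj (op U)) :
    ∃ (V : C) (a : U ⟶ Φ.obj V) (x x' : F.obj.obj (op V)),
      ι Φ F a x = y ∧ ι Φ F a x' = y' := by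
  have := isFiltered Φ U
  obtain ⟨j, x, hx⟩ := Concrete.isColimit_exists_rep _ (isColimit Φ F U) y
  obtain ⟨j', x', hx'⟩ := Concrete.isColimit_exists_rep _ (isColimit Φ F U) y'
  refine ⟨(IsFiltered.max j j').left.unop, (IsFiltered.max j j').hom.unop,
    F.obj.map (IsFiltered.leftToMax j j').left x, F.obj.map (IsFiltered.rightToMax j j').left x', ?_, ?_⟩
  · rw [← hx]
    exact ConcreteCategory.congr_hom
      (Cocone.w ((Functor.LeftExtension.mk _ (Φ.op.leftKanExtensionUnit F.obj)).coconeAt (op U))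
        (IsFiltered.leftToMax j j')) x
  · rw [← hx']
    exact ConcreteCategory.congr_hom
      (Cocone.w ((Functor.LeftExtension.mk _ (Φ.op.leftKanExtensionUnit F.obj)).coconeAt (op U))
        (IsFiltered.rightToMax j j')) x'

lemma exists_eq {U : X.ProEt} {V : C} {a : U ⟶ Φ.obj V} {x x' : F.obj.obj (op V)}
    (h : ι Φ F a x = ι Φ F a x') :
    ∃ (V' : C) (g : V' ⟶ V) (b : U ⟶ Φ.obj V'),
      b ≫ Φ.map g = a ∧ F.obj.map g.op x = F.obj.map g.op x' := by
  have := isFiltered Φ U
  obtain ⟨k, φ, ψ, hφ⟩ := Concrete.isColimit_exists_of_rep_eq _ (isColimit Φ F U)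
    (i := CostructuredArrow.mk (Y := op V) a.op) (j := CostructuredArrow.mk (Y := op V) a.op) x x' h
  refine ⟨(IsFiltered.coeq φ ψ).left.unop, (φ ≫ IsFiltered.coeqHom φ ψ).left.unop,
    (IsFiltered.coeq φ ψ).hom.unop, ?_, ?_⟩
  · exact congrArg Quiver.Hom.unop (CostructuredArrow.w (φ ≫ IsFiltered.coeqHom φ ψ))
  · change F.obj.map (φ ≫ IsFiltered.coeqHom φ ψ).left x =
      F.obj.map (φ ≫ IsFiltered.coeqHom φ ψ).left x'
    conv_rhs => rw [IsFiltered.coeq_condition]
    rw [Comma.comp_left, Comma.comp_left, Functor.map_comp, Functor.map_comp]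
    exact congrArg (F.obj.map (IsFiltered.coeqHom φ ψ).left) hφ

/-- The presheaf pullback turns decompositions into products. -/
theorem splitsPieces (hC : HasSums J) (U : X.ProEt) [CompactSpace U.left] :
    Sheafify.SplitsPieces (L Φ F ⋙ forget AddCommGrpCat.{u + 1}) U := by
  intro n W hW hd hu t
  choose V a x hx using fun k => exists_rep Φ F (t k)
  obtain ⟨S, inc, hglue, -⟩ := hC n V
  obtain ⟨b, hb, -⟩ := Sheafify.existsUnique_desc U W hW hd hu fun k => a k ≫ Φ.map (inc k)
  obtain ⟨z, hz, -⟩ := hglue F x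
  refine ⟨ι Φ F b z, fun k => ?_, fun s hs => ?_⟩
  · change (L Φ F).map _ (ι Φ F b z) = t k
    rw [map_ι, hb, ← ι_map, hz k]
    exact hx k
  obtain ⟨V₀, a₀, y, y', hy, hy'⟩ := exists_rep₂ Φ F s (ι Φ F b z)
  have heq : ∀ k, ι Φ F (Decomp.incl U (W k) ≫ a₀) y = ι Φ F (Decomp.incl U (W k) ≫ a₀) y' :=
    fun k => by
      rw [← map_ι, ← map_ι, hy, hy', map_ι Φ F _ b, hb, ← ι_map, hz k]
      exact (hs k).trans (hx k).symm
  choose V' g c hc hg using fun k => exists_eq Φ F (heq k)
  obtain ⟨S', inc', hglue', hdesc'⟩ := hC n V'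
  obtain ⟨c', hc', -⟩ := Sheafify.existsUnique_desc U W hW hd hu fun k => c k ≫ Φ.map (inc' k)
  obtain ⟨g', hg'⟩ := hdesc' V₀ g
  have hcg : c' ≫ Φ.map g' = a₀ := by
    refine (Sheafify.existsUnique_desc U W hW hd hu fun k => Decomp.incl U (W k) ≫ a₀).unique
      (fun k => ?_) (fun k => rfl)
    rw [← Category.assoc, hc', Category.assoc, ← Functor.map_comp, hg', hc]
  have hyy : F.obj.map g'.op y = F.obj.map g'.op y' :=
    (hglue' F fun k => F.obj.map (g k).op y).unique
      (fun k => by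
        change (F.obj.map g'.op ≫ F.obj.map (inc' k).op) y = _
        rw [← Functor.map_comp, ← op_comp, hg'])
      (fun k => by
        change (F.obj.map g'.op ≫ F.obj.map (inc' k).op) y' = _
        rw [← Functor.map_comp, ← op_comp, hg']
        exact (hg k).symm)
  rw [← hy, ← hy', ← hcg, ← ι_map, ← ι_map, hyy]

omit [RepresentablyFlat Φ] in
/-- Sections of a sheafification over w-contractible affine objects. -/
theorem bijective_of_locallyBijective {P : X.ProEtᵒᵖ ⥤ AddCommGrpCat.{u + 1}} (Q : ProEtS.AbP X)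
    (η : P ⟶ Q.obj) [Presheaf.IsLocallyInjective (Scheme.ProEt.topology X) η]
    [Presheaf.IsLocallySurjective (Scheme.ProEt.topology X) η]
    (U : X.ProEt) [IsAffine U.left] (hwc : EtPBC.IsWContractible ↥Γ(U.left, ⊤))
    (hP : Sheafify.SplitsPieces (P ⋙ forget AddCommGrpCat.{u + 1}) U) :
    Function.Bijective (η.app (op U)) := by
  let J := Scheme.ProEt.topology X
  refine ⟨fun s s' h => ?_, fun x => ?_⟩
  · obtain ⟨n, W, hW, hd, hu, hR⟩ := Decomp.exists_decomposition hwc
      (Presheaf.equalizerSieve_mem J η (X := op U) s s' h)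
    exact (hP n W hW hd hu fun k => P.map (Decomp.incl U (W k)).op s').unique (fun k => hR k)
      (fun _ => rfl)
  · obtain ⟨n, W, hW, hd, hu, hR⟩ := Decomp.exists_decomposition hwc
      (Presheaf.imageSieve_mem J η (U := op U) x)
    choose t ht using hR
    obtain ⟨s, hs, -⟩ := hP n W hW hd hu t
    refine ⟨s, (Decomp.existsUnique_glue ((sheafCompose J (forget AddCommGrpCat.{u + 1})).obj Q)
      W hW hd hu _).unique (fun k => ?_) (fun k => rfl)⟩
    change Q.obj.map (Decomp.incl U (W k)).op (η.app (op U) s) = Q.obj.map (Decomp.incl U (W k)).op x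
    refine Eq.trans ?_ (ht k)
    rw [← hs k]
    exact (ConcreteCategory.congr_hom (η.naturality (Decomp.incl U (W k)).op) s).symm

variable [(Φ.sheafPushforwardContinuous AddCommGrpCat.{u + 1} J
  (Scheme.ProEt.topology X)).IsRightAdjoint]

/-- The canonical element of the sheaf pullback. -/
noncomputable def sec {U : X.ProEt} {V : C} (a : U ⟶ Φ.obj V) (x : F.obj.obj (op V)) :
    ((Φ.sheafPullback AddCommGrpCat.{u + 1} J (Scheme.ProEt.topology X)).obj F).obj.obj (op U) :=
  ((Φ.sheafPullback AddCommGrpCat.{u + 1} J (Scheme.ProEt.topology X)).obj F).obj.map a.op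
    (((Φ.sheafAdjunctionContinuous AddCommGrpCat.{u + 1} J (Scheme.ProEt.topology X)).unit.app F).hom.app
      (op V) x)

/-- The comparison of the presheaf pullback with the sheaf pullback. -/
noncomputable def η : L Φ F ⟶
    ((Φ.sheafPullback AddCommGrpCat.{u + 1} J (Scheme.ProEt.topology X)).obj F).obj :=
  toSheafify (Scheme.ProEt.topology X) (L Φ F) ≫
    ((Functor.sheafPullbackConstruction.sheafPullbackIso Φ AddCommGrpCat.{u + 1} J
      (Scheme.ProEt.topology X)).inv.app F).hom

omit [RepresentablyFlat Φ] in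
lemma η_ι {U : X.ProEt} {V : C} (a : U ⟶ Φ.obj V) (x : F.obj.obj (op V)) :
    (η Φ F).app (op U) (ι Φ F a x) = sec Φ F a x := by
  have h1 := ConcreteCategory.congr_hom ((η Φ F).naturality a.op)
    ((Φ.op.lanUnit.app F.obj).app (op V) x)
  refine h1.trans ?_
  refine congrArg (((Φ.sheafPullback AddCommGrpCat.{u + 1} J (Scheme.ProEt.topology X)).obj F).obj.map a.op) ?_
  have h2 := Adjunction.unit_leftAdjointUniq_hom_app
    (Functor.sheafPullbackConstruction.sheafAdjunctionContinuous Φ AddCommGrpCat.{u + 1} J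
      (Scheme.ProEt.topology X))
    (Φ.sheafAdjunctionContinuous AddCommGrpCat.{u + 1} J (Scheme.ProEt.topology X)) F
  have h3 := ConcreteCategory.congr_hom (congr_app (congrArg (fun t => t.hom) h2) (op V)) x
  refine Eq.trans ?_ h3
  simp [η, Functor.sheafPullbackConstruction.sheafAdjunctionContinuous,
    Functor.sheafPullbackConstruction.sheafPullbackIso, Adjunction.restrictFullyFaithful]
  rfl

omit [RepresentablyFlat Φ] in
lemma map_sec {U U' : X.ProEt} {V : C} (i : U' ⟶ U) (a : U ⟶ Φ.obj V)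
    (x : F.obj.obj (op V)) :
    ((Φ.sheafPullback AddCommGrpCat.{u + 1} J (Scheme.ProEt.topology X)).obj F).obj.map i.op
      (sec Φ F a x) = sec Φ F (i ≫ a) x := by
  simp only [sec, op_comp, Functor.map_comp]
  rfl

omit [RepresentablyFlat Φ] in
lemma sec_map {U : X.ProEt} {V V' : C} (h : V' ⟶ V) (b : U ⟶ Φ.obj V')
    (x : F.obj.obj (op V)) :
    sec Φ F b (F.obj.map h.op x) = sec Φ F (b ≫ Φ.map h) x := by
  rw [← η_ι, ← η_ι, ι_map]

theorem bijective_η (hC : HasSums J) (U : X.ProEt) [IsAffine U.left]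
    (hwc : EtPBC.IsWContractible ↥Γ(U.left, ⊤)) : Function.Bijective ((η Φ F).app (op U)) := by
  let e := (Functor.sheafPullbackConstruction.sheafPullbackIso Φ AddCommGrpCat.{u + 1} J
    (Scheme.ProEt.topology X)).inv.app F
  let e' : sheafify (Scheme.ProEt.topology X) (L Φ F) ⟶
      ((Φ.sheafPullback AddCommGrpCat.{u + 1} J (Scheme.ProEt.topology X)).obj F).obj := e.hom
  have he : IsIso e' :=
    (inferInstance : IsIso ((sheafToPresheaf (Scheme.ProEt.topology X) AddCommGrpCat.{u + 1}).map e))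
  haveI : Presheaf.IsLocallyInjective (Scheme.ProEt.topology X) (η Φ F) := by
    have : Presheaf.IsLocallyInjective (Scheme.ProEt.topology X) e' :=
      Presheaf.isLocallyInjective_of_injective _ _ fun U =>
        ((ConcreteCategory.bijective_of_isIso (e'.app U))).1
    exact Presheaf.isLocallyInjective_comp _ (toSheafify (Scheme.ProEt.topology X) (L Φ F)) e'
  haveI : Presheaf.IsLocallySurjective (Scheme.ProEt.topology X) (η Φ F) := by
    have : Presheaf.IsLocallySurjective (Scheme.ProEt.topology X) e' :=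
      Presheaf.isLocallySurjective_of_surjective _ _ fun U =>
        ((ConcreteCategory.bijective_of_isIso (e'.app U))).2
    exact Presheaf.isLocallySurjective_comp _ (toSheafify (Scheme.ProEt.topology X) (L Φ F)) e'
  exact bijective_of_locallyBijective _ (η Φ F) U hwc (splitsPieces Φ F hC U)

/-- Every section over a w-contractible affine object comes from the source site. -/
theorem exists_sec (hC : HasSums J) {U : X.ProEt} [IsAffine U.left]
    (hwc : EtPBC.IsWContractible ↥Γ(U.left, ⊤))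
    (y : ((Φ.sheafPullback AddCommGrpCat.{u + 1} J (Scheme.ProEt.topology X)).obj F).obj.obj (op U)) :
    ∃ (V : C) (a : U ⟶ Φ.obj V) (x : F.obj.obj (op V)), sec Φ F a x = y := by
  obtain ⟨z, rfl⟩ := (bijective_η Φ F hC U hwc).2 y
  obtain ⟨V, a, x, rfl⟩ := exists_rep Φ F z
  exact ⟨V, a, x, (η_ι Φ F a x).symm⟩

/-- Equality of sections over a w-contractible affine object is detected in the source site. -/
theorem exists_sec_eq (hC : HasSums J) {U : X.ProEt} [IsAffine U.left]
    (hwc : EtPBC.IsWContractible ↥Γ(U.left, ⊤)) {V : C} {a : U ⟶ Φ.obj V}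
    {x x' : F.obj.obj (op V)} (h : sec Φ F a x = sec Φ F a x') :
    ∃ (V' : C) (g : V' ⟶ V) (b : U ⟶ Φ.obj V'),
      b ≫ Φ.map g = a ∧ F.obj.map g.op x = F.obj.map g.op x' := by
  refine exists_eq Φ F ((bijective_η Φ F hC U hwc).1 ?_)
  rw [η_ι, η_ι, h]

end Groth.Agent.Lib.ProEt.AbPullback
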