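import Groth.Agent.Lib.ProEt.Cochain
import Mathlib.CategoryTheory.Preadditive.Injective.Resolution
import Mathlib.CategoryTheory.Preadditive.Injective.Preserves
import Mathlib.CategoryTheory.Sites.EpiMono
import Mathlib.CategoryTheory.Limits.Preserves.Shapes.Pullbacks

/-!
A Cartan criterion: sheaves with vanishing Cech cocycles have exact sections of injective
resolutions.
-/

set_option autoImplicit false

universe u

open CategoryTheory CategoryTheory.Limits Opposite

namespace Groth.Agent.Lib.ProEt.CechCrit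

open Cochain

section Pow

variable {C : Type (u + 1)} [Category.{u} C] [HasPullbacks C] {P U : C} (c : P ⟶ U)

/-- Iterated fibre powers with their tautological tuples. -/
noncomputable def pow : ∀ n : ℕ, Σ V : C, Tup c n V
  | 0 => ⟨P, ⟨fun _ => 𝟙 P, fun _ _ => rfl⟩⟩
  | n + 1 =>
    ⟨pullback c ((pow n).2.1 0 ≫ c),
      ⟨Fin.cons (pullback.fst _ _) fun a => pullback.snd _ _ ≫ (pow n).2.1 a, fun a b => by
        have h : ∀ a, (Fin.cons (pullback.fst _ _) (fun a => pullback.snd _ _ ≫ (pow n).2.1 a) :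
            Fin (n + 2) → (pullback c ((pow n).2.1 0 ≫ c) ⟶ P)) a ≫ c =
            pullback.snd _ _ ≫ (pow n).2.1 0 ≫ c := by
          intro a
          induction a using Fin.cases with
          | zero => rw [Fin.cons_zero, pullback.condition]
          | succ a => rw [Fin.cons_succ, Category.assoc, (pow n).2.2 a 0]
        rw [h a, h b]⟩⟩

/-- The fibre power. -/
noncomputable abbrev obj (n : ℕ) : C := (pow c n).1

/-- Its tuple. -/
noncomputable abbrev univ (n : ℕ) : Tup c n (obj c n) := (pow c n).2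

variable {c}

/-- Image of a tuple. -/
def mapTup {D : Type (u + 1)} [Category.{u} D] (G : C ⥤ D) {n : ℕ} {W : C} (t : Tup c n W) :
    Tup (G.map c) n (G.obj W) :=
  ⟨fun a => G.map (t.1 a), fun a b => by rw [← G.map_comp, t.2 a b, G.map_comp]⟩

theorem isUniv_map {D : Type (u + 1)} [Category.{u} D] (G : C ⥤ D)
    [PreservesLimitsOfShape WalkingCospan G] (n : ℕ) : IsUniv (mapTup G (univ c n)) := by
  induction n with
  | zero =>
    intro W t
    refine ⟨t.1 0, Subtype.ext (funext fun a => ?_), fun g hg => ?_⟩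
    · change t.1 0 ≫ G.map (𝟙 P) = _
      rw [G.map_id, Category.comp_id, Subsingleton.elim (α := Fin 1) a 0]
    · have h : g ≫ G.map (𝟙 P) = t.1 0 := congrArg (fun s => s.1 0) hg
      exact (((congrArg (g ≫ ·) (G.map_id P)).trans (Category.comp_id g)).symm).trans h
  | succ n ih =>
    intro W t
    let t' : Tup (G.map c) n W := face 0 t
    obtain ⟨g, hg, hgu⟩ := ih t'
    have hp : IsPullback (G.map (pullback.fst c ((univ c n).1 0 ≫ c))) (G.map (pullback.snd _ _))
        (G.map c) (G.map ((univ c n).1 0 ≫ c)) := (IsPullback.of_hasPullback _ _).map G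
    have hg0 : g ≫ G.map ((univ c n).1 0) = t.1 1 := congrArg (fun s => s.1 0) hg
    obtain ⟨l, hl₁, hl₂⟩ : ∃ l, l ≫ G.map (pullback.fst c ((univ c n).1 0 ≫ c)) = t.1 0 ∧
        l ≫ G.map (pullback.snd c ((univ c n).1 0 ≫ c)) = g :=
      ⟨hp.lift (t.1 0) g (by rw [G.map_comp, ← Category.assoc, hg0]; exact t.2 _ _),
        hp.lift_fst _ _ _, hp.lift_snd _ _ _⟩
    refine ⟨l, Subtype.ext (funext fun a => ?_), fun l' hl' => ?_⟩
    · induction a using Fin.cases with
      | zero => exact hl₁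
      | succ a =>
        change l ≫ G.map (pullback.snd _ _ ≫ (univ c n).1 a) = _
        rw [G.map_comp, ← Category.assoc, hl₂]
        exact congrArg (fun s => s.1 a) hg
    · refine hp.hom_ext ?_ ?_
      · exact (congrArg (fun s => s.1 0) hl').trans hl₁.symm
      · rw [hl₂]
        refine hgu _ (Subtype.ext (funext fun a => ?_))
        change (l' ≫ G.map (pullback.snd _ _)) ≫ G.map ((univ c n).1 a) = t.1 a.succ
        refine (Category.assoc _ _ _).trans ?_
        exact (congrArg (l' ≫ ·) (G.map_comp _ _).symm).trans (congrArg (fun s => s.1 a.succ) hl')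

theorem isUniv (n : ℕ) : IsUniv (univ c n) := fun _ t => isUniv_map (𝟭 C) n (c := c) t

end Pow

variable {C : Type (u + 1)} [Category.{u} C] {J : GrothendieckTopology C}
  [HasSheafify J AddCommGrpCat.{u + 1}]

/-- The data for the criterion. -/
structure Covers (J : GrothendieckTopology C) [HasSheafify J AddCommGrpCat.{u + 1}] where
  /-- The good objects. -/
  B : C → Prop
  /-- The good covers. -/
  Cov : ∀ ⦃P U : C⦄, (P ⟶ U) → Prop
  mem : ∀ ⦃P U : C⦄ (c : P ⟶ U), Cov c → Sieve.generate (Presieve.singleton c) ∈ J U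
  rep : ∀ ⦃P U : C⦄ (c : P ⟶ U), Cov c → ∀ n, ∃ (V : C) (u : Tup c n V), B V ∧ IsUniv u
  lift : ∀ ⦃U : C⦄, B U → ∃ (P : C) (c : P ⟶ U), Cov c ∧
    ∀ (X Y : Sheaf J AddCommGrpCat.{u + 1}) (φ : X ⟶ Y), Epi φ →
      Function.Surjective (φ.hom.app (op P))

variable (𝒞 : Covers J)

/-- Cocycles on good covers are coboundaries. -/
def Good (F : Sheaf J AddCommGrpCat.{u + 1}) : Prop :=
  ∀ ⦃P U : C⦄ (c : P ⟶ U), 𝒞.Cov c → ∀ (n : ℕ) (x : Coch c F.obj (n + 1)),
    (∀ W t, (δ x).app W t = 0) → ∃ y, δ y = x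

/-- Injective sheaves are injective presheaves. -/
lemma injective_obj (I : Sheaf J AddCommGrpCat.{u + 1}) [Injective I] : Injective I.obj :=
  Injective.injective_of_adjoint (sheafificationAdjunction J AddCommGrpCat.{u + 1}) I

lemma good_of_injective (I : Sheaf J AddCommGrpCat.{u + 1}) [Injective I] : Good 𝒞 I :=
  fun _ _ _ _ _ x hx =>
    haveI := injective_obj I
    exists_eq_δ_of_injective x hx

/-- Left exactness of sections. -/
lemma exists_sections_preimage {S : ShortComplex (Sheaf J AddCommGrpCat.{u + 1})} (hS : S.Exact)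
    [Mono S.f] (W : C) (x : S.X₂.obj.obj (op W)) (hx : S.g.hom.app (op W) x = 0) :
    ∃ y, S.f.hom.app (op W) y = x := by
  let G := sheafToPresheaf J AddCommGrpCat.{u + 1} ⋙ (evaluation Cᵒᵖ AddCommGrpCat.{u + 1}).obj (op W)
  have h := KernelFork.mapIsLimit _ hS.fIsKernel G
  have h' : (ShortComplex.mk (G.map S.f) (G.map S.g)
      (by rw [← G.map_comp, S.zero, G.map_zero])).Exact := ShortComplex.exact_of_f_is_kernel _ h
  exact (ShortComplex.ab_exact_iff _).mp h' x hx

lemma injective_app {X Y : Sheaf J AddCommGrpCat.{u + 1}} (f : X ⟶ Y) [Mono f] (W : C) :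
    Function.Injective (f.hom.app (op W)) := by
  let G := sheafToPresheaf J AddCommGrpCat.{u + 1} ⋙ (evaluation Cᵒᵖ AddCommGrpCat.{u + 1}).obj (op W)
  haveI : Mono (G.map f) := inferInstance
  exact (AddCommGrpCat.mono_iff_injective (G.map f)).mp inferInstance

variable {𝒞} {S : ShortComplex (Sheaf J AddCommGrpCat.{u + 1})}

/-- A cochain killed by `g` comes from the kernel. -/
lemma exists_push_eq (hS : S.ShortExact) {P U : C} {c : P ⟶ U} {n : ℕ} (x : Coch c S.X₂.obj n)
    (hx : ∀ W t, S.g.hom.app (op W) (x.app W t) = 0) :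
    ∃ y : Coch c S.X₁.obj n, push S.f.hom y = x := by
  haveI := hS.mono_f
  choose y hy using fun W t => exists_sections_preimage hS.exact W (x.app W t) (hx W t)
  refine ⟨⟨y, fun {W W'} g t => injective_app S.f W' ?_⟩, Coch.ext hy⟩
  rw [hy, x.naturality, ← hy]
  exact (ConcreteCategory.congr_hom (S.f.hom.naturality g.op) (y W t)).symm

lemma eq_zero_of_push (hS : S.ShortExact) {P U : C} {c : P ⟶ U} {n : ℕ} (y : Coch c S.X₁.obj n)
    (h : ∀ W t, (push S.f.hom y).app W t = 0) (W : C) (t : Tup c n W) : y.app W t = 0 := by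
  haveI := hS.mono_f
  exact injective_app S.f W ((h W t).trans (map_zero _).symm)

/-- Sections over good objects lift. -/
theorem surjective_of_good (hS : S.ShortExact) (h₁ : Good 𝒞 S.X₁) {U : C} (hU : 𝒞.B U) :
    Function.Surjective (S.g.hom.app (op U)) := by
  intro q
  obtain ⟨P, c, hc, hP⟩ := 𝒞.lift hU
  obtain ⟨j, hj⟩ := hP _ _ S.g hS.epi_g (S.X₃.obj.map c.op q)
  let t₀ : Tup c 0 P := ⟨fun _ => 𝟙 P, fun _ _ => rfl⟩
  have ht₀ : IsUniv t₀ := fun W t => ⟨t.1 0, Subtype.ext (funext fun a =>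
    (Category.comp_id _).trans (congrArg t.1 (Subsingleton.elim (α := Fin 1) 0 a))), fun g hg =>
      ((Category.comp_id g).symm.trans (congrArg (fun s => s.1 0) hg))⟩
  let z : Coch c S.X₂.obj 0 := ofUniv ht₀ j
  have hz : ∀ W (t : Tup c 0 W), z.app W t = S.X₂.obj.map (t.1 0).op j := fun W t => by
    have e : res (t.1 0) t₀ = t := Subtype.ext (funext fun a =>
      (Category.comp_id _).trans (congrArg t.1 (Subsingleton.elim (α := Fin 1) 0 a)))
    exact (congrArg (z.app W) e.symm).trans (ofUniv_app ht₀ j (t.1 0))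
  have hgz : ∀ W (t : Tup c 0 W), S.g.hom.app (op W) (z.app W t) =
      S.X₃.obj.map (t.1 0 ≫ c).op q := fun W t => by
    rw [hz, op_comp, Functor.map_comp, ConcreteCategory.comp_apply, ← hj]
    exact ConcreteCategory.congr_hom (S.g.hom.naturality (t.1 0).op) j
  obtain ⟨x, hx⟩ := exists_push_eq hS (δ z) fun W t => by
    rw [δ_app, map_sum, Fin.sum_univ_two, map_zsmul, map_zsmul, hgz, hgz]
    have : (face (0 : Fin 2) t).1 0 ≫ c = (face (1 : Fin 2) t).1 0 ≫ c := t.2 _ _
    rw [this]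
    simp
  obtain ⟨y, hy⟩ := h₁ c hc 0 x (eq_zero_of_push hS _ fun W t => by rw [push_δ, hx]; exact δ_δ z W t)
  let j' : S.X₂.obj.obj (op P) := j - S.f.hom.app (op P) (y.app P t₀)
  have hj' : ∀ W (a : W ⟶ P), S.X₂.obj.map a.op j' =
      z.app W ⟨fun _ => a, fun _ _ => rfl⟩ - (push S.f.hom y).app W ⟨fun _ => a, fun _ _ => rfl⟩ := by
    intro W a
    rw [map_sub]
    refine congrArg₂ (fun a b : S.X₂.obj.obj (op W) => a - b) (hz W ⟨fun _ => a, fun _ _ => rfl⟩).symm ?_
    change _ = S.f.hom.app (op W) _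
    rw [show (⟨fun _ => a, fun _ _ => rfl⟩ : Tup c 0 W) = res a t₀ from
      Subtype.ext (funext fun _ => (Category.comp_id _).symm), y.naturality]
    exact (ConcreteCategory.congr_hom (S.f.hom.naturality a.op) _).symm
  have hsheaf : Presieve.IsSheaf J (S.X₂.obj ⋙ forget AddCommGrpCat.{u + 1}) :=
    (isSheaf_iff_isSheaf_of_type _ _).mp
      ((Presheaf.isSheaf_iff_isSheaf_forget _ S.X₂.obj (forget AddCommGrpCat.{u + 1})).mp S.X₂.property)
  obtain ⟨t, ht, -⟩ := Presieve.isSheafFor_singleton.mp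
    ((Presieve.isSheafFor_iff_generate _).mpr (hsheaf _ (𝒞.mem c hc))) j' fun {W} a b hab => by
      change S.X₂.obj.map a.op j' = S.X₂.obj.map b.op j'
      let t : Tup c 1 W := ⟨![b, a], fun i k => by fin_cases i <;> fin_cases k <;> simp [hab]⟩
      have h0 : face 0 t = ⟨fun _ => a, fun _ _ => rfl⟩ := Subtype.ext (funext fun i => by
        fin_cases i; simp [face, t])
      have h1 : face 1 t = ⟨fun _ => b, fun _ _ => rfl⟩ := Subtype.ext (funext fun i => by
        fin_cases i; simp [face, t])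
      have h := congrArg (fun w => w.app W t) ((push_δ S.f.hom y).symm.trans ((congrArg _ hy).trans hx))
      rw [δ_app, δ_app, Fin.sum_univ_two, Fin.sum_univ_two, h0, h1] at h
      simp only [Fin.val_zero, pow_zero, one_smul, Fin.val_one, pow_one, neg_smul] at h
      rw [hj', hj', sub_eq_sub_iff_sub_eq_sub]
      rw [← sub_eq_add_neg, ← sub_eq_add_neg] at h
      exact h.symm
  refine ⟨t, ?_⟩
  have hsep : Presieve.IsSheaf J (S.X₃.obj ⋙ forget AddCommGrpCat.{u + 1}) :=
    (isSheaf_iff_isSheaf_of_type _ _).mp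
      ((Presheaf.isSheaf_iff_isSheaf_forget _ S.X₃.obj (forget AddCommGrpCat.{u + 1})).mp S.X₃.property)
  refine (hsep.isSeparated _ (𝒞.mem c hc)).ext fun W h hh => ?_
  obtain ⟨_, a, _, hh', rfl⟩ := hh
  cases hh'
  change S.X₃.obj.map (a ≫ c).op (S.g.hom.app (op U) t) = S.X₃.obj.map (a ≫ c).op q
  rw [op_comp, Functor.map_comp, ConcreteCategory.comp_apply, ConcreteCategory.comp_apply, ← hj]
  have e : S.g.hom.app (op P) (S.X₂.obj.map c.op t) = S.X₃.obj.map c.op (S.g.hom.app (op U) t) :=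
    ConcreteCategory.congr_hom (S.g.hom.naturality c.op) t
  rw [← e, show S.X₂.obj.map c.op t = j' from ht, map_sub]
  have e0 : S.g.hom.app (op P) (S.f.hom.app (op P) (y.app P t₀)) = 0 :=
    ConcreteCategory.congr_hom (NatTrans.congr_app (congrArg (fun φ => φ.hom) S.zero) (op P)) _
  rw [e0, sub_zero]

/-- The quotient of good sheaves is good. -/
theorem good_X₃ (hS : S.ShortExact) (h₁ : Good 𝒞 S.X₁) (h₂ : Good 𝒞 S.X₂) : Good 𝒞 S.X₃ := by
  intro P U c hc n x hx
  obtain ⟨V, v, hV, hv⟩ := 𝒞.rep c hc (n + 1)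
  obtain ⟨a, ha⟩ := surjective_of_good hS h₁ hV (x.app V v)
  let y := ofUniv hv a
  have hy : push S.g.hom y = x := eq_of_univ hv (by
    change S.g.hom.app (op V) (y.app V v) = _
    rw [ofUniv_univ, ha])
  obtain ⟨w, hw⟩ := exists_push_eq hS (δ y) fun W t => by
    change (push S.g.hom (δ y)).app W t = 0
    rw [push_δ, hy]
    exact hx W t
  obtain ⟨r, hr⟩ := h₁ c hc (n + 1) w (eq_zero_of_push hS _ fun W t => by
    rw [push_δ, hw]; exact δ_δ y W t)
  let y' : Coch c S.X₂.obj (n + 1) :=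
    { app := fun W t => y.app W t - (push S.f.hom r).app W t
      naturality := fun g t => by rw [y.naturality, (push S.f.hom r).naturality, map_sub] }
  obtain ⟨e, he⟩ := h₂ c hc n y' fun W t => by
    have h := congrArg (fun z => z.app W t) ((push_δ S.f.hom r).symm.trans ((congrArg _ hr).trans hw))
    simp only [δ_app] at h ⊢
    simp only [y', smul_sub, Finset.sum_sub_distrib, h, sub_self]
  refine ⟨push S.g.hom e, ?_⟩
  rw [← push_δ, he]
  ext W t
  change S.g.hom.app (op W) (y.app W t - S.f.hom.app (op W) (r.app W t)) = _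
  have e0 : S.g.hom.app (op W) (S.f.hom.app (op W) (r.app W t)) = 0 :=
    ConcreteCategory.congr_hom (NatTrans.congr_app (congrArg (fun φ => φ.hom) S.zero) (op W)) _
  rw [map_sub, e0, sub_zero]
  exact congrArg (fun z => z.app W t) hy

variable {F : Sheaf J AddCommGrpCat.{u + 1}} (R : InjectiveResolution F)

/-- The cycles of an injective resolution of a good sheaf are good. -/
theorem exists_good_cycles (hF : Good 𝒞 F) (n : ℕ) :
    ∃ (Z : Sheaf J AddCommGrpCat.{u + 1}) (ι : Z ⟶ R.cocomplex.X n) (w : ι ≫ R.cocomplex.d n (n + 1) = 0),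
      Mono ι ∧ Good 𝒞 Z ∧ (ShortComplex.mk ι (R.cocomplex.d n (n + 1)) w).Exact := by
  induction n with
  | zero =>
    refine ⟨F, R.ι.f 0, R.ι_f_zero_comp_complex_d, ?_, hF, ?_⟩
    · exact mono_of_isLimit_fork R.isLimitKernelFork
    · exact ShortComplex.exact_of_f_is_kernel _ R.isLimitKernelFork
  | succ n ih =>
    obtain ⟨Z, ι, w, hι, hZ, hex⟩ := ih
    haveI := hι
    let π := cokernel.π ι
    let d' : cokernel ι ⟶ R.cocomplex.X (n + 1) := cokernel.desc ι (R.cocomplex.d n (n + 1)) w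
    have hS : (ShortComplex.mk ι π (cokernel.condition ι)).ShortExact :=
      { exact := ShortComplex.exact_of_g_is_cokernel _ (cokernelIsCokernel ι) }
    have hd : Mono d' := hex.mono_cokernelDesc
    have hw : d' ≫ R.cocomplex.d (n + 1) (n + 2) = 0 := by
      rw [← cancel_epi π]
      simp [π, d']
    refine ⟨cokernel ι, d', hw, hd, good_X₃ hS hZ (good_of_injective 𝒞 _), ?_⟩
    let φ : ShortComplex.mk (R.cocomplex.d n (n + 1)) (R.cocomplex.d (n + 1) (n + 2)) (by simp) ⟶
        ShortComplex.mk d' (R.cocomplex.d (n + 1) (n + 2)) hw :=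
      { τ₁ := π, τ₂ := 𝟙 _, τ₃ := 𝟙 _, comm₁₂ := by simp [π, d'] }
    haveI : Epi φ.τ₁ := (inferInstance : Epi π)
    haveI : IsIso φ.τ₂ := (inferInstance : IsIso (𝟙 _))
    haveI : Mono φ.τ₃ := (inferInstance : Mono (𝟙 _))
    exact (ShortComplex.exact_iff_of_epi_of_isIso_of_mono φ).mp (R.exact_succ n)

/-- Sections of an injective resolution over a good object are exact in positive degrees. -/
theorem exists_eq_d (hF : Good 𝒞 F) {U : C} (hU : 𝒞.B U) (n : ℕ)
    (x : (R.cocomplex.X (n + 1)).obj.obj (op U))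
    (hx : (R.cocomplex.d (n + 1) (n + 2)).hom.app (op U) x = 0) :
    ∃ y, (R.cocomplex.d n (n + 1)).hom.app (op U) y = x := by
  obtain ⟨Z, ι, w, hι, hZ, hex⟩ := exists_good_cycles R hF n
  haveI := hι
  let π := cokernel.π ι
  let d' : cokernel ι ⟶ R.cocomplex.X (n + 1) := cokernel.desc ι (R.cocomplex.d n (n + 1)) w
  have hS : (ShortComplex.mk ι π (cokernel.condition ι)).ShortExact :=
    { exact := ShortComplex.exact_of_g_is_cokernel _ (cokernelIsCokernel ι) }
  have hd : Mono d' := hex.mono_cokernelDesc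
  have hw : d' ≫ R.cocomplex.d (n + 1) (n + 2) = 0 := by
    rw [← cancel_epi π]
    simp [π, d']
  let φ : ShortComplex.mk (R.cocomplex.d n (n + 1)) (R.cocomplex.d (n + 1) (n + 2)) (by simp) ⟶
      ShortComplex.mk d' (R.cocomplex.d (n + 1) (n + 2)) hw :=
    { τ₁ := π, τ₂ := 𝟙 _, τ₃ := 𝟙 _, comm₁₂ := by simp [π, d'] }
  haveI : Epi φ.τ₁ := (inferInstance : Epi π)
  haveI : IsIso φ.τ₂ := (inferInstance : IsIso (𝟙 _))
  haveI : Mono φ.τ₃ := (inferInstance : Mono (𝟙 _))
  have hex' := (ShortComplex.exact_iff_of_epi_of_isIso_of_mono φ).mp (R.exact_succ n)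
  haveI : Mono (ShortComplex.mk d' (R.cocomplex.d (n + 1) (n + 2)) hw).f := hd
  obtain ⟨z, hz⟩ := exists_sections_preimage hex' U x hx
  obtain ⟨y, hy⟩ := surjective_of_good hS hZ hU z
  refine ⟨y, ?_⟩
  rw [← hz, ← hy]
  exact (ConcreteCategory.congr_hom (NatTrans.congr_app
    (congrArg (fun φ => φ.hom) (cokernel.π_desc ι (R.cocomplex.d n (n + 1)) w)) (op U)) y).symm

end Groth.Agent.Lib.ProEt.CechCrit
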