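import Groth.Agent.Lib.ProEt.Criterion
import Mathlib.CategoryTheory.Limits.Preserves.Shapes.Products
import Mathlib.CategoryTheory.Limits.Shapes.Products
import Mathlib.CategoryTheory.Sites.LocallyInjective

/-!
Sheafification on weakly contractible affine objects.
-/

set_option autoImplicit false

universe u

open CategoryTheory CategoryTheory.Limits AlgebraicGeometry Opposite

namespace Groth.Agent.Lib.ProEt.Sheafify

set_option backward.isDefEq.respectTransparency.types false

variable {X : Scheme.{u}}

/-- A presheaf turns finite clopen decompositions of `U` into products. -/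
def SplitsPieces (P : X.ProEtᵒᵖ ⥤ Type (u + 1)) (U : X.ProEt) : Prop :=
  ∀ (n : ℕ) (W : Fin n → U.left.Opens), (∀ k, IsClopen ((W k : Set ↥U.left))) →
    Pairwise (fun k l => Disjoint (W k : Set ↥U.left) (W l)) →
    (⋃ k, (W k : Set ↥U.left)) = Set.univ →
    ∀ t : ∀ k, P.obj (op (Decomp.piece U (W k))),
      ∃! s : P.obj (op U), ∀ k, P.map (Decomp.incl U (W k)).op s = t k

/-- Sections on affine weakly contractible objects agree with those of the sheafification. -/
theorem bijective_toSheafify (P : X.ProEtᵒᵖ ⥤ Type (u + 1)) (U : X.ProEt) [IsAffine U.left]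
    (hwc : EtPBC.IsWContractible ↥Γ(U.left, ⊤)) (hP : SplitsPieces P U) :
    Function.Bijective ((toSheafify (Scheme.ProEt.topology X) P).app (op U)) := by
  let J := Scheme.ProEt.topology X
  let η := toSheafify J P
  have hli : Presheaf.IsLocallyInjective J η := inferInstance
  have hls : Presheaf.IsLocallySurjective J η := inferInstance
  refine ⟨fun s s' h => ?_, fun x => ?_⟩
  · obtain ⟨n, W, hW, hd, hu, hR⟩ := Decomp.exists_decomposition hwc
      (Presheaf.equalizerSieve_mem J η (X := op U) s s' h)
    exact (hP n W hW hd hu fun k => P.map (Decomp.incl U (W k)).op s').unique (fun k => hR k)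
      (fun _ => rfl)
  · obtain ⟨n, W, hW, hd, hu, hR⟩ := Decomp.exists_decomposition hwc
      (Presheaf.imageSieve_mem J η (U := op U) x)
    choose t ht using hR
    obtain ⟨s, hs, -⟩ := hP n W hW hd hu t
    refine ⟨s, (Decomp.existsUnique_glue ((presheafToSheaf J _).obj P) W hW hd hu _).unique
      (fun k => ?_) (fun k => rfl)⟩
    change (sheafify J P).map (Decomp.incl U (W k)).op (η.app (op U) s) =
      (sheafify J P).map (Decomp.incl U (W k)).op x
    refine Eq.trans ?_ (ht k)
    rw [← hs k]
    exact (ConcreteCategory.congr_hom (η.naturality (Decomp.incl U (W k)).op) s).symm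

section Cofan

variable (U : X.ProEt) [CompactSpace U.left] {n : ℕ} (W : Fin n → U.left.Opens)
  (hW : ∀ k, IsClopen (W k : Set ↥U.left))
  (hd : Pairwise (fun k l => Disjoint (W k : Set ↥U.left) (W l)))
  (hu : (⋃ k, (W k : Set ↥U.left)) = Set.univ)

include hW hd hu

/-- Morphisms glue along clopen decompositions. -/
theorem existsUnique_desc {V : X.ProEt} (a : ∀ k, Decomp.piece U (W k) ⟶ V) :
    ∃! b : U ⟶ V, ∀ k, Decomp.incl U (W k) ≫ b = a k := by
  obtain ⟨s, hs, hu'⟩ := Decomp.existsUnique_glue
    ((GrothendieckTopology.uliftYoneda.{u + 1} (Scheme.ProEt.topology X)).obj V) W hW hd hu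
    fun k => ⟨a k⟩
  refine ⟨s.down, fun k => congrArg ULift.down (hs k), fun b hb => ?_⟩
  exact congrArg ULift.down (hu' ⟨b⟩ fun k => ULift.ext _ _ (hb k))

end Cofan

theorem splitsPieces_of_preservesFiniteProducts (P : X.ProEtᵒᵖ ⥤ Type (u + 1))
    [PreservesFiniteProducts P] (U : X.ProEt) [CompactSpace U.left] : SplitsPieces P U := by
  intro n W hW hd hu t
  choose d hd₁ hd₂ using fun (c : Fan fun k => op (Decomp.piece U (W k))) =>
    existsUnique_desc U W hW hd hu (fun k => (c.proj k).unop)
  have hfan : IsLimit (Fan.mk (op U) fun k => (Decomp.incl U (W k)).op) :=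
    mkFanLimit _ (fun c => (d c).op) (fun c k => Quiver.Hom.unop_inj (hd₁ c k))
      fun c m hm => Quiver.Hom.unop_inj (hd₂ c m.unop fun k => congrArg Quiver.Hom.unop (hm k))
  have hlim := isLimitFanMkObjOfIsLimit P _ _ hfan
  refine ⟨Fan.IsLimit.lift hlim (A := PUnit.{u + 2}) (fun k => ↾fun _ => t k) PUnit.unit,
    fun k => ?_, fun s hs => ?_⟩
  · exact ConcreteCategory.congr_hom (hlim.fac (Fan.mk PUnit.{u + 2} fun k => ↾fun _ => t k) ⟨k⟩)
      PUnit.unit
  · refine ConcreteCategory.congr_hom (Fan.IsLimit.hom_ext hlim (↾fun _ : PUnit.{u + 2} => s)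
      (Fan.IsLimit.lift hlim fun k => ↾fun _ => t k) fun k => ?_) PUnit.unit
    refine ConcreteCategory.hom_ext _ _ fun _ => ?_
    exact (hs k).trans (ConcreteCategory.congr_hom
      (hlim.fac (Fan.mk PUnit.{u + 2} fun k => ↾fun _ => t k) ⟨k⟩) PUnit.unit).symm

end Groth.Agent.Lib.ProEt.Sheafify
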