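import Groth.Agent.Lib.IndEtale.LiftSurj
import Groth.Agent.Lib.ProEt.Sheafify
import Groth.Agent.Lib.ProEt.Continuity
import Groth.Agent.Lib.ProEt.Covers
import Mathlib.AlgebraicGeometry.Morphisms.ClosedImmersion

/-!
Lifting weakly contractible affine objects along closed immersions.
-/

set_option autoImplicit false

universe u

open CategoryTheory CategoryTheory.Limits AlgebraicGeometry Opposite

namespace Groth.Agent.Lib.ProEt.ClosedLift

set_option backward.isDefEq.respectTransparency.types false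

variable {Z X : Scheme.{u}} (i : Z ⟶ X)

/-- Pushouts of rings give lifts. -/
theorem exists_lift_of_isPushout (V : X.ProEt) [IsAffine V.left] (W : Z.ProEt) [IsAffine W.left]
    [IsAffine (pullback V.hom i)]
    (a : W ⟶ (ProEtS.bcP i).obj V) (B : CommRingCat.{u}) (g : Γ(V.left, ⊤) ⟶ B)
    (ψ : B ⟶ Γ(W.left, ⊤)) [WeaklyEtale (Spec.map g)]
    (hpo : IsPushout (pullback.fst V.hom i).appTop g
      (Scheme.Hom.appTop (a.left : W.left ⟶ pullback V.hom i)) ψ) :
    ∃ b : W ⟶ (ProEtS.bcP i).obj (Scheme.ProEt.mk ((Spec.map g ≫ V.left.isoSpec.inv) ≫ V.hom)),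
      IsIso b ∧ b ≫ (ProEtS.bcP i).map (MorphismProperty.Over.homMk (Spec.map g ≫ V.left.isoSpec.inv)
        : Scheme.ProEt.mk ((Spec.map g ≫ V.left.isoSpec.inv) ≫ V.hom) ⟶ V) = a := by
  let p : pullback V.hom i ⟶ V.left := pullback.fst V.hom i
  let a' : W.left ⟶ pullback V.hom i := a.left
  let gT : Spec B ⟶ V.left := Spec.map g ≫ V.left.isoSpec.inv
  let T : X.ProEt := Scheme.ProEt.mk (gT ≫ V.hom)
  let t : W.left ⟶ Spec B := W.left.isoSpec.hom ≫ Spec.map ψ
  have h1 : IsPullback t a' gT p := by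
    refine (isPullback_SpecMap_of_isPushout _ _ _ _ hpo).flip.of_iso W.left.isoSpec.symm (Iso.refl _)
      (pullback V.hom i).isoSpec.symm V.left.isoSpec.symm ?_ ?_ ?_ ?_
    · simp [t]
    · exact Scheme.isoSpec_inv_naturality a'
    · simp [gT]
    · exact Scheme.isoSpec_inv_naturality p
  have h2 : IsPullback t (a' ≫ pullback.snd V.hom i) (gT ≫ V.hom) i :=
    h1.paste_vert (IsPullback.of_hasPullback V.hom i)
  have hsnd : a' ≫ pullback.snd V.hom i = W.hom := MorphismProperty.Over.w a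
  let e : W.left ≅ pullback (gT ≫ V.hom) i := h2.isoPullback
  let β : W ≅ (ProEtS.bcP i).obj T := MorphismProperty.Over.isoMk e
    ((h2.isoPullback_hom_snd).trans hsnd)
  refine ⟨β.hom, inferInstance, ?_⟩
  refine MorphismProperty.Over.Hom.ext ?_
  change e.hom ≫ pullback.lift (pullback.fst T.hom i ≫ gT) (pullback.snd T.hom i) _ = a'
  refine pullback.hom_ext ?_ ?_
  · rw [Category.assoc, pullback.lift_fst, ← Category.assoc]
    exact (congrArg (· ≫ gT) h2.isoPullback_hom_fst).trans h1.w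
  · rw [Category.assoc, pullback.lift_snd]
    exact h2.isoPullback_hom_snd

variable [IsClosedImmersion i]

/-- Lifting over an affine object. -/
theorem exists_lift_affine (V : X.ProEt) [IsAffine V.left] (W : Z.ProEt) [IsAffine W.left]
    (hW : EtPBC.IsWContractible ↥Γ(W.left, ⊤)) (a : W ⟶ (ProEtS.bcP i).obj V) :
    ∃ (T : X.ProEt) (_ : IsAffine T.left) (g : T ⟶ V) (b : W ⟶ (ProEtS.bcP i).obj T),
      IsIso b ∧ b ≫ (ProEtS.bcP i).map g = a := by
  haveI : WeaklyEtale (a.left : W.left ⟶ pullback V.hom i) := Basic.weaklyEtale_left a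
  let p : pullback V.hom i ⟶ V.left := pullback.fst V.hom i
  obtain ⟨hP, hq⟩ := IsClosedImmersion.isAffine_surjective_of_isAffine (f := p)
  haveI := hP
  let a' : W.left ⟶ pullback V.hom i := a.left
  haveI : WeaklyEtale a' := Basic.weaklyEtale_left a
  obtain ⟨B, g, ψ, hg, hpo⟩ := IndEtale.LiftSurj.exists_lift p.appTop hq
    a'.appTop (Basic.weaklyEtale_appTop a') hW
  haveI : WeaklyEtale (Spec.map g) := (Basic.weaklyEtale_SpecMap_iff' g).mpr hg
  obtain ⟨b, hb, hb'⟩ := exists_lift_of_isPushout i V W a B g ψ hpo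
  exact ⟨_, (inferInstance : IsAffine (Spec B)), _, b, hb, hb'⟩

/-- A map from a w-contractible affine object to a base change factors through the base change of
an affine object. -/
theorem exists_affine_factor (V : X.ProEt) (W : Z.ProEt) [IsAffine W.left]
    (hW : EtPBC.IsWContractible ↥Γ(W.left, ⊤)) (a : W ⟶ (ProEtS.bcP i).obj V) :
    ∃ (V' : X.ProEt) (_ : IsAffine V'.left) (g : V' ⟶ V) (a' : W ⟶ (ProEtS.bcP i).obj V'),
      a' ≫ (ProEtS.bcP i).map g = a := by
  let O : V.left.affineOpens → X.ProEt := fun U => Decomp.piece V U.1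
  let incO : ∀ U, O U ⟶ V := fun U => Decomp.incl V U.1
  have hcov : Sieve.ofArrows O incO ∈ Scheme.ProEt.topology X V :=
    Continuity.ofArrows_mem_of_isOpenMap incO (fun U => U.1.ι.isOpenEmbedding.isOpenMap)
      (Set.eq_univ_of_forall fun x => by
        obtain ⟨U, hU⟩ := TopologicalSpace.Opens.mem_iSup.mp
          ((iSup_affineOpens_eq_top V.left).ge (trivial : x ∈ (⊤ : V.left.Opens)))
        exact Set.mem_iUnion.mpr ⟨U, ⟨x, hU⟩, rfl⟩)
  have hcov' : (Sieve.ofArrows O incO).functorPushforward (ProEtS.bcP i) ∈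
      Scheme.ProEt.topology Z ((ProEtS.bcP i).obj V) :=
    haveI := Continuity.pCont i
    ((Functor.isContinuous_iff_coverPreserving (F := ProEtS.bcP i)
      (J := Scheme.ProEt.topology X) (K := Scheme.ProEt.topology Z)).mp
        (Continuity.pCont i)).cover_preserve hcov
  obtain ⟨n, D, hD, hd, hu, hR⟩ := Decomp.exists_decomposition hW
    ((Scheme.ProEt.topology Z).pullback_stable a hcov')
  choose Y g h hgR hh using hR
  have hg : ∀ k, ∃ (U : V.left.affineOpens) (c : Y k ⟶ O U), c ≫ incO U = g k := fun k => by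
    obtain ⟨_, c, _, ⟨U⟩, hc⟩ := hgR k
    exact ⟨U, c, hc⟩
  choose U c hc using hg
  let P : ULift.{u} (Fin n) → X.ProEt := fun k => O (U k.down)
  haveI : ∀ k, IsAffine (P k).left := fun k => (U k.down).2
  haveI : IsAffine (Covers.sigmaObj P).left :=
    (inferInstance : IsAffine (∐ fun k => (P k).left))
  obtain ⟨a', ha', -⟩ := Sheafify.existsUnique_desc W D hD hd hu
    fun k => h k ≫ (ProEtS.bcP i).map (c k ≫ Covers.sigmaIncl P ⟨k⟩)
  refine ⟨Covers.sigmaObj P, inferInstance, Covers.sigmaDesc fun k => incO (U k.down), a', ?_⟩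
  refine (Sheafify.existsUnique_desc W D hD hd hu fun k => Decomp.incl W (D k) ≫ a).unique
    (fun k => ?_) (fun k => rfl)
  rw [← Category.assoc, ha', Category.assoc, ← Functor.map_comp, Category.assoc,
    Covers.sigmaIncl_desc, hc]
  exact (hh k).symm

/-- Lifting over any object. -/
theorem exists_lift (V : X.ProEt) (W : Z.ProEt) [IsAffine W.left]
    (hW : EtPBC.IsWContractible ↥Γ(W.left, ⊤)) (a : W ⟶ (ProEtS.bcP i).obj V) :
    ∃ (T : X.ProEt) (_ : IsAffine T.left) (g : T ⟶ V) (b : W ⟶ (ProEtS.bcP i).obj T),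
      IsIso b ∧ b ≫ (ProEtS.bcP i).map g = a := by
  obtain ⟨V', hV', g, a', ha'⟩ := exists_affine_factor i V W hW a
  obtain ⟨T, hT, g', b, hb, hb'⟩ := exists_lift_affine i V' W hW a'
  exact ⟨T, hT, g' ≫ g, b, hb, by rw [Functor.map_comp, ← Category.assoc, hb', ha']⟩

/-- The canonical map to the base change of the final object. -/
noncomputable def toTop (W : Z.ProEt) : W ⟶ (ProEtS.bcP i).obj (ProEtS.topP X) :=
  MorphismProperty.Over.homMk (pullback.lift (W.hom ≫ i) W.hom (Category.comp_id _))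
    (pullback.lift_snd _ _ _)

theorem exists_lift_top (W : Z.ProEt) [IsAffine W.left]
    (hW : EtPBC.IsWContractible ↥Γ(W.left, ⊤)) :
    ∃ (T : X.ProEt) (_ : IsAffine T.left) (b : W ⟶ (ProEtS.bcP i).obj T), IsIso b := by
  obtain ⟨T, hT, -, b, hb, -⟩ := exists_lift i (ProEtS.topP X) W hW (toTop i W)
  exact ⟨T, hT, b, hb⟩

end Groth.Agent.Lib.ProEt.ClosedLift
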