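import Groth.Agent.Lib.ProEt.Covers
import Mathlib.CategoryTheory.Sites.EpiMono
import Mathlib.Algebra.Homology.ShortComplex.ExactFunctor

/-!
Detecting properties of morphisms of abelian sheaves on weakly contractible affine objects.
-/

set_option autoImplicit false

universe u

open CategoryTheory CategoryTheory.Limits AlgebraicGeometry Opposite

namespace Groth.Agent.Lib.ProEt.Exact

set_option backward.isDefEq.respectTransparency.types false

variable {X : Scheme.{u}} {F G : ProEtS.AbP X}

/-- An epimorphism is surjective on sections over a weakly contractible object. -/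
theorem surjective_of_epi (φ : F ⟶ G) [Epi φ] {W : X.ProEt} (hW : ProEtS.IsWC W) :
    Function.Surjective (φ.hom.app (op W)) := by
  have : Sheaf.IsLocallySurjective φ := (Sheaf.isLocallySurjective_iff_epi' (φ := φ)).mpr inferInstance
  have : Sheaf.IsLocallySurjective
      ((sheafCompose (Scheme.ProEt.topology X) (forget AddCommGrpCat.{u + 1})).map φ) := inferInstance
  exact hW _ _ ((sheafCompose (Scheme.ProEt.topology X) (forget AddCommGrpCat.{u + 1})).map φ)
    inferInstance

/-- Surjectivity on weakly contractible affine objects gives an epimorphism. -/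
theorem epi_of_surjective (φ : F ⟶ G)
    (h : ∀ (W : X.ProEt) [IsAffine W.left], EtPBC.IsWContractible ↥Γ(W.left, ⊤) →
      Function.Surjective (φ.hom.app (op W))) : Epi φ := by
  refine (Sheaf.isLocallySurjective_iff_epi' (φ := φ)).mp ⟨fun {U} s => ?_⟩
  obtain ⟨P, g, hP, hwc, hcov, -, -⟩ := Covers.exists_cover U
    (fun W : U.left.affineOpens => W.1) (fun W => W.2) (iSup_affineOpens_eq_top U.left)
  refine GrothendieckTopology.superset_covering _ ?_ hcov
  rw [Sieve.ofArrows, Sieve.generate_le_iff]
  rintro _ _ ⟨i⟩
  haveI := hP i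
  obtain ⟨t, ht⟩ := h (P i) (hwc i) (G.obj.map (g i).op s)
  exact ⟨t, ht⟩

/-- Injectivity on weakly contractible affine objects gives a monomorphism. -/
theorem mono_of_injective (φ : F ⟶ G)
    (h : ∀ (W : X.ProEt) [IsAffine W.left], EtPBC.IsWContractible ↥Γ(W.left, ⊤) →
      Function.Injective (φ.hom.app (op W))) : Mono φ := by
  have : ∀ U, Mono (φ.hom.app U) := fun U => by
    refine ConcreteCategory.mono_of_injective _ fun s t hst => ?_
    obtain ⟨P, g, hP, hwc, hcov, -, -⟩ := Covers.exists_cover (unop U)
      (fun W : (unop U).left.affineOpens => W.1) (fun W => W.2) (iSup_affineOpens_eq_top (unop U).left)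
    have hF : Presieve.IsSheaf (Scheme.ProEt.topology X) (F.obj ⋙ forget AddCommGrpCat.{u + 1}) :=
      (isSheaf_iff_isSheaf_of_type _ _).mp
        ((Presheaf.isSheaf_iff_isSheaf_forget _ F.obj (forget AddCommGrpCat.{u + 1})).mp F.property)
    refine (hF.isSeparated _ hcov).ext fun Z f hf => ?_
    obtain ⟨_, a, _, ⟨i⟩, rfl⟩ := hf
    haveI := hP i
    have h1 : F.obj.map (g i).op s = F.obj.map (g i).op t := h (P i) (hwc i) (by
      have n1 := ConcreteCategory.congr_hom (φ.hom.naturality (g i).op) s
      have n2 := ConcreteCategory.congr_hom (φ.hom.naturality (g i).op) t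
      exact n1.trans ((congrArg (G.obj.map (g i).op) hst).trans n2.symm))
    change F.obj.map (a ≫ g i).op s = F.obj.map (a ≫ g i).op t
    rw [op_comp, Functor.map_comp, ConcreteCategory.comp_apply, ConcreteCategory.comp_apply, h1]
  have : Mono φ.hom := NatTrans.mono_of_mono_app _
  exact Sheaf.Hom.mono_of_presheaf_mono _ _ φ

/-- Bijectivity on weakly contractible affine objects gives an isomorphism. -/
theorem isIso_of_bijective (φ : F ⟶ G)
    (h : ∀ (W : X.ProEt) [IsAffine W.left], EtPBC.IsWContractible ↥Γ(W.left, ⊤) →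
      Function.Bijective (φ.hom.app (op W))) : IsIso φ := by
  haveI := mono_of_injective φ fun W _ hW => (h W hW).1
  haveI := epi_of_surjective φ fun W _ hW => (h W hW).2
  exact isIso_of_mono_of_epi φ

variable {Y : Scheme.{u}}

/-- A left exact additive functor preserving epimorphisms is exact. -/
theorem preservesFiniteColimits_of_epi (Φ : ProEtS.AbP X ⥤ ProEtS.AbP Y) [Φ.Additive]
    [PreservesFiniteLimits Φ] (h : ∀ {F G : ProEtS.AbP X} (φ : F ⟶ G), Epi φ → Epi (Φ.map φ)) :
    PreservesFiniteColimits Φ := by
  rw [Functor.preservesFiniteColimits_iff_forall_exact_map_and_epi]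
  intro S hS
  haveI := hS.mono_f
  exact ⟨hS.exact.map_of_mono_of_preservesKernel Φ hS.mono_f inferInstance, h _ hS.epi_g⟩

end Groth.Agent.Lib.ProEt.Exact
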