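import Groth.Agent.Lib.ProEt.AbPullback
import Groth.Agent.Lib.ProEt.ClosedLift
import Groth.Agent.Lib.ProEt.Exact

/-!
Pullback of abelian pro-etale sheaves along closed immersions.
-/

set_option autoImplicit false

universe u

open CategoryTheory CategoryTheory.Limits AlgebraicGeometry Opposite

namespace Groth.Agent.Lib.ProEt.ClosedPullback

set_option backward.isDefEq.respectTransparency.types false

theorem hasSums (X : Scheme.{u}) : AbPullback.HasSums (Scheme.ProEt.topology X) := by
  intro n P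
  let P' : ULift.{u} (Fin n) → X.ProEt := fun k => P k.down
  refine ⟨Covers.sigmaObj P', fun k => Covers.sigmaIncl P' ⟨k⟩, fun F t => ?_,
    fun V g => ⟨Covers.sigmaDesc (P := P') fun k => g k.down, fun k =>
      Covers.sigmaIncl_desc P' (fun k => g k.down) ⟨k⟩⟩⟩
  obtain ⟨s, hs, hu⟩ := Covers.existsUnique_glue P'
    ((sheafCompose (Scheme.ProEt.topology X) (forget AddCommGrpCat.{u + 1})).obj F) fun k => t k.down
  exact ⟨s, fun k => hs ⟨k⟩, fun s' hs' => hu s' fun k => hs' k.down⟩

variable {Z X : Scheme.{u}} (i : Z ⟶ X) [ProEtS.PCont i]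

/-- The canonical sections of the pullback. -/
noncomputable abbrev sec (G : ProEtS.AbP X) {W : Z.ProEt} {V : X.ProEt}
    (a : W ⟶ (ProEtS.bcP i).obj V) (x : ProEtS.sectP G V) :
    ProEtS.sectP ((ProEtS.pullP i).obj G) W :=
  AbPullback.sec (ProEtS.bcP i) G a x

theorem exists_sec (G : ProEtS.AbP X) {W : Z.ProEt} [IsAffine W.left]
    (hW : EtPBC.IsWContractible ↥Γ(W.left, ⊤)) (y : ProEtS.sectP ((ProEtS.pullP i).obj G) W) :
    ∃ (V : X.ProEt) (a : W ⟶ (ProEtS.bcP i).obj V) (x : ProEtS.sectP G V), sec i G a x = y :=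
  AbPullback.exists_sec (ProEtS.bcP i) G (hasSums X) hW y

lemma counit_sec (F : ProEtS.AbP Z) {W : Z.ProEt} {V : X.ProEt}
    (a : W ⟶ (ProEtS.bcP i).obj V) (x : ProEtS.sectP F ((ProEtS.bcP i).obj V)) :
    ((ProEtS.pullPushAdjP i).counit.app F).hom.app (op W) (sec i ((ProEtS.pushP i).obj F) a x) =
      F.obj.map a.op x := by
  refine (ConcreteCategory.congr_hom (((ProEtS.pullPushAdjP i).counit.app F).hom.naturality a.op) _).trans ?_
  refine congrArg (F.obj.map a.op) ?_
  exact ConcreteCategory.congr_hom (congr_app (congrArg (fun t => t.hom)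
    ((ProEtS.pullPushAdjP i).right_triangle_components F)) (op V)) x

variable [IsClosedImmersion i]

theorem isIso_counit (F : ProEtS.AbP Z) : IsIso ((ProEtS.pullPushAdjP i).counit.app F) := by
  refine Exact.isIso_of_bijective _ fun W _ hW => ⟨?_, fun y => ?_⟩
  · refine (injective_iff_map_eq_zero
      (((ProEtS.pullPushAdjP i).counit.app F).hom.app (op W)).hom).mpr fun y hy => ?_
    obtain ⟨V, a, x, rfl⟩ := exists_sec i _ hW y
    have hy' : F.obj.map a.op x = 0 := (counit_sec i F a x).symm.trans hy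
    obtain ⟨T, _, g, b, hb, hbg⟩ := ClosedLift.exists_lift i V W hW a
    subst hbg
    have h0 : F.obj.map ((ProEtS.bcP i).map g).op x = 0 := by
      have h1 : F.obj.map b.op (F.obj.map ((ProEtS.bcP i).map g).op x) = 0 := by
        rw [← ConcreteCategory.comp_apply, ← Functor.map_comp, ← op_comp]
        exact hy'
      exact (ConcreteCategory.bijective_of_isIso (F.obj.map b.op)).1 (h1.trans (map_zero _).symm)
    rw [sec, ← AbPullback.sec_map]
    change AbPullback.sec (ProEtS.bcP i) ((ProEtS.pushP i).obj F) b (F.obj.map ((ProEtS.bcP i).map g).op x) = 0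
    rw [h0, AbPullback.sec]
    exact (congrArg _ (map_zero _)).trans (map_zero _)
  · obtain ⟨T, _, b, hb⟩ := ClosedLift.exists_lift_top i W hW
    obtain ⟨x, hx⟩ := (ConcreteCategory.bijective_of_isIso (F.obj.map b.op)).2 y
    exact ⟨sec i ((ProEtS.pushP i).obj F) b x, (counit_sec i F b x).trans hx⟩

end Groth.Agent.Lib.ProEt.ClosedPullback
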