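import Groth.Agent.Lib.ProEt.TypePull
import Mathlib.CategoryTheory.Limits.Presheaf
import Mathlib.CategoryTheory.Sites.DenseSubsite.Basic
import Mathlib.CategoryTheory.Adjunction.Restrict
import Mathlib.CategoryTheory.Sites.Limits

/-!
The left adjoint of the set valued pullback along a closed immersion.
-/

set_option autoImplicit false

universe u

open CategoryTheory CategoryTheory.Limits AlgebraicGeometry Opposite

namespace Groth.Agent.Lib.ProEt.ClosedShriek

set_option backward.isDefEq.respectTransparency.types false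

/-- The w-contractible affine objects. -/
def isWCAffine (Z : Scheme.{u}) : ObjectProperty Z.ProEt :=
  fun W => ∃ _ : IsAffine W.left, EtPBC.IsWContractible ↥Γ(W.left, ⊤)

/-- The category of w-contractible affine objects. -/
abbrev Wc (Z : Scheme.{u}) : Type (u + 1) := (isWCAffine Z).FullSubcategory

/-- The inclusion. -/
abbrev incl (Z : Scheme.{u}) : Wc Z ⥤ Z.ProEt := (isWCAffine Z).ι

theorem isCoverDense (Z : Scheme.{u}) : (incl Z).IsCoverDense (Scheme.ProEt.topology Z) := by
  refine ⟨fun U => ?_⟩
  obtain ⟨P, g, hP, hwc, hcov, -, -⟩ := Covers.exists_cover U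
    (fun W : U.left.affineOpens => W.1) (fun W => W.2) (iSup_affineOpens_eq_top U.left)
  refine GrothendieckTopology.superset_covering _ ?_ hcov
  rw [Sieve.ofArrows, Sieve.generate_le_iff]
  rintro _ _ ⟨k⟩
  exact Presieve.in_coverByImage (incl Z) (Y := ⟨P k, hP k, hwc k⟩) (g k)

variable {Z X : Scheme.{u}} (i : Z ⟶ X) [IsClosedImmersion i] [ProEtS.PCont i]

/-- A chosen good lift. -/
structure LiftData (W : Wc Z) where
  /-- The lift. -/
  T : X.ProEt
  isAffine : IsAffine T.left
  wc : EtPBC.IsWContractible ↥Γ(T.left, ⊤)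
  good : Good.IsGood (Set.range i.base) T
  /-- The identification. -/
  b : W.obj ⟶ (ProEtS.bcP i).obj T
  isIso : IsIso b

omit [ProEtS.PCont i] in
lemma nonempty_liftData (W : Wc Z) : Nonempty (LiftData i W) := by
  obtain ⟨h, hW⟩ := W.property
  haveI := h
  obtain ⟨T, hT, -, b, hb, -, hwc, hgood⟩ :=
    WCLift.exists_wc_lift i (ProEtS.topP X) W.obj hW (ClosedLift.toTop i W.obj)
  exact ⟨⟨T, hT, hwc, hgood, b, hb⟩⟩

/-- The chosen lift. -/
noncomputable def lift (W : Wc Z) : LiftData i W := (nonempty_liftData i W).some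

/-- The representing sheaf. -/
noncomputable abbrev h (W : Wc Z) : Sheaf (Scheme.ProEt.topology X) (Type (u + 1)) :=
  (GrothendieckTopology.uliftYoneda.{u + 1} (Scheme.ProEt.topology X)).obj (lift i W).T

/-- Maps out of the representing sheaf are sections of the pullback. -/
noncomputable def e (W : Wc Z) (G : Sheaf (Scheme.ProEt.topology X) (Type (u + 1))) :
    (h i W ⟶ G) ≃ ((TypePull.R i).obj G).obj.obj (op W.obj) :=
  (GrothendieckTopology.uliftYonedaEquiv.{u + 1} (Scheme.ProEt.topology X)).trans
    (Equiv.ofBijective (TypePull.comparison i G (lift i W).b)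
      (haveI := (lift i W).isAffine
       haveI := W.property.fst
       haveI := (lift i W).isIso
       TypePull.bijective_comparison i G (lift i W).wc (lift i W).good W.property.snd (lift i W).b))

lemma map_e (W : Wc Z) {G G' : Sheaf (Scheme.ProEt.topology X) (Type (u + 1))} (φ : G ⟶ G')
    (t : h i W ⟶ G) : ((TypePull.R i).map φ).hom.app (op W.obj) (e i W G t) = e i W G' (t ≫ φ) := by
  refine (TypePull.map_comparison i G φ (lift i W).b _).trans ?_
  exact congrArg (TypePull.comparison i G' (lift i W).b)
    (GrothendieckTopology.uliftYonedaEquiv_comp.{u + 1} (Scheme.ProEt.topology X) t φ).symm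

/-- The map on representing sheaves. -/
noncomputable def hMap {W' W : Wc Z} (a : W' ⟶ W) : h i W' ⟶ h i W :=
  (e i W' (h i W)).symm (((TypePull.R i).obj (h i W)).obj.map a.hom.op (e i W (h i W) (𝟙 _)))

lemma map_hMap {W' W : Wc Z} (a : W' ⟶ W) (G : Sheaf (Scheme.ProEt.topology X) (Type (u + 1)))
    (t : h i W ⟶ G) :
    e i W' G (hMap i a ≫ t) = ((TypePull.R i).obj G).obj.map a.hom.op (e i W G t) := by
  rw [← map_e, hMap, Equiv.apply_symm_apply]
  refine (ConcreteCategory.congr_hom (((TypePull.R i).map t).hom.naturality a.hom.op) _).trans ?_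
  refine congrArg (((TypePull.R i).obj G).obj.map a.hom.op) ?_
  exact (map_e i W t (𝟙 _)).trans (by rw [Category.id_comp])

/-- The functor of representing sheaves. -/
noncomputable def A : Wc Z ⥤ Sheaf (Scheme.ProEt.topology X) (Type (u + 1)) where
  obj := h i
  map := hMap i
  map_id W := by
    refine (e i W (h i W)).injective ?_
    rw [← Category.comp_id (hMap i (𝟙 W)), map_hMap]
    change ((TypePull.R i).obj (h i W)).obj.map (𝟙 W.obj).op _ = _
    rw [op_id, CategoryTheory.Functor.map_id]
    rfl
  map_comp {W₁ W₂ W₃} a b := by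
    refine (e i W₁ (h i W₃)).injective ?_
    rw [map_hMap, ← Category.comp_id (hMap i (a ≫ b)), map_hMap,
      show hMap i b = hMap i b ≫ 𝟙 _ from (Category.comp_id _).symm, map_hMap]
    change ((TypePull.R i).obj (h i W₃)).obj.map (a.hom ≫ b.hom).op _ = _
    rw [op_comp, Functor.map_comp]
    rfl

/-- Restriction of sheaves to w-contractible affine objects. -/
noncomputable abbrev res :
    Sheaf (Scheme.ProEt.topology Z) (Type (u + 1)) ⥤ ((Wc Z)ᵒᵖ ⥤ Type (u + 1)) :=
  sheafToPresheaf _ _ ⋙ (Functor.whiskeringLeft _ _ _).obj (incl Z).op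

/-- The pullback restricted to w-contractible affine objects is a restricted Yoneda functor. -/
noncomputable def iso :
    Presheaf.restrictedULiftYoneda.{u + 1} (A i) ≅ TypePull.R i ⋙ res :=
  NatIso.ofComponents
    (fun G => NatIso.ofComponents (fun W => (Equiv.ulift.trans (e i (unop W) G)).toIso)
      (fun {W W'} a => by
        ext t
        exact map_hMap i a.unop G t.down))
    (fun {G G'} φ => by
      ext W t
      exact (map_e i (unop W) φ t.down).symm)

theorem isRightAdjoint : (TypePull.R i).IsRightAdjoint := by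
  haveI := isCoverDense Z
  haveI : HasColimitsOfSize.{u, u + 1} (Sheaf (Scheme.ProEt.topology X) (Type (u + 1))) :=
    hasColimitsOfSizeShrink.{u, u + 1, u + 1, u + 1} _
  haveI : (uliftYoneda.{u + 1} : Wc Z ⥤ _).HasPointwiseLeftKanExtension (A i) := inferInstance
  let L := (uliftYoneda.{u + 1} : Wc Z ⥤ _).leftKanExtension (A i)
  let adj : L ⊣ TypePull.R i ⋙ res :=
    (Presheaf.uliftYonedaAdjunction.{u + 1} L
      ((uliftYoneda.{u + 1} : Wc Z ⥤ _).leftKanExtensionUnit (A i))).ofNatIsoRight (iso i)
  let ff : (res (Z := Z)).FullyFaithful :=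
    { preimage := fun {F G} α => ⟨Functor.IsCoverDense.sheafHom α⟩
      map_preimage := fun {F G} α => Functor.IsCoverDense.sheafHom_restrict_eq α
      preimage_map := fun {F G} φ => Sheaf.hom_ext (Functor.IsCoverDense.sheafHom_eq _ φ.hom) }
  exact (adj.restrictFullyFaithful ff (Functor.FullyFaithful.id _)
    (L := res ⋙ L) (R := TypePull.R i) (Iso.refl _) (Iso.refl _)).isRightAdjoint

end Groth.Agent.Lib.ProEt.ClosedShriek
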