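import Mathlib.Algebra.Category.Grp.Abelian
import Mathlib.Algebra.Category.Grp.Adjunctions
import Mathlib.Algebra.Category.Grp.Limits
import Mathlib.Algebra.Category.Grp.FilteredColimits
import Mathlib.Algebra.Homology.ShortComplex.Ab
import Mathlib.CategoryTheory.Sites.Abelian
import Mathlib.CategoryTheory.Preadditive.Injective.Basic
import Mathlib.CategoryTheory.Abelian.FunctorCategory
import Mathlib.Algebra.BigOperators.Fin
import Mathlib.Tactic.Abel

/-!
Cech cochains of a morphism, as natural families on tuples of lifts.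
-/

set_option autoImplicit false

universe u

open CategoryTheory CategoryTheory.Limits Opposite

namespace Groth.Agent.Lib.ProEt.Cochain

variable {C : Type (u + 1)} [Category.{u} C] {P U : C} (c : P ⟶ U)

/-- Tuples of maps to `P` with the same composite to `U`. -/
def Tup (n : ℕ) (W : C) : Type u :=
  {t : Fin (n + 1) → (W ⟶ P) // ∀ a b, t a ≫ c = t b ≫ c}

variable {c}

/-- A face of a tuple. -/
def face {n : ℕ} {W : C} (i : Fin (n + 2)) (t : Tup c (n + 1) W) : Tup c n W :=
  ⟨fun a => t.1 (i.succAbove a), fun _ _ => t.2 _ _⟩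

/-- Restriction of a tuple. -/
def res {n : ℕ} {W W' : C} (g : W' ⟶ W) (t : Tup c n W) : Tup c n W' :=
  ⟨fun a => g ≫ t.1 a, fun a b => by rw [Category.assoc, t.2 a b, Category.assoc]⟩

@[simp]
lemma res_id {n : ℕ} {W : C} (t : Tup c n W) : res (𝟙 W) t = t :=
  Subtype.ext (funext fun _ => Category.id_comp _)

lemma res_comp {n : ℕ} {W W' W'' : C} (g : W' ⟶ W) (g' : W'' ⟶ W') (t : Tup c n W) :
    res (g' ≫ g) t = res g' (res g t) :=
  Subtype.ext (funext fun _ => Category.assoc _ _ _)

lemma face_res {n : ℕ} {W W' : C} (g : W' ⟶ W) (i : Fin (n + 2)) (t : Tup c (n + 1) W) :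
    face i (res g t) = res g (face i t) := rfl

lemma face_face {n : ℕ} {W : C} (i : Fin (n + 2)) (j : Fin (n + 3)) (h : (j : ℕ) ≤ (i : ℕ))
    (t : Tup c (n + 2) W) :
    face (Fin.castLT j (lt_of_le_of_lt h i.is_lt)) (face i.succ t) = face i (face j t) := by
  refine Subtype.ext (funext fun a => congrArg t.1 (Fin.ext ?_))
  simp only [Fin.succAbove, Fin.lt_def]
  split_ifs <;>
    simp only [Fin.val_succ, Fin.val_castSucc, Fin.val_castLT] at * <;> omega

variable (c)

/-- The tuples as a presheaf. -/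
def tupPsh (n : ℕ) : Cᵒᵖ ⥤ Type (u + 1) where
  obj W := ULift.{u + 1} (Tup c n W.unop)
  map g := ↾fun t => ⟨res g.unop t.down⟩
  map_id W := by ext t; exact res_id t.down
  map_comp g g' := by ext t; exact res_comp g.unop g'.unop t.down

/-- A cochain: a natural family on tuples. -/
structure Coch (F : Cᵒᵖ ⥤ AddCommGrpCat.{u + 1}) (n : ℕ) where
  /-- the values -/
  app : ∀ (W : C), Tup c n W → F.obj (op W)
  naturality : ∀ {W W' : C} (g : W' ⟶ W) (t : Tup c n W), app W' (res g t) = F.map g.op (app W t)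

variable {c} {F F' : Cᵒᵖ ⥤ AddCommGrpCat.{u + 1}} {n : ℕ}

@[ext]
lemma Coch.ext {x y : Coch c F n} (h : ∀ W t, x.app W t = y.app W t) : x = y := by
  cases x; cases y
  congr
  funext W t
  exact h W t

/-- The differential. -/
noncomputable def δ (x : Coch c F n) : Coch c F (n + 1) where
  app W t := ∑ i : Fin (n + 2), (-1 : ℤ) ^ (i : ℕ) • x.app W (face i t)
  naturality g t := by
    simp only [face_res, x.naturality, map_sum, map_zsmul]

lemma δ_app (x : Coch c F n) (W : C) (t : Tup c (n + 1) W) :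
    (δ x).app W t = ∑ i : Fin (n + 2), (-1 : ℤ) ^ (i : ℕ) • x.app W (face i t) := rfl

lemma δ_δ (x : Coch c F n) (W : C) (t : Tup c (n + 2) W) : (δ (δ x)).app W t = 0 := by
  simp only [δ_app, Finset.smul_sum, smul_smul]
  rw [← Finset.sum_product']
  let Q := Fin (n + 3) × Fin (n + 2)
  let S : Finset Q := {ji : Q | (ji.1 : ℕ) ≤ (ji.2 : ℕ)}
  rw [Finset.univ_product_univ, ← Finset.sum_add_sum_compl S, ← eq_neg_iff_add_eq_zero,
    ← Finset.sum_neg_distrib]
  let φ : ∀ ji : Q, ji ∈ S → Q := fun ji hji =>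
    (ji.2.succ, Fin.castLT ji.1 (lt_of_le_of_lt (Finset.mem_filter.mp hji).right ji.2.is_lt))
  apply Finset.sum_bij φ
  · intro ji hji
    simp only [S, φ, Finset.compl_filter, Finset.mem_filter, Finset.mem_univ, true_and,
      Fin.val_succ, Fin.val_castLT] at hji ⊢
    omega
  · rintro ⟨j, i⟩ hji ⟨j', i'⟩ hji' h
    exact Prod.ext (Fin.ext (congrArg (fun q : Fin (n + 3) × Fin (n + 2) => (q.2 : ℕ)) h))
      (Fin.succ_injective _ (congrArg Prod.fst h))
  · rintro ⟨j', i'⟩ hji'
    simp only [S, Finset.compl_filter, Finset.mem_filter, Finset.mem_univ, true_and, not_le] at hji'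
    refine ⟨(Fin.castSucc i', j'.pred ?_), ?_, ?_⟩
    · rintro rfl
      simp at hji'
    · simpa [S] using Nat.le_sub_one_of_lt hji'
    · simp [φ]
  · rintro ⟨j, i⟩ hji
    have hle : (j : ℕ) ≤ (i : ℕ) := (Finset.mem_filter.mp hji).right
    simp only [φ, Fin.val_succ, Fin.val_castLT]
    rw [face_face i j hle t, ← neg_smul]
    congr 1
    ring

/-- Pushing cochains along a map of coefficients. -/
noncomputable def push (φ : F ⟶ F') (x : Coch c F n) : Coch c F' n where
  app W t := φ.app (op W) (x.app W t)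
  naturality g t := by
    rw [x.naturality]
    exact ConcreteCategory.congr_hom (φ.naturality g.op) _

lemma push_δ (φ : F ⟶ F') (x : Coch c F n) : push φ (δ x) = δ (push φ x) := by
  ext W t
  simp [push, δ_app]

/-- Tuples for a square. -/
def tupMap {P' U' : C} {c' : P' ⟶ U'} (p : P ⟶ P') (q : U ⟶ U') (w : p ≫ c' = c ≫ q) {W : C}
    (t : Tup c n W) : Tup c' n W :=
  ⟨fun a => t.1 a ≫ p, fun a b => by
    rw [Category.assoc, w, ← Category.assoc, t.2 a b, Category.assoc, Category.assoc, w]⟩

/-- Pulling cochains back along a square. -/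
noncomputable def comap {P' U' : C} {c' : P' ⟶ U'} (p : P ⟶ P') (q : U ⟶ U') (w : p ≫ c' = c ≫ q)
    (x : Coch c' F n) : Coch c F n where
  app W t := x.app W (tupMap p q w t)
  naturality g t := by
    rw [← x.naturality]
    exact congrArg (x.app _) (Subtype.ext (funext fun a => Category.assoc _ _ _))

lemma comap_δ {P' U' : C} {c' : P' ⟶ U'} (p : P ⟶ P') (q : U ⟶ U') (w : p ≫ c' = c ≫ q)
    (x : Coch c' F n) : comap p q w (δ x) = δ (comap p q w x) :=
  Coch.ext fun _ _ => rfl

/-- Universal tuples. -/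
def IsUniv {V : C} (u : Tup c n V) : Prop :=
  ∀ ⦃W : C⦄ (t : Tup c n W), ∃! g : W ⟶ V, res g u = t

/-- Two cochains agreeing on a universal tuple are equal. -/
lemma eq_of_univ {V : C} {u : Tup c n V} (hu : IsUniv u) {x y : Coch c F n}
    (h : x.app V u = y.app V u) : x = y := by
  ext W t
  obtain ⟨g, rfl, -⟩ := hu t
  rw [x.naturality, y.naturality, h]

/-- The cochain with given value on a universal tuple. -/
noncomputable def ofUniv {V : C} {u : Tup c n V} (hu : IsUniv u) (s : F.obj (op V)) : Coch c F n where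
  app W t := F.map (hu t).choose.op s
  naturality g t := by
    have h : (hu (res g t)).choose = g ≫ (hu t).choose :=
      ((hu (res g t)).choose_spec.2 _ (by
        change res (g ≫ (hu t).choose) u = res g t
        rw [res_comp, (hu t).choose_spec.1])).symm
    change F.map (hu (res g t)).choose.op s = _
    rw [h, op_comp, Functor.map_comp]
    rfl

lemma ofUniv_app {V : C} {u : Tup c n V} (hu : IsUniv u) (s : F.obj (op V)) {W : C} (g : W ⟶ V) :
    (ofUniv hu s).app W (res g u) = F.map g.op s := by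
  change F.map (hu (res g u)).choose.op s = _
  rw [← (hu (res g u)).choose_spec.2 g rfl]

lemma ofUniv_univ {V : C} {u : Tup c n V} (hu : IsUniv u) (s : F.obj (op V)) :
    (ofUniv hu s).app V u = s := by
  have h := ofUniv_app hu s (𝟙 V)
  rw [res_id, op_id, F.map_id] at h
  exact h

section Injective

variable (c)

/-- The free presheaf on tuples. -/
noncomputable abbrev freeTup (n : ℕ) : Cᵒᵖ ⥤ AddCommGrpCat.{u + 1} :=
  tupPsh c n ⋙ AddCommGrpCat.free.{u + 1}

variable {c}

/-- A generator. -/
noncomputable abbrev gen {m : ℕ} {W : Cᵒᵖ} (t : Tup c m W.unop) : (freeTup c m).obj W :=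
  FreeAbelianGroup.of (⟨t⟩ : ULift.{u + 1} (Tup c m W.unop))

lemma free_ext {m : ℕ} {f g : freeTup c m ⟶ F}
    (h : ∀ (W : Cᵒᵖ) (t : Tup c m W.unop), f.app W (gen t) = g.app W (gen t)) : f = g :=
  NatTrans.ext (funext fun W => AddCommGrpCat.hom_ext
    (FreeAbelianGroup.lift_ext _ _ fun t => h W t.down))

lemma map_gen {m : ℕ} {W W' : Cᵒᵖ} (g : W ⟶ W') (t : Tup c m W.unop) :
    (freeTup c m).map g (gen t) = gen (res g.unop t) :=
  FreeAbelianGroup.map_of_apply _

/-- A cochain as a map out of the free presheaf. -/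
noncomputable def toHom (x : Coch c F n) : freeTup c n ⟶ F where
  app W := AddCommGrpCat.ofHom (FreeAbelianGroup.lift fun t => x.app W.unop t.down)
  naturality W W' g := by
    refine AddCommGrpCat.hom_ext (FreeAbelianGroup.lift_ext _ _ fun t => ?_)
    have h1 : FreeAbelianGroup.lift (fun t => x.app W'.unop t.down)
        ((freeTup c n).map g (gen t.down)) = x.app W'.unop (res g.unop t.down) :=
      (congrArg _ (map_gen g t.down)).trans (FreeAbelianGroup.lift_apply_of _ _)
    have h2 : F.map g (FreeAbelianGroup.lift (fun t => x.app W.unop t.down) (gen t.down)) =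
        F.map g (x.app W.unop t.down) :=
      congrArg _ (FreeAbelianGroup.lift_apply_of _ _)
    exact h1.trans ((x.naturality g.unop t.down).trans h2.symm)

lemma toHom_gen (x : Coch c F n) {W : Cᵒᵖ} (t : Tup c n W.unop) :
    (toHom x).app W (gen t) = x.app W.unop t :=
  FreeAbelianGroup.lift_apply_of _ _

/-- A map out of the free presheaf as a cochain. -/
noncomputable def ofHom (y : freeTup c n ⟶ F) : Coch c F n where
  app W t := y.app (op W) (gen (W := op W) t)
  naturality {W W'} g t :=
    (congrArg (y.app (op W')) (map_gen (W := op W) g.op t)).symm.trans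
      (ConcreteCategory.congr_hom (y.naturality g.op) (gen (W := op W) t))

variable (c) in
/-- The boundary of the free complex. -/
noncomputable def bd (n : ℕ) : freeTup c (n + 1) ⟶ freeTup c n :=
  toHom (δ (ofHom (𝟙 (freeTup c n))))

lemma bd_gen {m : ℕ} {W : Cᵒᵖ} (t : Tup c (m + 1) W.unop) :
    (bd c m).app W (gen t) = ∑ i : Fin (m + 2), (-1 : ℤ) ^ (i : ℕ) • gen (face i t) :=
  toHom_gen _ t

lemma δ_ofHom (y : freeTup c n ⟶ F) (W : C) (t : Tup c (n + 1) W) :
    (δ (ofHom y)).app W t = (bd c n ≫ y).app (op W) (gen (W := op W) t) := by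
  rw [δ_app, NatTrans.comp_app, ConcreteCategory.comp_apply, bd_gen]
  refine Eq.trans ?_ (map_sum (y.app (op W)).hom _ _).symm
  exact Finset.sum_congr rfl fun i _ => (map_zsmul (y.app (op W)).hom _ _).symm

lemma bd_toHom (x : Coch c F n) (W : C) (t : Tup c (n + 1) W) :
    (bd c n ≫ toHom x).app (op W) (gen (W := op W) t) = (δ x).app W t := by
  rw [← δ_ofHom, δ_app, δ_app]
  refine Finset.sum_congr rfl fun i _ => congrArg _ ?_
  exact toHom_gen x (W := op W) (face i t)

lemma bd_bd (n : ℕ) : bd c (n + 1) ≫ bd c n = 0 := by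
  refine free_ext fun W t => ?_
  exact (bd_toHom (δ (ofHom (𝟙 (freeTup c n)))) W.unop t).trans (δ_δ _ W.unop t)

/-- The free chain complex of tuples is exact in positive degrees. -/
theorem exact_bd (n : ℕ) : (ShortComplex.mk (bd c (n + 1)) (bd c n) (bd_bd n)).Exact := by
  classical
  rw [ShortComplex.exact_iff_isZero_homology, Functor.isZero_iff]
  intro W
  refine IsZero.of_iso ?_ ((ShortComplex.mk _ _ (bd_bd (c := c) n)).mapHomologyIso
    ((evaluation Cᵒᵖ AddCommGrpCat.{u + 1}).obj W)).symm
  refine (ShortComplex.exact_iff_isZero_homology _).mp ?_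
  rw [ShortComplex.ab_exact_iff]
  intro z hz
  let e : ∀ {m : ℕ}, Tup c m W.unop → (W.unop ⟶ P) := fun {m} t =>
    (⟨t.1 0, rfl⟩ : ∃ e : W.unop ⟶ P, e ≫ c = t.1 0 ≫ c).choose
  have he : ∀ {m : ℕ} (t : Tup c m W.unop), e t ≫ c = t.1 0 ≫ c := fun {m} t =>
    (⟨t.1 0, rfl⟩ : ∃ e : W.unop ⟶ P, e ≫ c = t.1 0 ≫ c).choose_spec
  have hee : ∀ {m m' : ℕ} (t : Tup c m W.unop) (t' : Tup c m' W.unop),
      t.1 0 ≫ c = t'.1 0 ≫ c → e t = e t' := by
    intro m m' t t' h
    have key : ∀ (a b : W.unop ⟶ U) (ha : ∃ e : W.unop ⟶ P, e ≫ c = a)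
        (hb : ∃ e : W.unop ⟶ P, e ≫ c = b), a = b → ha.choose = hb.choose := by
      rintro a b ha hb rfl
      rfl
    exact key _ _ _ _ h
  let cn : ∀ {m : ℕ}, Tup c m W.unop → Tup c (m + 1) W.unop := fun {m} t =>
    ⟨Fin.cons (e t) t.1, fun a b => by
      have h : ∀ a, (Fin.cons (e t) t.1 : Fin (m + 2) → (W.unop ⟶ P)) a ≫ c = t.1 0 ≫ c := by
        intro a
        induction a using Fin.cases with
        | zero => rw [Fin.cons_zero]; exact he t
        | succ a => rw [Fin.cons_succ]; exact t.2 _ _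
      rw [h a, h b]⟩
  let H : ∀ (m : ℕ), FreeAbelianGroup (ULift.{u + 1} (Tup c m W.unop)) →+
      FreeAbelianGroup (ULift.{u + 1} (Tup c (m + 1) W.unop)) := fun m =>
    FreeAbelianGroup.map fun t => ⟨cn t.down⟩
  let D : ∀ (m : ℕ), FreeAbelianGroup (ULift.{u + 1} (Tup c (m + 1) W.unop)) →+
      FreeAbelianGroup (ULift.{u + 1} (Tup c m W.unop)) := fun m => ((bd c m).app W).hom
  have hD : ∀ (m : ℕ) (t : Tup c (m + 1) W.unop), D m (FreeAbelianGroup.of ⟨t⟩) =
      ∑ i : Fin (m + 2), (-1 : ℤ) ^ (i : ℕ) •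
        FreeAbelianGroup.of (⟨face i t⟩ : ULift.{u + 1} (Tup c m W.unop)) :=
    fun m t => bd_gen t
  have key : ∀ z, D (n + 1) (H (n + 1) z) + H n (D n z) = z := by
    intro z
    induction z using FreeAbelianGroup.induction_on with
    | zero => simp
    | of t =>
      obtain ⟨t⟩ := t
      simp only [H, hD, FreeAbelianGroup.map_of_apply, map_sum, map_zsmul]
      rw [Fin.sum_univ_succ]
      have h0 : face 0 (cn t) = t := Subtype.ext (funext fun a => by
        simp [face, cn])
      have hs : ∀ i : Fin (n + 2), face i.succ (cn t) = cn (face i t) := by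
        intro i
        refine Subtype.ext (funext fun a => ?_)
        have hee' : e (face i t) = e t := hee _ _ (t.2 _ _)
        induction a using Fin.cases with
        | zero => simpa [face, cn] using hee'.symm
        | succ a => simp [face, cn]
      simp only [Fin.val_succ, pow_succ, mul_neg, mul_one, neg_smul, h0, hs, Fin.val_zero,
        pow_zero, one_smul, Finset.sum_neg_distrib]
      abel
    | neg x hx => rw [map_neg, map_neg, map_neg, map_neg, ← neg_add, hx]
    | add x y hx hy =>
      rw [map_add, map_add, map_add, map_add, add_add_add_comm, hx, hy]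
  refine ⟨H (n + 1) z, ?_⟩
  have h1 := key z
  rw [show D n z = 0 from hz, map_zero, add_zero] at h1
  exact h1

/-- Cocycles of an injective presheaf are coboundaries. -/
theorem exists_eq_δ_of_injective [Injective F] (x : Coch c F (n + 1))
    (hx : ∀ W t, (δ x).app W t = 0) : ∃ y : Coch c F n, δ y = x := by
  have h : bd c (n + 1) ≫ toHom x = 0 :=
    free_ext fun W t => (bd_toHom x W.unop t).trans (hx _ t)
  refine ⟨ofHom ((exact_bd n).descToInjective (toHom x) h), ?_⟩
  ext W t
  rw [δ_ofHom]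
  have h1 := (exact_bd n).comp_descToInjective (toHom x) h
  refine Eq.trans (congrArg (fun φ : freeTup c (n + 1) ⟶ F =>
    φ.app (op W) (gen t)) h1) ?_
  exact FreeAbelianGroup.lift_apply_of _ _

end Injective

end Groth.Agent.Lib.ProEt.Cochain
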