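import Groth.Agent.Lib.ProEt.EpsMod
import Groth.Agent.H88.EtMod.WeakSerre

/-!
Constructible pro-etale sheaves of modules.
-/

set_option autoImplicit false
set_option linter.style.haveILetI false

universe u

open CategoryTheory CategoryTheory.Limits AlgebraicGeometry Opposite

namespace Groth.Agent.Lib.ProEt.ConstrP

set_option backward.isDefEq.respectTransparency.types false

open EpsMod

variable (Λ : Type (u + 1)) [CommRing Λ] [IsNoetherianRing Λ] (X : Scheme.{u}) [ProEtS.EpsCont X]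

/-- Pullbacks of constructible sheaves form a weak Serre subcategory. -/
theorem isWeakSerre : WSerre.IsWeakSerre (fun F : EtModW.ModP Λ X =>
    ∃ E : EtModW.Mod Λ X, EtModW.IsConstructible Λ E ∧ Nonempty ((EtModW.epsPullMod Λ X).obj E ≅ F)) := by
  let P := H88.EtMod.WeakSerre.constrProp Λ X
  let L := EtModW.epsPullMod Λ X
  let R := (ProEtS.eps X).sheafPushforwardContinuous (ModuleCat.{u + 1} Λ) X.smallEtaleTopology
    (Scheme.ProEt.topology X)
  haveI := isIso_unit Λ (X := X)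
  haveI : L.Full := (adjM Λ).fullyFaithfulLOfIsIsoUnit.full
  haveI : L.IsLeftAdjoint := (adjM Λ).isLeftAdjoint
  haveI : PreservesFiniteColimits L := inferInstance
  haveI : PreservesFiniteLimits L :=
    have h : PreservesFiniteLimits L ∧ PreservesFiniteColimits L :=
      (List.TFAE.out (Functor.exact_tfae L) 0 3
        (a := ∀ S : ShortComplex (EtModW.Mod Λ X), S.ShortExact → (S.map L).ShortExact)).mp
        fun _ hS => shortExact_map Λ hS
    h.1
  have key : ∀ {F G : EtModW.ModP Λ X} (f : F ⟶ G) {E E' : EtModW.Mod Λ X}, P E → P E' →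
      (L.obj E ≅ F) → (L.obj E' ≅ G) →
      (∃ K, P K ∧ Nonempty (L.obj K ≅ kernel f)) ∧ ∃ K, P K ∧ Nonempty (L.obj K ≅ cokernel f) := by
    intro F G f E E' hE hE' e₁ e₂
    let ψ : E ⟶ E' := L.preimage (e₁.hom ≫ f ≫ e₂.inv)
    have hψ : L.map ψ ≫ e₂.hom = e₁.hom ≫ f := by simp [ψ]
    exact ⟨⟨kernel ψ, H88.EtMod.Constr.isConstructible_kernel hE hE' ψ,
        ⟨PreservesKernel.iso L ψ ≪≫ kernel.mapIso _ f e₁ e₂ hψ⟩⟩,
      ⟨cokernel ψ, H88.EtMod.Constr.isConstructible_cokernel hE hE' ψ,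
        ⟨PreservesCokernel.iso L ψ ≪≫ cokernel.mapIso _ f e₁ e₂ hψ⟩⟩⟩
  refine { exists_zero := ?exists_zero, kernels_le := ?kernels_le, cokernels_le := ?cokernels_le, prop_X₂_of_shortExact := fun {T} => ?prop_X₂_of_shortExact }
  case exists_zero =>
    exact ⟨_, L.map_isZero (isZero_zero _), _,
      H88.EtMod.Constructible.isConstructible_of_isZero (isZero_zero _), ⟨Iso.refl _⟩⟩
  case kernels_le =>
    rintro Y ⟨f, k, hk, ⟨⟨E, hE, ⟨e⟩⟩, E', hE', ⟨e'⟩⟩⟩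
    obtain ⟨K, hK, ⟨i⟩⟩ := (key f hE hE' e e').1
    exact ⟨K, hK, ⟨i ≪≫ (limit.isLimit _).conePointUniqueUpToIso hk⟩⟩
  case cokernels_le =>
    rintro Y ⟨f, k, hk, ⟨⟨E, hE, ⟨e⟩⟩, E', hE', ⟨e'⟩⟩⟩
    obtain ⟨K, hK, ⟨i⟩⟩ := (key f hE hE' e e').2
    exact ⟨K, hK, ⟨i ≪≫ (colimit.isColimit _).coconePointUniqueUpToIso hk⟩⟩
  case prop_X₂_of_shortExact =>
    intro hT h₁ h₃
    obtain ⟨E, hE, ⟨e⟩⟩ := h₁
    obtain ⟨E', hE', ⟨e'⟩⟩ := h₃
    have m₁ : L.essImage T.X₁ := ⟨E, ⟨e⟩⟩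
    have m₃ : L.essImage T.X₃ := ⟨E', ⟨e'⟩⟩
    obtain ⟨E₂, ⟨e₂⟩⟩ := SerreSub.AdjImage.extension_mem (adjM Λ) (fun hS => shortExact_map Λ hS)
      (fun hS h => shortExact_push Λ hS h) hT m₁ m₃
    have pull : ∀ {F : EtModW.ModP Λ X} {E : EtModW.Mod Λ X}, P E → (L.obj E ≅ F) → P (R.obj F) :=
      fun hE e => H88.EtMod.Constructible.isConstructible_of_iso
        (asIso ((adjM Λ).unit.app _) ≪≫ R.mapIso e) hE
    exact ⟨E₂, H88.EtMod.Constructible.isConstructible_of_iso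
      (R.mapIso e₂.symm ≪≫ (asIso ((adjM Λ).unit.app E₂)).symm)
      (H88.EtMod.Constr.isConstructible_ext (shortExact_push Λ hT m₁) (pull hE e) (pull hE' e')), ⟨e₂⟩⟩

end Groth.Agent.Lib.ProEt.ConstrP
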