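import Groth.Agent.Lib.ProEt.CechCrit
import Groth.Agent.Lib.ProEt.Exact
import Groth.Agent.Lib.SpecSeq.HomExt
import Mathlib.Algebra.Homology.DerivedCategory.Ext.ExactSequences
import Mathlib.CategoryTheory.Sites.SheafCohomology.Basic
import Mathlib.CategoryTheory.Preadditive.Injective.Basic

/-!
Direct sums of abelian pro-etale sheaves over quasi-compact quasi-separated objects, and their
cohomology.
-/

set_option autoImplicit false

universe u

open CategoryTheory CategoryTheory.Limits AlgebraicGeometry Opposite Abelian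

noncomputable section

namespace Groth.Agent.Lib.ProEt.Coprod

set_option backward.isDefEq.respectTransparency.types false
set_option linter.style.haveILetI false

open Cochain CechCrit

variable {X : Scheme.{u}}

/-- Quasi-compact and quasi-separated objects. -/
def Qcqs (U : X.ProEt) : Prop := CompactSpace U.left ∧ QuasiSeparatedSpace U.left

lemma qcqs_of_isAffine (U : X.ProEt) [IsAffine U.left] : Qcqs U := ⟨inferInstance, inferInstance⟩

lemma qcqs_obj {P U : X.ProEt} (c : P ⟶ U) (hP : Qcqs P) (hU : Qcqs U) (n : ℕ) :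
    Qcqs (obj c n) := by
  induction n with
  | zero => exact hP
  | succ n ih =>
    haveI := hP.1
    haveI := hP.2
    haveI := hU.2
    haveI := ih.1
    haveI := ih.2
    haveI : QuasiCompact c.left := quasiCompact_of_compactSpace c.left
    haveI : QuasiSeparated c.left := QuasiSeparated.of_quasiSeparatedSpace c.left
    have hp := (IsPullback.of_hasPullback c ((univ c n).1 0 ≫ c)).map
      (Scheme.ProEt.forget X ⋙ Over.forget X)
    haveI : QuasiCompact (pullback.snd c ((univ c n).1 0 ≫ c)).left :=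
      MorphismProperty.of_isPullback (P := @QuasiCompact) hp ‹_›
    haveI : QuasiSeparated (pullback.snd c ((univ c n).1 0 ≫ c)).left :=
      MorphismProperty.of_isPullback (P := @QuasiSeparated) hp ‹_›
    let s := (pullback.snd c ((univ c n).1 0 ≫ c)).left
    haveI hs₁ : QuasiCompact s := ‹QuasiCompact (pullback.snd c ((univ c n).1 0 ≫ c)).left›
    haveI hs₂ : QuasiSeparated s := ‹QuasiSeparated (pullback.snd c ((univ c n).1 0 ≫ c)).left›
    exact ⟨@QuasiCompact.compactSpace_of_compactSpace _ _ s hs₁ ih.1, @quasiSeparatedSpace_of_quasiSeparated _ _ s ih.2 hs₂⟩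

/-- The covers: covering morphisms between quasi-compact quasi-separated objects. -/
def covers (X : Scheme.{u}) : Covers (Scheme.ProEt.topology X) where
  B := Qcqs
  Cov P U c := Qcqs P ∧ Qcqs U ∧
    Sieve.generate (Presieve.singleton c) ∈ Scheme.ProEt.topology X U
  mem _ _ _ h := h.2.2
  rep P U c h n := ⟨obj c n, univ c n, qcqs_obj c h.1 h.2.1 n, isUniv n⟩
  lift U hU := by
    haveI := hU.1
    obtain ⟨s, hs⟩ := isCompact_univ.elim_finite_subcover
      (fun W : U.left.affineOpens => (W.1 : Set ↥U.left)) (fun W => W.1.2)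
      (fun x _ => by
        obtain ⟨W, hW⟩ := TopologicalSpace.Opens.mem_iSup.mp
          ((iSup_affineOpens_eq_top U.left).ge (trivial : x ∈ (⊤ : U.left.Opens)))
        exact Set.mem_iUnion.mpr ⟨W, hW⟩)
    obtain ⟨P, g, hP, -, -, hmem, hwc⟩ := Covers.exists_cover U
      (fun W : s => W.1.1) (fun W => W.1.2) (top_le_iff.mp fun x _ => by
        obtain ⟨W, hWs, hx⟩ := Set.mem_iUnion₂.mp (hs (Set.mem_univ x))
        exact TopologicalSpace.Opens.mem_iSup.mpr ⟨⟨W, hWs⟩, hx⟩)
    haveI := hP
    haveI : IsAffine (Covers.sigmaObj P).left :=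
      (inferInstance : IsAffine (∐ fun i => (P i).left))
    exact ⟨_, _, ⟨qcqs_of_isAffine _, hU, hmem⟩, fun _ _ φ hφ => haveI := hφ; Exact.surjective_of_epi φ hwc⟩

section Sum

variable {ι : Type u} (F : ι → ProEtS.AbP X)

/-- The projection of a direct sum to a summand. -/
def proj (j : ι) : (∐ F) ⟶ F j :=
  open Classical in Sigma.desc fun i => if h : i = j then eqToHom (congrArg F h) else 0

@[reassoc]
lemma ι_proj_self (j : ι) : Sigma.ι F j ≫ proj F j = 𝟙 _ := by simp [proj]

@[reassoc]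
lemma ι_proj_ne {i j : ι} (h : i ≠ j) : Sigma.ι F i ≫ proj F j = 0 := by simp [proj, h]

variable {F}

lemma ι_proj_app_self (j : ι) {W : X.ProEtᵒᵖ} (y : (F j).obj.obj W) :
    (proj F j).hom.app W ((Sigma.ι F j).hom.app W y) = y :=
  ConcreteCategory.congr_hom
    (NatTrans.congr_app (congrArg (fun φ => φ.hom) (ι_proj_self F j)) W) y

lemma ι_proj_app_ne {i j : ι} (h : i ≠ j) {W : X.ProEtᵒᵖ} (y : (F i).obj.obj W) :
    (proj F j).hom.app W ((Sigma.ι F i).hom.app W y) = 0 :=
  ConcreteCategory.congr_hom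
    (NatTrans.congr_app (congrArg (fun φ => φ.hom) (ι_proj_ne F h)) W) y

/-- A section which is a finite sum of sections of summands. -/
def FS {W : X.ProEt} (s : (∐ F).obj.obj (op W)) : Prop :=
  ∃ T : Finset ι, s = ∑ i ∈ T, (Sigma.ι F i).hom.app (op W) ((proj F i).hom.app (op W) s)

open Classical in
lemma fs_sum {W : X.ProEt} (T : Finset ι) (y : ∀ i, (F i).obj.obj (op W)) :
    FS (∑ i ∈ T, (Sigma.ι F i).hom.app (op W) (y i)) := by
  refine ⟨T, Finset.sum_congr rfl fun j hj => congrArg _ ?_⟩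
  rw [map_sum, Finset.sum_eq_single j (fun i _ hij => ι_proj_app_ne hij _) (fun h => absurd hj h)]
  exact (ι_proj_app_self j _).symm

open Classical in
lemma eq_sum_of_subset {W : X.ProEt} {s : (∐ F).obj.obj (op W)} {T T' : Finset ι} (h : T ⊆ T')
    (hs : s = ∑ i ∈ T, (Sigma.ι F i).hom.app (op W) ((proj F i).hom.app (op W) s)) :
    s = ∑ i ∈ T', (Sigma.ι F i).hom.app (op W) ((proj F i).hom.app (op W) s) := by
  refine hs.trans (Finset.sum_subset h fun j _ hj => ?_)
  have : (proj F j).hom.app (op W) s = 0 := by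
    rw [hs, map_sum]
    exact Finset.sum_eq_zero fun i hi => ι_proj_app_ne (fun e : i = j => hj (e ▸ hi)) _
  rw [this, map_zero]

lemma map_sum_ι {W W' : X.ProEt} (g : W' ⟶ W) (T : Finset ι) (s : (∐ F).obj.obj (op W)) :
    (∐ F).obj.map g.op (∑ i ∈ T, (Sigma.ι F i).hom.app (op W) ((proj F i).hom.app (op W) s)) =
      ∑ i ∈ T, (Sigma.ι F i).hom.app (op W')
        ((proj F i).hom.app (op W') ((∐ F).obj.map g.op s)) := by
  rw [map_sum]
  refine Finset.sum_congr rfl fun i _ => ?_
  refine (ConcreteCategory.congr_hom ((Sigma.ι F i).hom.naturality g.op) _).symm.trans ?_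
  exact congrArg _ (ConcreteCategory.congr_hom ((proj F i).hom.naturality g.op) s).symm

/-- Sections are locally finite sums. -/
theorem fs_sieve_mem {W : X.ProEt} (s : (∐ F).obj.obj (op W)) :
    ∃ R ∈ Scheme.ProEt.topology X W, ∀ ⦃W'⦄ (g : W' ⟶ W), R g → FS ((∐ F).obj.map g.op s) := by
  let J := Scheme.ProEt.topology X
  let D : Discrete ι ⥤ ProEtS.AbP X := Discrete.functor F
  let D' := D ⋙ sheafToPresheaf J AddCommGrpCat.{u + 1}
  let c₀ := colimit.cocone D'
  let θ : c₀.pt ⟶ (∐ F).obj :=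
    colimit.desc D' ((sheafToPresheaf J AddCommGrpCat.{u + 1}).mapCocone (colimit.cocone D))
  have hθ : ∀ i, c₀.ι.app ⟨i⟩ ≫ θ = (Sigma.ι F i).hom := fun i => colimit.ι_desc _ _
  let adj := sheafificationAdjunction J AddCommGrpCat.{u + 1}
  let Φ : (presheafToSheaf J AddCommGrpCat.{u + 1}).obj c₀.pt ⟶ ∐ F := (adj.homEquiv _ _).symm θ
  have hΦ : toSheafify J c₀.pt ≫ Φ.hom = θ :=
    (adj.homEquiv_unit _ _ Φ).symm.trans ((adj.homEquiv _ _).apply_symm_apply θ)
  haveI : Epi Φ := ⟨fun g h hgh => Sigma.hom_ext _ _ fun i => Sheaf.hom_ext (by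
    change (Sigma.ι F i).hom ≫ g.hom = (Sigma.ι F i).hom ≫ h.hom
    rw [← hθ i, ← hΦ]
    simp only [Category.assoc]
    exact congrArg (fun z => c₀.ι.app ⟨i⟩ ≫ toSheafify J c₀.pt ≫ z)
      (congrArg (fun φ => φ.hom) hgh))⟩
  haveI : Presheaf.IsLocallySurjective J Φ.hom :=
    (Sheaf.isLocallySurjective_iff_epi' (φ := Φ)).mpr inferInstance
  haveI : Presheaf.IsLocallySurjective J (toSheafify J c₀.pt ≫ Φ.hom) :=
    Presheaf.isLocallySurjective_comp J _ _
  haveI : Presheaf.IsLocallySurjective J θ := hΦ ▸ this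
  refine ⟨Presheaf.imageSieve θ (U := W) s, Presheaf.imageSieve_mem J θ (U := op W) s,
    fun W' g hg => ?_⟩
  obtain ⟨p, hp⟩ := hg
  rw [← hp]
  let H : AddSubgroup ((∐ F).obj.obj (op W')) :=
    AddSubgroup.closure (⋃ i, Set.range ((Sigma.ι F i).hom.app (op W')))
  have hmem : θ.app (op W') p ∈ H := by
    let ev := (evaluation X.ProEtᵒᵖ AddCommGrpCat.{u + 1}).obj (op W')
    let q : (∐ F).obj.obj (op W') ⟶ AddCommGrpCat.of (_ ⧸ H) :=
      AddCommGrpCat.ofHom (QuotientAddGroup.mk' H)
    have hz : ev.map θ ≫ q = 0 := by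
      refine (isColimitOfPreserves ev (colimit.isColimit D')).hom_ext fun ⟨i⟩ => ?_
      rw [comp_zero]
      change (c₀.ι.app ⟨i⟩).app (op W') ≫ θ.app (op W') ≫ q = 0
      rw [← Category.assoc, ← NatTrans.comp_app, hθ i]
      ext y
      exact (QuotientAddGroup.eq_zero_iff _).mpr
        (AddSubgroup.subset_closure (Set.mem_iUnion.mpr ⟨i, y, rfl⟩))
    exact (QuotientAddGroup.eq_zero_iff _).mp (ConcreteCategory.congr_hom hz p)
  generalize θ.app (op W') p = z at hmem ⊢
  induction hmem using AddSubgroup.closure_induction with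
  | mem x hx =>
    obtain ⟨i, y, rfl⟩ := Set.mem_iUnion.mp hx
    refine ⟨{i}, ?_⟩
    rw [Finset.sum_singleton, ι_proj_app_self]
  | zero => exact ⟨∅, by simp⟩
  | add x y _ _ hx hy =>
    classical
    obtain ⟨T, hT⟩ := hx
    obtain ⟨T', hT'⟩ := hy
    have h1 := eq_sum_of_subset (Finset.subset_union_left (s₂ := T')) hT
    have h2 := eq_sum_of_subset (Finset.subset_union_right (s₁ := T)) hT'
    exact ⟨T ∪ T', by simp only [map_add, Finset.sum_add_distrib, ← h1, ← h2]⟩
  | neg x _ hx =>
    obtain ⟨T, hT⟩ := hx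
    exact ⟨T, by simp only [map_neg, Finset.sum_neg_distrib, ← hT]⟩

/-- Sections of a direct sum over quasi-compact quasi-separated objects are finite sums. -/
theorem fs_of_qcqs {U : X.ProEt} (hU : Qcqs U) (s : (∐ F).obj.obj (op U)) : FS s := by
  classical
  haveI := hU.1
  haveI := hU.2
  obtain ⟨R, hR, hFS⟩ := fs_sieve_mem s
  obtain ⟨n, V, g, hV, hg, hcov⟩ := Basic.exists_finite_refinement hR
  haveI : ∀ i, QuasiCompact (g i).left := fun i => haveI := hV i; quasiCompact_of_compactSpace (g i).left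
  choose T hT using fun i => hFS (g i) (hg i)
  let T₀ := Finset.univ.biUnion T
  refine ⟨T₀, ?_⟩
  have hsep : Presieve.IsSheaf (Scheme.ProEt.topology X) ((∐ F).obj ⋙ forget AddCommGrpCat.{u + 1}) :=
    (isSheaf_iff_isSheaf_of_type _ _).mp
      ((Presheaf.isSheaf_iff_isSheaf_forget _ (∐ F).obj (forget AddCommGrpCat.{u + 1})).mp (∐ F).property)
  refine (hsep.isSeparated _ (Basic.ofArrows_mem g hcov)).ext fun W a ha => ?_
  obtain ⟨_, b, _, ⟨i⟩, rfl⟩ := ha
  change (∐ F).obj.map (b ≫ g i).op s = (∐ F).obj.map (b ≫ g i).op _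
  rw [op_comp, Functor.map_comp, ConcreteCategory.comp_apply, ConcreteCategory.comp_apply]
  refine congrArg _ ?_
  rw [map_sum_ι]
  exact eq_sum_of_subset (Finset.subset_biUnion_of_mem T (Finset.mem_univ i)) (hT i)

/-- A direct sum of good sheaves is good. -/
theorem good_sum (h : ∀ i, Good (covers X) (F i)) : Good (covers X) (∐ F) := by
  intro P U c hc n x hx
  obtain ⟨V, v, hV, hv⟩ := (covers X).rep c hc (n + 1)
  obtain ⟨T, hT⟩ := fs_of_qcqs hV (x.app V v)
  choose y hy using fun i => h i c hc n (push (proj F i).hom x) fun W t => by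
    rw [← push_δ]
    exact (congrArg ((proj F i).hom.app (op W)) (hx W t)).trans (map_zero _)
  let y₀ : Coch c (∐ F).obj n :=
    { app := fun W t => ∑ i ∈ T, (Sigma.ι F i).hom.app (op W) ((y i).app W t)
      naturality := fun g t => by
        rw [map_sum]
        refine Finset.sum_congr rfl fun i _ => ?_
        rw [(y i).naturality]
        exact ConcreteCategory.congr_hom ((Sigma.ι F i).hom.naturality g.op) _ }
  refine ⟨y₀, eq_of_univ hv ?_⟩
  rw [hT, δ_app]
  simp only [y₀, Finset.smul_sum]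
  rw [Finset.sum_comm]
  refine Finset.sum_congr rfl fun i _ => ?_
  have h1 := congrArg (fun z => z.app V v) (hy i)
  simp only [δ_app] at h1
  change _ = (Sigma.ι F i).hom.app (op V) ((push (proj F i).hom x).app V v)
  rw [← h1, map_sum]
  simp only [map_zsmul]

end Sum

section Acyclic

/-- The constant sheaf. -/
abbrev Z (X : Scheme.{u}) : ProEtS.AbP X :=
  (constantSheaf (Scheme.ProEt.topology X) AddCommGrpCat.{u + 1}).obj
    (AddCommGrpCat.of (ULift ℤ))

/-- Morphisms from the constant sheaf are global sections. -/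
def secEquiv {T : X.ProEt} (hT : IsTerminal T) (Y : ProEtS.AbP X) :
    (Z X ⟶ Y) ≃+ Y.obj.obj (op T) :=
  (Ext.addEquiv₀).symm.trans (Sheaf.H.equiv₀ Y hT)

lemma secEquiv_comp {T : X.ProEt} (hT : IsTerminal T) {Y Y' : ProEtS.AbP X} (f : Z X ⟶ Y)
    (g : Y ⟶ Y') : secEquiv hT Y' (f ≫ g) = g.hom.app (op T) (secEquiv hT Y f) := by
  change Sheaf.H.equiv₀ Y' hT (Ext.addEquiv₀.symm (f ≫ g)) =
    g.hom.app (op T) (Sheaf.H.equiv₀ Y hT (Ext.addEquiv₀.symm f))
  rw [Sheaf.H.equiv₀_naturality]
  refine congrArg (Sheaf.H.equiv₀ Y' hT) (Ext.addEquiv₀.injective ?_)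
  rw [Sheaf.H.addEquiv₀_map, AddEquiv.apply_symm_apply, AddEquiv.apply_symm_apply]

/-- Good sheaves have no higher cohomology when the final object is good. -/
theorem subsingleton_H_of_good (𝒞 : Covers (Scheme.ProEt.topology X)) {T : X.ProEt}
    (hT : IsTerminal T) (hB : 𝒞.B T) {G : ProEtS.AbP X} (hG : Good 𝒞 G) (n : ℕ) :
    Subsingleton (Sheaf.H G (n + 1)) := by
  refine subsingleton_of_forall_eq 0 fun α => ?_
  let R := injectiveResolution G
  obtain ⟨f, hf, rfl⟩ := R.extMk_surjective α (n + 2) rfl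
  rw [R.extMk_eq_zero_iff f (n + 2) rfl hf n rfl]
  obtain ⟨y, hy⟩ := exists_eq_d R hG hB n (secEquiv hT _ f) (by
    rw [← secEquiv_comp, hf, map_zero])
  refine ⟨(secEquiv hT _).symm y, (secEquiv hT _).injective ?_⟩
  rw [secEquiv_comp, AddEquiv.apply_symm_apply, hy]

end Acyclic

section Sequence

variable {ι : Type u} (F : ι → ProEtS.AbP X)

/-- The sum of the injective envelopes. -/
abbrev sumSeq : ShortComplex (ProEtS.AbP X) :=
  ShortComplex.mk (Limits.Sigma.map fun i => Injective.ι (F i))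
    (Limits.Sigma.map fun i => cokernel.π (Injective.ι (F i)))
    (Sigma.hom_ext _ _ fun i => by simp)

theorem sumSeq_shortExact : (sumSeq F).ShortExact := by
  have hcok : IsColimit (CokernelCofork.ofπ (sumSeq F).g (sumSeq F).zero) :=
    CokernelCofork.IsColimit.ofπ _ _
      (fun h hh => Sigma.desc fun i => cokernel.desc (Injective.ι (F i)) (Sigma.ι (fun i => Injective.under (F i)) i ≫ h) (by
        have := (Sigma.ι F i) ≫= hh
        simpa using this))
      (fun h hh => Sigma.hom_ext _ _ fun i => by simp)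
      (fun h hh m hm => Sigma.hom_ext _ _ fun i => (cancel_epi (cokernel.π (Injective.ι (F i)))).mp (by
        have := (Sigma.ι (fun i => Injective.under (F i)) i) ≫= hm
        simpa using this))
  haveI hmono : Mono (sumSeq F).f := Exact.mono_of_injective _ fun W hW _ => by
    haveI := hW
    refine (injective_iff_map_eq_zero _).mpr fun s hs => ?_
    obtain ⟨T, hT⟩ := fs_of_qcqs (qcqs_of_isAffine W) s
    rw [hT]
    refine Finset.sum_eq_zero fun i _ => ?_
    have hw : (sumSeq F).f ≫ proj (fun i => Injective.under (F i)) i =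
        proj F i ≫ Injective.ι (F i) := by
      refine Sigma.hom_ext _ _ fun j => ?_
      rcases eq_or_ne j i with rfl | hji
      · simp [ι_proj_self, ι_proj_self_assoc]
      · simp [ι_proj_ne _ hji, ι_proj_ne_assoc _ hji]
    have h0 := ConcreteCategory.congr_hom
      (NatTrans.congr_app (congrArg (fun φ => φ.hom) hw) (op W)) s
    have hz : (proj F i).hom.app (op W) s = 0 := by
      refine injective_app (Injective.ι (F i)) W (h0.symm.trans ?_)
      change (proj _ i).hom.app (op W) ((sumSeq F).f.hom.app (op W) s) = _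
      rw [hs, map_zero, map_zero]
    rw [hz, map_zero]
  exact { exact := ShortComplex.exact_of_g_is_cokernel _ hcok
          epi_g := Cofork.IsColimit.epi hcok }

/-- The summand sequence maps into the sum. -/
def seqι (i : ι) : ShortComplex.mk (Injective.ι (F i)) (cokernel.π _) (cokernel.condition _) ⟶
    sumSeq F where
  τ₁ := Sigma.ι F i
  τ₂ := Sigma.ι (fun i => Injective.under (F i)) i
  τ₃ := Sigma.ι (fun i => cokernel (Injective.ι (F i))) i

/-- Cohomology of a direct sum over a quasi-compact quasi-separated scheme is generated by the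
cohomology of the summands. -/
theorem exists_sum_H {T : X.ProEt} (hT : IsTerminal T) (hB : Qcqs T) (n : ℕ) :
    ∀ (F : ι → ProEtS.AbP X) (x : Sheaf.H (∐ F) n), ∃ (S : Finset ι) (y : ∀ i, Sheaf.H (F i) n),
      x = ∑ i ∈ S, Sheaf.H.map (Sigma.ι F i) n (y i) := by
  induction n with
  | zero =>
    intro F x
    obtain ⟨S, hS⟩ := fs_of_qcqs hB (Sheaf.H.equiv₀ _ hT x)
    refine ⟨S, fun i => (Sheaf.H.equiv₀ _ hT).symm
      ((proj F i).hom.app (op T) (Sheaf.H.equiv₀ _ hT x)), (Sheaf.H.equiv₀ _ hT).injective ?_⟩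
    rw [map_sum]
    refine hS.trans (Finset.sum_congr rfl fun i _ => ?_)
    rw [← Sheaf.H.equiv₀_naturality, AddEquiv.apply_symm_apply]
  | succ n ih =>
    intro F x
    have hS := sumSeq_shortExact F
    have hgood : Good (covers X) (sumSeq F).X₂ :=
      good_sum fun i => good_of_injective (covers X) (Injective.under (F i))
    haveI : Subsingleton (Sheaf.H (sumSeq F).X₂ (n + 1)) :=
      subsingleton_H_of_good (covers X) hT hB hgood n
    obtain ⟨q, hq⟩ := Ext.covariant_sequence_exact₁ _ hS x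
      (Subsingleton.elim (α := Sheaf.H (sumSeq F).X₂ (n + 1)) _ _) (n₀ := n) rfl
    obtain ⟨S, y, hy⟩ := ih _ q
    have hi : ∀ i, (ShortComplex.mk (Injective.ι (F i)) (cokernel.π _) (cokernel.condition _)).ShortExact :=
      fun i => { exact := ShortComplex.exact_of_g_is_cokernel _ (cokernelIsCokernel _) }
    refine ⟨S, fun i => (y i).comp (hi i).extClass rfl, ?_⟩
    rw [← hq, hy]
    refine (map_sum (hS.extClass.postcomp (Z X) (rfl : n + 1 = n + 1)) _ _).trans ?_
    refine Finset.sum_congr rfl fun i _ => ?_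
    have hnat := ShortComplex.ShortExact.extClass_naturality (hi i) hS (seqι F i)
    rw [Sheaf.H.map_apply, Sheaf.H.map_apply]
    refine ((y i).comp_assoc (Ext.mk₀ _) hS.extClass (add_zero n) (zero_add 1) (by omega)).trans ?_
    change (y i).comp ((Ext.mk₀ (seqι F i).τ₃).comp hS.extClass (zero_add 1)) rfl = _
    rw [← hnat]
    exact ((y i).comp_assoc (hi i).extClass (Ext.mk₀ _) rfl (add_zero 1) (by omega)).symm

end Sequence

end Groth.Agent.Lib.ProEt.Coprod
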