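import Groth.Agent.Lib.ProEt.Decomp
import Mathlib.CategoryTheory.Sites.Subcanonical

/-!
Characterisation of weakly contractible affine objects.
-/

set_option autoImplicit false

universe u

open CategoryTheory CategoryTheory.Limits AlgebraicGeometry Opposite

namespace Groth.Agent.Lib.ProEt.Criterion

set_option backward.isDefEq.respectTransparency.types false

variable {X : Scheme.{u}}

/-- If every covering morphism has a section, the ring of functions is w-contractible. -/
theorem isWContractible_of_forall_section {U : X.ProEt} [IsAffine U.left]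
    (h : ∀ (V : X.ProEt) (g : V ⟶ U),
      Sieve.generate (Presieve.singleton g) ∈ Scheme.ProEt.topology X U →
        ∃ s : U ⟶ V, s ≫ g = 𝟙 U) :
    EtPBC.IsWContractible ↥Γ(U.left, ⊤) := by
  intro B _ _ hff hw
  let e : Spec (CommRingCat.of B) ⟶ Spec Γ(U.left, ⊤) :=
    Spec.map (CommRingCat.ofHom (algebraMap ↥Γ(U.left, ⊤) B))
  have hwe : WeaklyEtale e := Basic.weaklyEtale_SpecMap_iff.mpr hw
  have hse : Surjective e :=
    ⟨PrimeSpectrum.comap_surjective_of_faithfullyFlat (A := ↥Γ(U.left, ⊤)) (B := B)⟩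
  let p : Spec (CommRingCat.of B) ⟶ U.left := e ≫ U.left.isoSpec.inv
  let V : X.ProEt := Scheme.ProEt.mk (p ≫ U.hom)
  let g : V ⟶ U := MorphismProperty.Over.homMk p
  have hgs : Surjective g.left := (inferInstance : Surjective p)
  have : QuasiCompact g.left := (inferInstance : QuasiCompact p)
  have hmem : Sieve.generate (Presieve.singleton g) ∈ Scheme.ProEt.topology X U :=
    Basic.singleton_mem g
  obtain ⟨s, hs⟩ := h V g hmem
  have hs' : s.left ≫ p = 𝟙 U.left := congrArg (fun φ => φ.left) hs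
  obtain ⟨ρ, hρ⟩ : ∃ ρ : CommRingCat.of B ⟶ Γ(U.left, ⊤), Spec.map ρ = U.left.isoSpec.inv ≫ s.left :=
    ⟨_, Spec.map_preimage _⟩
  have h1 : CommRingCat.ofHom (algebraMap ↥Γ(U.left, ⊤) B) ≫ ρ = 𝟙 _ := by
    refine Spec.map_injective ?_
    rw [Spec.map_comp, Spec.map_id, hρ]
    have h2 : (U.left.isoSpec.inv ≫ s.left) ≫ e ≫ U.left.isoSpec.inv = U.left.isoSpec.inv :=
      (Category.assoc _ _ _).trans
        ((congrArg (U.left.isoSpec.inv ≫ ·) hs').trans (Category.comp_id _))
    exact (cancel_mono U.left.isoSpec.inv).mp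
      ((Category.assoc _ _ _).trans (h2.trans (Category.id_comp _).symm))
  exact ⟨{ ρ.hom with commutes' := fun a => congr($(h1).hom a) }⟩

/-- Covering morphisms onto weakly contractible objects have sections. -/
theorem exists_section_of_isWC {U : X.ProEt} (h : ProEtS.IsWC U) (V : X.ProEt) (g : V ⟶ U)
    (hg : Sieve.generate (Presieve.singleton g) ∈ Scheme.ProEt.topology X U) :
    ∃ s : U ⟶ V, s ≫ g = 𝟙 U := by
  let J := Scheme.ProEt.topology X
  have : Sheaf.IsLocallySurjective ((GrothendieckTopology.uliftYoneda.{u + 1} J).map g) := ⟨fun {Z} s => by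
    refine J.superset_covering ?_ (J.pullback_stable s.down hg)
    rintro W i ⟨V', a, b, hb, hab⟩
    cases hb
    refine ⟨⟨a⟩, ?_⟩
    exact ULift.ext _ _ hab⟩
  obtain ⟨t, ht⟩ := h _ _ ((GrothendieckTopology.uliftYoneda.{u + 1} J).map g) inferInstance ⟨𝟙 U⟩
  exact ⟨t.down, congrArg ULift.down ht⟩

theorem isWContractible_iff_isWC (U : X.ProEt) [IsAffine U.left] :
    EtPBC.IsWContractible ↥Γ(U.left, ⊤) ↔ ProEtS.IsWC U :=
  ⟨fun h => Decomp.isWC_of h, fun h => isWContractible_of_forall_section (exists_section_of_isWC h)⟩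

theorem isWContractible_of_decomposition {U : X.ProEt} [IsAffine U.left]
    (h : ∀ R ∈ Scheme.ProEt.topology X U, ∃ (n : ℕ) (W : Fin n → U.left.Opens),
      (∀ k, IsClopen ((W k : Set ↥U.left))) ∧
      Pairwise (fun k l => Disjoint (W k : Set ↥U.left) (W l)) ∧
      (⋃ k, (W k : Set ↥U.left)) = Set.univ ∧ ∀ k, R.arrows (Decomp.incl U (W k))) :
    EtPBC.IsWContractible ↥Γ(U.left, ⊤) := by
  refine isWContractible_of_forall_section fun V g hg => ?_
  obtain ⟨n, W, hW, hd, hu, hR⟩ := h _ hg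
  let J := Scheme.ProEt.topology X
  have hR' : ∀ k, ∃ a : Decomp.piece U (W k) ⟶ V, a ≫ g = Decomp.incl U (W k) := fun k => by
    obtain ⟨V', a, b, hb, hab⟩ := hR k
    cases hb
    exact ⟨a, hab⟩
  choose a ha using hR'
  obtain ⟨s, hs, -⟩ := Decomp.existsUnique_glue ((GrothendieckTopology.uliftYoneda.{u + 1} J).obj V) W hW hd hu
    fun k => ⟨a k⟩
  refine ⟨s.down, congrArg ULift.down ((Decomp.existsUnique_glue
    ((GrothendieckTopology.uliftYoneda.{u + 1} J).obj U) W hW hd hu fun k => ⟨Decomp.incl U (W k)⟩).unique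
      (y₁ := ⟨s.down ≫ g⟩) (y₂ := ⟨𝟙 U⟩) (fun k => ?_) (fun k => ULift.ext _ _ (Category.comp_id (Decomp.incl U (W k)))))⟩
  refine ULift.ext _ _ ?_
  change Decomp.incl U (W k) ≫ s.down ≫ g = _
  rw [← Category.assoc, show Decomp.incl U (W k) ≫ s.down = a k from congrArg ULift.down (hs k), ha]

end Groth.Agent.Lib.ProEt.Criterion
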