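import Groth.Agent.Lib.ProEt.Basic
import Groth.Prelude.Def_PBC
import Mathlib.AlgebraicGeometry.Limits

/-!
Finite clopen decompositions of affine objects of the pro-etale site with w-contractible rings.
-/

set_option autoImplicit false

universe u

open CategoryTheory CategoryTheory.Limits AlgebraicGeometry Opposite

namespace Groth.Agent.Lib.ProEt.Decomp

set_option backward.isDefEq.respectTransparency.types false

/-- A weakly etale surjection of affine schemes onto a w-contractible one has a section. -/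
theorem exists_section {V U : Scheme.{u}} [IsAffine V] [IsAffine U] (p : V ⟶ U) [WeaklyEtale p]
    [Surjective p] (h : EtPBC.IsWContractible ↥Γ(U, ⊤)) : ∃ s : U ⟶ V, s ≫ p = 𝟙 U := by
  have hw := Basic.weaklyEtale_appTop p
  letI := p.appTop.hom.toAlgebra
  have hsurj : Function.Surjective (PrimeSpectrum.comap p.appTop.hom) := by
    have h1 : Spec.map p.appTop = V.isoSpec.inv ≫ p ≫ U.isoSpec.hom := by
      rw [Iso.eq_inv_comp, Scheme.isoSpec_hom_naturality]
    have h2 : Surjective (Spec.map p.appTop) := h1 ▸ inferInstance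
    exact h2.surj
  obtain ⟨r⟩ := h Γ(V, ⊤) (Module.FaithfullyFlat.of_comap_surjective hsurj) hw
  refine ⟨U.isoSpec.hom ≫ Spec.map (CommRingCat.ofHom r.toRingHom) ≫ V.isoSpec.inv, ?_⟩
  have h3 : p.appTop ≫ CommRingCat.ofHom r.toRingHom = 𝟙 Γ(U, ⊤) :=
    CommRingCat.hom_ext (RingHom.ext r.commutes)
  rw [Category.assoc, Category.assoc, ← Scheme.isoSpec_inv_naturality, ← Spec.map_comp_assoc, h3]
  simp

variable {X : Scheme.{u}}

/-- An open piece of an object. -/
noncomputable abbrev piece (U : X.ProEt) (W : U.left.Opens) : X.ProEt :=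
  Scheme.ProEt.mk (W.ι ≫ U.hom)

/-- The inclusion of an open piece. -/
noncomputable abbrev incl (U : X.ProEt) (W : U.left.Opens) : piece U W ⟶ U :=
  MorphismProperty.Over.homMk W.ι

/-- Every covering sieve of an affine w-contractible object contains a finite clopen decomposition. -/
theorem exists_decomposition {U : X.ProEt} [IsAffine U.left]
    (h : EtPBC.IsWContractible ↥Γ(U.left, ⊤)) {R : Sieve U}
    (hR : R ∈ Scheme.ProEt.topology X U) :
    ∃ (n : ℕ) (W : Fin n → U.left.Opens), (∀ k, IsClopen ((W k : Set ↥U.left))) ∧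
      Pairwise (fun k l => Disjoint (W k : Set ↥U.left) (W l)) ∧
      (⋃ k, (W k : Set ↥U.left)) = Set.univ ∧ ∀ k, R.arrows (incl U (W k)) := by
  obtain ⟨n, V, g, hV, hg, hcov⟩ := Basic.exists_finite_refinement hR
  let f : ∀ i, (V i).left ⟶ U.left := fun i => (g i).left
  let P := ∐ fun i => (V i).left
  let p : P ⟶ U.left := Sigma.desc f
  have : WeaklyEtale p := IsZariskiLocalAtSource.sigmaDesc fun i => Basic.weaklyEtale_left (g i)
  have : Surjective p := ⟨fun x => by
    obtain ⟨i, y, hy⟩ := Set.mem_iUnion.mp (hcov.ge (Set.mem_univ x))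
    refine ⟨Sigma.ι (fun i => (V i).left) i y, ?_⟩
    rw [← Scheme.Hom.comp_apply, Sigma.ι_desc]
    exact hy⟩
  obtain ⟨s, hs⟩ := exists_section p h
  let ι' : ∀ i, (V i).left ⟶ P := fun i => Sigma.ι (fun i => (V i).left) i
  let W : Fin n → U.left.Opens := fun i => s ⁻¹ᵁ (ι' i).opensRange
  have hdisj : Pairwise (fun k l => Disjoint (W k : Set ↥U.left) (W l)) := fun k l hkl =>
    Set.disjoint_left.mpr fun x hk hl => by
      have h0 := disjoint_iff.mp (disjoint_opensRange_sigmaι (fun i => (V i).left) k l hkl)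
      have h1 : s x ∈ (ι' k).opensRange ⊓ (ι' l).opensRange := ⟨hk, hl⟩
      rw [h0] at h1
      exact h1
  have hunion : (⋃ k, (W k : Set ↥U.left)) = Set.univ := Set.eq_univ_of_forall fun x => by
    obtain ⟨i, y, hy⟩ := (sigmaOpenCover (fun i => (V i).left)).exists_eq (s x)
    exact Set.mem_iUnion.mpr ⟨i, y, hy⟩
  refine ⟨n, W, fun k => ⟨?_, (W k).2⟩, hdisj, hunion, fun k => ?_⟩
  · have hc : (W k : Set ↥U.left) = (⋃ l ∈ {l | l ≠ k}, (W l : Set ↥U.left))ᶜ := by
      ext x
      simp only [Set.mem_compl_iff, Set.mem_iUnion, Set.mem_setOf_eq, not_exists]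
      refine ⟨fun hx l hl hxl => Set.disjoint_left.mp (hdisj hl) hxl hx, fun hx => ?_⟩
      obtain ⟨l, hl⟩ := Set.mem_iUnion.mp (hunion.ge (Set.mem_univ x))
      rcases eq_or_ne l k with rfl | hlk
      · exact hl
      · exact absurd hl (hx l hlk)
    rw [hc]
    exact (isOpen_biUnion fun l _ => (W l).2).isClosed_compl
  · have hrange : Set.range ((W k).ι ≫ s).base ⊆ Set.range (ι' k).base := by
      rintro _ ⟨x, rfl⟩
      exact x.2
    let t := IsOpenImmersion.lift (ι' k) ((W k).ι ≫ s) hrange
    have ht : t ≫ f k = (W k).ι := by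
      rw [show f k = ι' k ≫ p from (Sigma.ι_desc _ _).symm, IsOpenImmersion.lift_fac_assoc,
        Category.assoc, hs, Category.comp_id]
    let c : piece U (W k) ⟶ V k := MorphismProperty.Over.homMk t (by
      change t ≫ (V k).hom = (W k).ι ≫ U.hom
      rw [← MorphismProperty.Over.w (g k), ← Category.assoc]
      exact congrArg (· ≫ U.hom) ht)
    have hc : incl U (W k) = c ≫ g k := by
      apply MorphismProperty.Over.Hom.ext
      exact ht.symm
    rw [hc]
    exact R.downward_closed (hg k) c

section Sheaf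

variable (F : Sheaf (Scheme.ProEt.topology X) (Type (u + 1)))

/-- Sections over an empty object form a singleton. -/
lemma subsingleton_of_isEmpty (Z : X.ProEt) [IsEmpty Z.left] :
    Subsingleton (F.obj.obj (op Z)) :=
  ⟨fun a b => (((isSheaf_iff_isSheaf_of_type _ _).mp F.property) ⊥ (Scheme.ProEt.bot_mem_topology Z)
    |>.isSeparatedFor).ext fun _ _ h => h.elim⟩

variable {U : X.ProEt} [CompactSpace U.left] {n : ℕ} (W : Fin n → U.left.Opens)
  (hW : ∀ k, IsClopen (W k : Set ↥U.left))
  (hd : Pairwise (fun k l => Disjoint (W k : Set ↥U.left) (W l)))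
  (hu : (⋃ k, (W k : Set ↥U.left)) = Set.univ)

include hW hd hu

/-- Sections glue along finite clopen decompositions. -/
theorem existsUnique_glue (t : ∀ k, F.obj.obj (op (piece U (W k)))) :
    ∃! s : F.obj.obj (op U), ∀ k, F.obj.map (incl U (W k)).op s = t k := by
  have : ∀ k, QuasiCompact (incl U (W k)).left := fun k => by
    refine quasiCompact_iff_isSpectralMap.mpr ⟨(W k).ι.continuous, fun S hSo hSc => ?_⟩
    exact (hW k).isClosed.isClosedEmbedding_subtypeVal.isCompact_preimage hSc
  have hmem : Sieve.ofArrows _ (fun k => incl U (W k)) ∈ Scheme.ProEt.topology X U :=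
    Basic.ofArrows_mem _ (by
      refine Set.eq_univ_of_forall fun x => ?_
      obtain ⟨k, hk⟩ := Set.mem_iUnion.mp (hu.ge (Set.mem_univ x))
      exact Set.mem_iUnion.mpr ⟨k, ⟨x, hk⟩, rfl⟩)
  have hsf : Presieve.IsSheafFor F.obj (Presieve.ofArrows _ fun k => incl U (W k)) :=
    (Presieve.isSheafFor_iff_generate _).mpr ((isSheaf_iff_isSheaf_of_type _ _).mp F.property _ hmem)
  refine (Presieve.isSheafFor_arrows_iff _ _).mp hsf t fun k l Z a b hab => ?_
  rcases eq_or_ne k l with rfl | hkl
  · have : a = b := by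
      apply MorphismProperty.Over.Hom.ext
      exact (cancel_mono (W k).ι).mp (congrArg (fun φ => φ.left) hab)
    rw [this]
  · have : IsEmpty Z.left := ⟨fun z => Set.disjoint_left.mp (hd hkl) (a.left z).2 (by
      have h1 : (a ≫ incl U (W k)).left z = (b ≫ incl U (W l)).left z := by rw [hab]
      have h2 : ((a.left z).1 : U.left) = (b.left z).1 := h1
      rw [h2]
      exact (b.left z).2)⟩
    exact @Subsingleton.elim _ (subsingleton_of_isEmpty F Z) _ _

end Sheaf

/-- Affine objects with w-contractible rings are weakly contractible. -/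
theorem isWC_of {U : X.ProEt} [IsAffine U.left]
    (h : EtPBC.IsWContractible ↥Γ(U.left, ⊤)) : ProEtS.IsWC U := by
  intro F G φ hφ s
  have : Sheaf.IsLocallySurjective φ := (Sheaf.isLocallySurjective_iff_epi φ).mpr hφ
  obtain ⟨n, W, hW, hd, hu, hR⟩ := exists_decomposition h
    (Presheaf.imageSieve_mem (Scheme.ProEt.topology X) φ.hom (U := op U) s)
  choose t ht using hR
  obtain ⟨r, hr, -⟩ := existsUnique_glue F W hW hd hu t
  refine ⟨r, (existsUnique_glue G W hW hd hu _).unique (fun k => ?_) (fun k => rfl)⟩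
  rw [← ht k, ← hr k]
  exact (ConcreteCategory.congr_hom (φ.hom.naturality (incl U (W k)).op) r).symm

end Groth.Agent.Lib.ProEt.Decomp
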