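import Groth.Agent.Lib.ProEt.EpsExact
import Groth.Agent.Lib.BigEt.Compare
import Groth.Agent.Lib.SpecSeq.HomExt
import Groth.Prelude.Def_EtCore

/-!
Etale and pro-etale cohomology of sheaves from the small etale site agree.
-/

set_option autoImplicit false

universe u

open CategoryTheory CategoryTheory.Limits AlgebraicGeometry Opposite

noncomputable section

namespace Groth.Agent.Lib.ProEt.EpsCoh

set_option backward.isDefEq.respectTransparency.types false

open Groth.Agent.Lib.SpecSeq

variable {X : Scheme.{u}} [ProEtS.EpsCont X] (F : EtCoh.Ab X)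

/-- The inverse image. -/
abbrev pullF : ProEtS.AbP X := (ProEtS.epsPull X).obj F

variable (R : InjectiveResolution (pullF F))

/-- The restricted complex. -/
abbrev resCx : CochainComplex (EtCoh.Ab X) ℕ :=
  ((ProEtS.epsPush X).mapHomologicalComplex (ComplexShape.up ℕ)).obj R.cocomplex

/-- The augmentation. -/
def aug : F ⟶ (resCx F R).X 0 :=
  (ProEtS.epsAdj X).unit.app F ≫ (ProEtS.epsPush X).map (R.ι.f 0)

theorem aug_d : aug F R ≫ (resCx F R).d 0 1 = 0 := by
  change ((ProEtS.epsAdj X).unit.app F ≫ (ProEtS.epsPush X).map (R.ι.f 0)) ≫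
    (ProEtS.epsPush X).map (R.cocomplex.d 0 1) = 0
  have h := congrArg (ProEtS.epsPush X).map R.ι_f_zero_comp_complex_d
  rw [Functor.map_comp, Functor.map_zero] at h
  exact (Category.assoc _ _ _).trans ((congrArg ((ProEtS.epsAdj X).unit.app F ≫ ·) h).trans comp_zero)

/-- The restriction of an injective resolution is an injective resolution. -/
def resolution : InjectiveResolution F where
  cocomplex := resCx F R
  injective n :=
    have : (ProEtS.epsPull X).PreservesMonomorphisms := EpsExact.preservesMonomorphisms_epsPull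
    Injective.injective_of_adjoint (ProEtS.epsAdj X) (R.cocomplex.X n)
  ι := (CochainComplex.fromSingle₀Equiv _ _).symm ⟨aug F R, aug_d F R⟩
  quasiIso := ⟨fun n => by
    cases n with
    | succ n =>
      rw [quasiIsoAt_iff_exactAt _ _ (CochainComplex.exactAt_succ_single_obj _ _)]
      refine (HomologicalComplex.exactAt_iff_isZero_homology _ _).mpr ?_
      exact (EpsExact.isZero_RepsPush n F).of_iso (R.isoRightDerivedObj (ProEtS.epsPush X) (n + 1)).symm
    | zero =>
      rw [CochainComplex.quasiIsoAt₀_iff, ShortComplex.quasiIso_iff_of_zeros]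
      · have : IsIso ((ProEtS.epsAdj X).unit.app F) := EpsUnit.isIso_unit F
        haveI : (ProEtS.epsPush X).IsRightAdjoint := (ProEtS.epsAdj X).isRightAdjoint
        have hl : IsLimit (KernelFork.ofι (aug F R) (aug_d F R) :
            KernelFork ((resCx F R).d 0 1)) := by
          have h1 := KernelFork.mapIsLimit R.kernelFork R.isLimitKernelFork (ProEtS.epsPush X)
          refine IsLimit.ofIsoLimit h1
            (Fork.ext (asIso ((ProEtS.epsAdj X).unit.app F)).symm ?_)
          change inv ((ProEtS.epsAdj X).unit.app F) ≫ aug F R = _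
          exact IsIso.inv_hom_id_assoc _ _
        let S := ShortComplex.mk (aug F R) ((resCx F R).d 0 1) (aug_d F R)
        refine (ShortComplex.exact_and_mono_f_iff_of_iso ?_).1
          ⟨ShortComplex.exact_of_f_is_kernel S hl, Fork.IsLimit.mono hl⟩
        exact ShortComplex.isoMk (Iso.refl _) (Iso.refl _) (Iso.refl _)
          ((Category.id_comp _).trans (Category.comp_id _).symm)
          ((Category.id_comp _).trans (Category.comp_id _).symm)
      all_goals first | rfl | exact (resCx F R).shape _ _ (by simp)⟩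

/-- The two complexes of global sections. -/
def cxIso (A : EtCoh.Ab X) {B : ProEtS.AbP X} (i : (ProEtS.epsPull X).obj A ≅ B) :
    HomExt.homCx R B ≅ HomExt.homCx (resolution F R) A :=
  haveI : (ProEtS.epsPull X).Additive := (ProEtS.epsAdj X).left_adjoint_additive
  HomologicalComplex.Hom.isoOfComponents
    (fun n => AddEquiv.toAddCommGrpIso
      (AddEquiv.mk' (i.homFromEquiv.symm.trans ((ProEtS.epsAdj X).homEquiv A (R.cocomplex.X n)))
        fun (f g : B ⟶ R.cocomplex.X n) => by
          change (ProEtS.epsAdj X).homEquiv _ _ (i.hom ≫ (f + g)) =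
            (ProEtS.epsAdj X).homEquiv _ _ (i.hom ≫ f) + (ProEtS.epsAdj X).homEquiv _ _ (i.hom ≫ g)
          rw [Preadditive.comp_add]
          exact (ProEtS.epsAdj X).homAddEquiv_add _ _ _ _))
    fun n m _ => by
      ext f
      change (ProEtS.epsAdj X).homEquiv _ _ (i.hom ≫ f) ≫ (ProEtS.epsPush X).map (R.cocomplex.d n m) =
        (ProEtS.epsAdj X).homEquiv _ _ (i.hom ≫ f ≫ R.cocomplex.d n m)
      rw [← Adjunction.homEquiv_naturality_right, Category.assoc]

/-- The final object of the pro-etale site. -/
def topIsTerminal (X : Scheme.{u}) : IsTerminal ((ProEtS.eps X).obj (EtCoh.top X)) :=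
  IsTerminal.isTerminalOfObj (Scheme.ProEt.forget X) _ Over.mkIdTerminal

/-- Etale and pro-etale cohomology agree. -/
theorem nonempty_H (q : ℕ) : Nonempty (EtCoh.H X F q ≃+ ProEtS.HP X (pullF F) q) :=
  let R₀ := injectiveResolution (pullF F)
  ⟨((HomExt.homologyIso (resolution F R₀) q).symm ≪≫
    (HomologicalComplex.homologyFunctor _ _ q).mapIso
      (cxIso F R₀ _ ((BigEt.Compare.pullConstIso.{u + 1} (ProEtS.eps X) X.smallEtaleTopology (Scheme.ProEt.topology X)
        (EtCore.topIsTerminal X) (topIsTerminal X)).app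
          (AddCommGrpCat.of (ULift.{u + 1} ℤ)))).symm ≪≫
    HomExt.homologyIso R₀ q).addCommGroupIsoToAddEquiv⟩

/-- Pulled back injectives have no higher cohomology. -/
theorem subsingleton_HP (I : EtCoh.Ab X) [Injective I] (p : ℕ) :
    Subsingleton (ProEtS.HP X (pullF I) (p + 1)) := by
  obtain ⟨e⟩ := nonempty_H I (p + 1)
  haveI : Subsingleton (EtCoh.H X I (p + 1)) :=
    subsingleton_of_forall_eq 0 fun x => x.eq_zero_of_injective
  exact e.symm.toEquiv.subsingleton

end Groth.Agent.Lib.ProEt.EpsCoh
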