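import Groth.Agent.Lib.ProEt.EpsVanish
import Mathlib.AlgebraicGeometry.AffineTransitionLimit
import Mathlib.CategoryTheory.Limits.Shapes.Pullback.Connected
import Mathlib.Algebra.Category.Grp.FilteredColimits

/-!
Sections of the pullback from the etale site commute with cofiltered limits.
-/

set_option autoImplicit false

universe u

open CategoryTheory CategoryTheory.Limits AlgebraicGeometry Opposite

namespace Groth.Agent.Lib.ProEt.EpsColimit

set_option backward.isDefEq.respectTransparency.types false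

variable {X : Scheme.{u}}

/-- Fibre products in the site are fibre products of schemes. -/
lemma isPullback_left {A B C : X.ProEt} (f : A ⟶ C) (g : B ⟶ C) :
    IsPullback (pullback.fst f g).left (pullback.snd f g).left f.left g.left :=
  (IsPullback.of_hasPullback f g).map (Scheme.ProEt.forget X ⋙ Over.forget X)

lemma isPullback_left' {P A B C : X.ProEt} {p : P ⟶ A} {q : P ⟶ B} {f : A ⟶ C} {g : B ⟶ C}
    (h : IsPullback p q f g) : IsPullback p.left q.left f.left g.left :=
  h.map (Scheme.ProEt.forget X ⋙ Over.forget X)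

/-- A point of a fibre product. -/
lemma exists_point {A B C : X.ProEt} (f : A ⟶ C) (g : B ⟶ C) (a : ↥A.left) (b : ↥B.left)
    (h : f.left.base a = g.left.base b) :
    ∃ t : ↥(pullback f g).left, (pullback.fst f g).left.base t = a ∧
      (pullback.snd f g).left.base t = b := by
  obtain ⟨t, h₁, h₂⟩ := Scheme.Pullback.exists_preimage_pullback (f := f.left) (g := g.left) a b h
  refine ⟨(isPullback_left f g).isoPullback.inv.base t, ?_, ?_⟩
  · exact (congrArg (fun φ => φ.base t) (isPullback_left f g).isoPullback_inv_fst).trans h₁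
  · exact (congrArg (fun φ => φ.base t) (isPullback_left f g).isoPullback_inv_snd).trans h₂

section System

variable {I : Type u} [SmallCategory I] (D : I ⥤ X.ProEt) (c : Cone D) {i : I} {R : X.ProEt}
  (r : R ⟶ D.obj i)

/-- The transition maps of the system of base changes. -/
noncomputable def baseMap {j k : Over i} (φ : j ⟶ k) :
    pullback r (D.map j.hom) ⟶ pullback r (D.map k.hom) :=
  pullback.lift (pullback.fst _ _) (pullback.snd _ _ ≫ D.map φ.left) (by
    rw [Category.assoc, ← D.map_comp, Over.w φ, pullback.condition])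

lemma baseMap_fst {j k : Over i} (φ : j ⟶ k) :
    baseMap D r φ ≫ pullback.fst r (D.map k.hom) = pullback.fst r (D.map j.hom) :=
  pullback.lift_fst _ _ _

lemma baseMap_snd {j k : Over i} (φ : j ⟶ k) :
    baseMap D r φ ≫ pullback.snd r (D.map k.hom) = pullback.snd r (D.map j.hom) ≫ D.map φ.left :=
  pullback.lift_snd _ _ _

/-- The system of base changes. -/
noncomputable def baseChange : Over i ⥤ X.ProEt where
  obj j := pullback r (D.map j.hom)
  map φ := baseMap D r φ
  map_id j := pullback.hom_ext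
    ((baseMap_fst D r _).trans (Category.id_comp _).symm)
    (by rw [baseMap_snd, Over.id_left, D.map_id, Category.comp_id, Category.id_comp])
  map_comp φ ψ := pullback.hom_ext
    (by rw [Category.assoc, baseMap_fst, baseMap_fst, baseMap_fst])
    (by rw [Category.assoc, baseMap_snd, baseMap_snd, reassoc_of% (baseMap_snd D r φ),
      Over.comp_left, D.map_comp])

/-- Its projection. -/
noncomputable def baseChangeSnd : baseChange D r ⟶ Over.forget i ⋙ D where
  app j := pullback.snd r (D.map j.hom)
  naturality _ _ φ := baseMap_snd D r φ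

/-- The projections of the base change of the cone. -/
noncomputable def basePi (j : Over i) : pullback r (c.π.app i) ⟶ pullback r (D.map j.hom) :=
  pullback.lift (pullback.fst _ _) (pullback.snd _ _ ≫ c.π.app j.left) (by
    rw [Category.assoc, c.w, pullback.condition])

lemma basePi_fst (j : Over i) :
    basePi D c r j ≫ pullback.fst r (D.map j.hom) = pullback.fst r (c.π.app i) :=
  pullback.lift_fst _ _ _

lemma basePi_snd (j : Over i) :
    basePi D c r j ≫ pullback.snd r (D.map j.hom) = pullback.snd r (c.π.app i) ≫ c.π.app j.left :=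
  pullback.lift_snd _ _ _

/-- The base change of the cone. -/
noncomputable def baseChangeCone : Cone (baseChange D r) where
  pt := pullback r (c.π.app i)
  π :=
    { app := basePi D c r
      naturality := fun j k φ => (Category.id_comp _).trans
        (show basePi D c r k = basePi D c r j ≫ baseMap D r φ by
          refine pullback.hom_ext ?_ ?_
          · rw [Category.assoc, baseMap_fst, basePi_fst, basePi_fst]
          · rw [Category.assoc, baseMap_snd, reassoc_of% (basePi_snd D c r j), basePi_snd,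
              c.w φ.left]) }

lemma isPullback_cone (j : Over i) :
    IsPullback (basePi D c r j) (pullback.snd r (c.π.app i))
      (pullback.snd r (D.map j.hom)) (c.π.app j.left) := by
  refine IsPullback.of_right ?_ (basePi_snd D c r j) (IsPullback.of_hasPullback r (D.map j.hom))
  rw [basePi_fst, c.w]
  exact IsPullback.of_hasPullback _ _

/-- The scheme diagram of the base changes. -/
noncomputable abbrev schemeDiagram : Over i ⥤ Scheme.{u} :=
  baseChange D r ⋙ Scheme.ProEt.forget X ⋙ Over.forget X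

instance isAffineHom_baseChange [∀ (i j : I) (a : i ⟶ j), IsAffineHom (D.map a).left]
    {j k : Over i} (φ : j ⟶ k) : IsAffineHom ((schemeDiagram D r).map φ) := by
  have h : IsPullback (baseMap D r φ) (pullback.snd r (D.map j.hom))
      (pullback.snd r (D.map k.hom)) (D.map φ.left) := by
    refine IsPullback.of_right ?_ (baseMap_snd D r φ)
      (IsPullback.of_hasPullback r (D.map k.hom))
    rw [baseMap_fst, ← D.map_comp, Over.w φ]
    exact IsPullback.of_hasPullback _ _
  exact MorphismProperty.of_isPullback (isPullback_left' h).flip (inferInstance : IsAffineHom (D.map φ.left).left)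

variable [IsCofiltered I]

attribute [local instance] CategoryTheory.isConnected_of_hasTerminal

/-- It is a limit of schemes. -/
noncomputable def isLimitBaseChange
    (hc : IsLimit ((Scheme.ProEt.forget X ⋙ Over.forget X).mapCone c)) :
    IsLimit ((Scheme.ProEt.forget X ⋙ Over.forget X).mapCone (baseChangeCone D c r)) :=
  isLimitOfIsPullbackOfIsConnected
    (Functor.whiskerRight (baseChangeSnd D r) (Scheme.ProEt.forget X ⋙ Over.forget X))
    _ (((Scheme.ProEt.forget X ⋙ Over.forget X).mapCone c).whisker (Over.forget i))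
    { hom := (pullback.snd r (c.π.app i)).left
      w := fun j => (isPullback_left' (isPullback_cone D c r j)).w.symm }
    (fun j => isPullback_left' (isPullback_cone D c r j))
    ((Functor.Initial.isLimitWhiskerEquiv (Over.forget i) _).symm hc)

end System

variable [ProEtS.EpsCont X] (F : EtCoh.Ab X)

open EtSections EpsUnit EpsVanish

/-- A point killed by every weakly contractible test object is in the locus. -/
lemma mem_locus_of_forall {V : X.ProEt} (z : ProEtS.sectP (G F) V)
    {T : X.ProEt} (g : T ⟶ V) (h : ∀ (P : X.ProEt) (p : P ⟶ T), (G F).obj.map (p ≫ g).op z = 0)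
    (t : ↥T.left) : g.left.base t ∈ locus F z := by
  obtain ⟨W, hW⟩ := TopologicalSpace.Opens.mem_iSup.mp
    ((iSup_affineOpens_eq_top T.left).ge (trivial : t ∈ (⊤ : T.left.Opens)))
  obtain ⟨P, p, -, -, hp⟩ := Covers.exists_over_affineOpen T W.2
  obtain ⟨q, hq⟩ := hp.ge (show t ∈ (W.1 : Set ↥T.left) from hW)
  have h' := mem_locus F z (p ≫ g) (h P p) q
  have e : (p ≫ g).left.base q = g.left.base t := congrArg g.left.base hq
  exact (congrArg (· ∈ locus F z) e).mp h'

variable {I : Type u} [SmallCategory I] [IsCofiltered I] (D : I ⥤ X.ProEt)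
  [∀ (i j : I) (a : i ⟶ j), IsAffineHom (D.map a).left]
  (c : Cone D) (hc : IsLimit ((Scheme.ProEt.forget X ⋙ Over.forget X).mapCone c))

include hc

/-- A section vanishing over the limit vanishes at a finite stage. -/
theorem exists_map_eq_zero {i : I} {R : X.ProEt} [CompactSpace R.left] (r : R ⟶ D.obj i)
    (z : ProEtS.sectP (G F) R)
    (hz : ∀ (T : X.ProEt) (p : T ⟶ R) (q : T ⟶ c.pt), p ≫ r = q ≫ c.π.app i →
      (G F).obj.map p.op z = 0) :
    ∃ (j : I) (a : j ⟶ i), ∀ (T : X.ProEt) (p : T ⟶ R) (q : T ⟶ D.obj j),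
      p ≫ r = q ≫ D.map a → (G F).obj.map p.op z = 0 := by
  let top : Over i := Over.mk (𝟙 i)
  let p₀ : (baseChange D r).obj top ⟶ R := pullback.fst r (D.map top.hom)
  let U : ((baseChange D r).obj top).left.Opens := p₀.left ⁻¹ᵁ locus F z
  haveI : ∀ j, CompactSpace ↥((schemeDiagram D r).obj j) := fun (j : Over i) => by
    haveI : IsAffineHom (D.map j.hom).left := inferInstance
    haveI : IsAffineHom (pullback.fst r (D.map j.hom)).left :=
      MorphismProperty.of_isPullback (isPullback_left r (D.map j.hom)).flip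
        (inferInstance : IsAffineHom (D.map j.hom).left)
    let π₀ : (pullback r (D.map j.hom)).left ⟶ R.left := (pullback.fst r (D.map j.hom)).left
    haveI : IsAffineHom π₀ := MorphismProperty.of_isPullback (isPullback_left r (D.map j.hom)).flip
        (inferInstance : IsAffineHom (D.map j.hom).left)
    exact (QuasiCompact.compactSpace_of_compactSpace π₀ : CompactSpace ↥(pullback r (D.map j.hom)).left)
  have hU : (((Scheme.ProEt.forget X ⋙ Over.forget X).mapCone (baseChangeCone D c r)).π.app top)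
      ⁻¹ᵁ U = ⊤ := by
    refine TopologicalSpace.Opens.ext (Set.eq_univ_of_forall fun t => ?_)
    exact mem_locus_of_forall F z (basePi D c r top ≫ pullback.fst r (D.map top.hom))
      (fun P (p : P ⟶ pullback r (c.π.app i)) =>
        hz P _ (p ≫ pullback.snd r (c.π.app i)) (by
          rw [basePi_fst, Category.assoc, Category.assoc, pullback.condition])) t
  obtain ⟨j, φ, hφ⟩ := exists_map_eq_top (schemeDiagram D r) _ (isLimitBaseChange D c r hc) U hU
  refine ⟨j.left, j.hom, fun T p q hpq => map_eq_zero_of_range_subset F z p fun y => ?_⟩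
  let l : T ⟶ (baseChange D r).obj j := pullback.lift p q hpq
  have hl : l ≫ (baseChange D r).map φ ≫ p₀ = p :=
    (congrArg (l ≫ ·) (baseMap_fst D r φ)).trans (pullback.lift_fst _ _ _)
  have h' : ((baseChange D r).map φ).left.base (l.left.base y) ∈ U :=
    hφ.ge (Set.mem_univ (l.left.base y))
  rw [← congrArg (fun ψ : T ⟶ R => ψ.left.base y) hl]
  exact h'

/-- Sections over the limit come locally from finite stages. -/
theorem exists_local (y : ProEtS.sectP (G F) c.pt) (e : ↥c.pt.left) :
    ∃ (i : I) (W : X.ProEt) (_ : CompactSpace W.left) (w : W ⟶ D.obj i) (_ : Etale w.left)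
      (s : ProEtS.sectP (G F) W), (c.π.app i).left.base e ∈ Set.range w.left.base ∧
      ∀ (T : X.ProEt) (p : T ⟶ W) (q : T ⟶ c.pt), p ≫ w = q ≫ c.π.app i →
        (G F).obj.map p.op s = (G F).obj.map q.op y := by
  obtain ⟨W, hW⟩ := TopologicalSpace.Opens.mem_iSup.mp
    ((iSup_affineOpens_eq_top c.pt.left).ge (trivial : e ∈ (⊤ : c.pt.left.Opens)))
  obtain ⟨P, g, hP, hwc, hg⟩ := Covers.exists_over_affineOpen c.pt W.2
  haveI := hP
  obtain ⟨p₁, hp₁⟩ := hg.ge (show e ∈ (W.1 : Set ↥c.pt.left) from hW)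
  obtain ⟨E, a, x, hx⟩ := AbPullback.exists_sec (ProEtS.eps X) F (hasSums X) hwc
    ((G F).obj.map g.op y)
  obtain ⟨i₀⟩ := IsCofiltered.nonempty (C := I)
  haveI : Etale E.hom := E.prop
  let E' : X.ProEt := (ProEtS.eps X).obj E
  haveI : Etale E'.hom := E.prop
  let M : X.ProEt := Scheme.ProEt.mk (pullback.snd E'.hom (D.obj i₀).hom ≫ (D.obj i₀).hom)
  let w₀ : M ⟶ D.obj i₀ := MorphismProperty.Over.homMk (pullback.snd E'.hom (D.obj i₀).hom) rfl
  let pr : M ⟶ E' := MorphismProperty.Over.homMk (pullback.fst E'.hom (D.obj i₀).hom) pullback.condition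
  haveI : Etale w₀.left := (inferInstance : Etale (pullback.snd E'.hom (D.obj i₀).hom))
  let m : P ⟶ M := MorphismProperty.Over.homMk
    (pullback.lift a.left (g ≫ c.π.app i₀).left
      ((MorphismProperty.Over.w a).trans (MorphismProperty.Over.w (g ≫ c.π.app i₀)).symm))
    ((pullback.lift_snd_assoc _ _ _ _).trans (MorphismProperty.Over.w (g ≫ c.π.app i₀)))
  have hm₁ : m ≫ pr = a := MorphismProperty.Over.Hom.ext (pullback.lift_fst _ _ _)
  have hm₂ : m ≫ w₀ = g ≫ c.π.app i₀ := MorphismProperty.Over.Hom.ext (pullback.lift_snd _ _ _)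
  let Minf : X.ProEt := pullback w₀ (c.π.app i₀)
  let f₁ : Minf ⟶ E' := pullback.fst w₀ (c.π.app i₀) ≫ pr
  let f₂ : Minf ⟶ c.pt := pullback.snd w₀ (c.π.app i₀)
  let z : ProEtS.sectP (G F) Minf := sec F f₁ x - (G F).obj.map f₂.op y
  let l : P ⟶ Minf := pullback.lift m g hm₂
  have hl₁ : l ≫ f₁ = a := (pullback.lift_fst_assoc m g hm₂ pr).trans hm₁
  have hl₂ : l ≫ f₂ = g := pullback.lift_snd _ _ _
  have hlz : (G F).obj.map l.op z = 0 := by
    rw [map_sub, sec, AbPullback.map_sec, hl₁, map_map, hl₂, hx, sub_self]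
  have hp₁z : l.left.base p₁ ∈ locus F z := mem_locus F z l hlz p₁
  obtain ⟨O, hO, hmO, hOle⟩ := Minf.left.isBasis_affineOpens.exists_subset_of_mem_open hp₁z
    (locus F z).2
  obtain ⟨O', hO', rfl⟩ := hO
  obtain ⟨j, V, hVc, hV⟩ := exists_preimage_eq (schemeDiagram D w₀) _ (isLimitBaseChange D c w₀ hc)
    O' hO'.isCompact
  let Mj : X.ProEt := (baseChange D w₀).obj j
  let wj : Mj ⟶ D.obj j.left := pullback.snd w₀ (D.map j.hom)
  let Wj : X.ProEt := Decomp.piece Mj V
  let inj : Wj ⟶ Mj := Decomp.incl Mj V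
  haveI : CompactSpace Wj.left := isCompact_iff_compactSpace.mp hVc
  haveI : Etale wj.left := MorphismProperty.of_isPullback (isPullback_left w₀ (D.map j.hom))
    (inferInstance : Etale w₀.left)
  haveI : Etale (inj ≫ wj).left := by
    let Vi : V.toScheme ⟶ Mj.left := V.ι
    let wl : Mj.left ⟶ (D.obj j.left).left := wj.left
    haveI : Etale wl := (inferInstance : Etale wj.left)
    haveI : Etale Vi := (inferInstance : Etale V.ι)
    exact (inferInstance : Etale (Vi ≫ wl))
  let t : Wj ⟶ E' := inj ≫ pullback.fst w₀ (D.map j.hom) ≫ pr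
  refine ⟨j.left, Wj, inferInstance, inj ≫ wj, inferInstance, sec F t x, ?_, fun T p q hpq => ?_⟩
  · have hv : ((baseChangeCone D c w₀).π.app j).left.base (l.left.base p₁) ∈ V :=
      hV.ge hmO
    refine ⟨⟨_, hv⟩, ?_⟩
    have h1 : l ≫ basePi D c w₀ j ≫ pullback.snd w₀ (D.map j.hom) = g ≫ c.π.app j.left :=
      (congrArg (l ≫ ·) (basePi_snd D c w₀ j)).trans (pullback.lift_snd_assoc m g hm₂ _)
    exact (congrArg (fun ψ : P ⟶ D.obj j.left => ψ.left.base p₁) h1).trans
      (congrArg (c.π.app j.left).left.base hp₁)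
  · let b : T ⟶ pullback w₀ (D.map j.hom) := p ≫ inj
    have hb : b ≫ pullback.snd w₀ (D.map j.hom) = q ≫ c.π.app j.left :=
      (Category.assoc _ _ _).trans hpq
    let k : T ⟶ Minf := pullback.lift (b ≫ pullback.fst w₀ (D.map j.hom)) q (by
      rw [Category.assoc, pullback.condition, reassoc_of% hb, c.w])
    have hk₁ : k ≫ pullback.fst w₀ (c.π.app i₀) = b ≫ pullback.fst w₀ (D.map j.hom) :=
      pullback.lift_fst _ _ _
    have hk₂ : k ≫ pullback.snd w₀ (c.π.app i₀) = q := pullback.lift_snd _ _ _
    have hk : k ≫ basePi D c w₀ j = b := pullback.hom_ext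
      (((Category.assoc _ _ _).trans (congrArg (k ≫ ·) (basePi_fst D c w₀ j))).trans hk₁)
      (((Category.assoc _ _ _).trans (congrArg (k ≫ ·) (basePi_snd D c w₀ j))).trans
        (((Category.assoc _ _ _).symm.trans (congrArg (· ≫ c.π.app j.left) hk₂)).trans hb.symm))
    have hkO : ∀ y, k.left.base y ∈ locus F z := fun y => hOle (hV.le (by
      change ((baseChangeCone D c w₀).π.app j).left.base (k.left.base y) ∈ V
      rw [show ((baseChangeCone D c w₀).π.app j).left.base (k.left.base y) = inj.left.base (p.left.base y)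
        from congrArg (fun ψ : T ⟶ Mj => ψ.left.base y) hk]
      exact (p.left.base y).2))
    have hkz := map_eq_zero_of_range_subset F z k hkO
    rw [map_sub, sub_eq_zero, sec, AbPullback.map_sec, map_map] at hkz
    have h1 : k ≫ f₁ = p ≫ t :=
      (Category.assoc _ _ _).symm.trans ((congrArg (· ≫ pr) hk₁).trans
        ((Category.assoc _ _ _).trans (Category.assoc _ _ _)))
    have h2 : k ≫ f₂ = q := pullback.lift_snd _ _ _
    rw [h1, h2] at hkz
    rw [sec, AbPullback.map_sec]
    exact hkz

variable [∀ i, CompactSpace ↥(D.obj i).left] [∀ i, QuasiSeparatedSpace ↥(D.obj i).left]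

/-- Every section over the limit comes from a finite stage. -/
theorem exists_preimage (y : ProEtS.sectP (G F) c.pt) :
    ∃ (k : I) (t : ProEtS.sectP (G F) (D.obj k)), (G F).obj.map (c.π.app k).op t = y := by
  classical
  let L : Scheme.{u} := c.pt.left
  let D' : I ⥤ Scheme.{u} := D ⋙ Scheme.ProEt.forget X ⋙ Over.forget X
  haveI : ∀ {i j : I} (f : i ⟶ j), IsAffineHom (D'.map f) := fun f => (inferInstance : IsAffineHom (D.map f).left)
  haveI : ∀ i, CompactSpace ↥(D'.obj i) := fun i => (inferInstance : CompactSpace ↥(D.obj i).left)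
  haveI : CompactSpace ↥L := Scheme.compactSpace_of_isLimit D' _ hc
  choose ι W hWc w hw s hrange hs using exists_local F D c hc y
  let V : ↥L → L.Opens := fun e => (c.π.app (ι e)).left ⁻¹ᵁ
    ⟨Set.range (w e).left.base, (w e).left.isOpenMap.isOpen_range⟩
  obtain ⟨S, hS⟩ := (isCompact_univ (X := ↥L)).elim_finite_subcover (fun e => (V e : Set ↥L))
    (fun e => (V e).2) fun e _ => Set.mem_iUnion.mpr ⟨e, hrange e⟩
  obtain ⟨i₀, hi₀⟩ := IsCofiltered.inf_objs_exists (S.image ι)
  let A := {e // e ∈ S}
  let α : ∀ a : A, i₀ ⟶ ι a.1 := fun a => (hi₀ (Finset.mem_image_of_mem ι a.2)).some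
  let P₀ : A → X.ProEt := fun a => pullback (w a.1) (D.map (α a))
  let w' : ∀ a, P₀ a ⟶ D.obj i₀ := fun a => pullback.snd (w a.1) (D.map (α a))
  obtain ⟨s', hs'def⟩ : ∃ s' : ∀ a, ProEtS.sectP (G F) (P₀ a),
      ∀ a, s' a = (G F).obj.map (pullback.fst (w a.1) (D.map (α a))).op (s a.1) :=
    ⟨_, fun _ => rfl⟩
  have hw' : ∀ a, Etale (w' a).left := fun a =>
    MorphismProperty.of_isPullback (isPullback_left (w a.1) (D.map (α a))) (hw a.1)
  have hs' : ∀ a (T : X.ProEt) (p : T ⟶ P₀ a) (q : T ⟶ c.pt), p ≫ w' a = q ≫ c.π.app i₀ →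
      (G F).obj.map p.op (s' a) = (G F).obj.map q.op y := fun a T p q hpq =>
    (congrArg _ (hs'def a)).trans <| (map_map F _ _ _).trans (hs a.1 T _ q (by
      rw [Category.assoc, pullback.condition, reassoc_of% hpq, c.w]))
  have hP₀c : ∀ a, CompactSpace ↥(P₀ a).left := fun a => by
    let π₀ : (P₀ a).left ⟶ (W a.1).left := (pullback.fst (w a.1) (D.map (α a))).left
    haveI : IsAffineHom π₀ := MorphismProperty.of_isPullback
      (isPullback_left (w a.1) (D.map (α a))).flip (inferInstance : IsAffineHom (D.map (α a)).left)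
    haveI := hWc a.1
    exact QuasiCompact.compactSpace_of_compactSpace π₀
  let U : (D.obj i₀).left.Opens :=
    ⨆ a, ⟨Set.range (w' a).left.base, haveI := hw' a; (w' a).left.isOpenMap.isOpen_range⟩
  have hU : (((Scheme.ProEt.forget X ⋙ Over.forget X).mapCone c).π.app i₀) ⁻¹ᵁ U = ⊤ := by
    refine TopologicalSpace.Opens.ext (Set.eq_univ_of_forall fun e => ?_)
    obtain ⟨e₁, he₁, v, hv⟩ : ∃ e₁ ∈ S, ∃ v, (w e₁).left.base v = (c.π.app (ι e₁)).left.base e := by
      obtain ⟨e₁, he₁, hee⟩ := Set.mem_iUnion₂.mp (hS (Set.mem_univ (e : ↥L)))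
      exact ⟨e₁, he₁, hee⟩
    let a : A := ⟨e₁, he₁⟩
    have h1 : (c.π.app (ι e₁)).left.base e =
        (D.map (α a)).left.base ((c.π.app i₀).left.base e) :=
      (congrArg (fun ψ : c.pt ⟶ D.obj (ι e₁) => ψ.left.base e) (c.w (α a))).symm
    obtain ⟨t, -, ht⟩ := exists_point (w e₁) (D.map (α a)) v _ (hv.trans h1)
    exact TopologicalSpace.Opens.mem_iSup.mpr ⟨a, t, ht⟩
  obtain ⟨k₀, φ₀, hφ₀⟩ := exists_map_eq_top D' _ hc U hU
  have hpair : ∀ a b : A, ∃ (j : I) (g : j ⟶ i₀), ∀ (T : X.ProEt) (p : T ⟶ P₀ a) (p' : T ⟶ P₀ b)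
      (q : T ⟶ D.obj j), p ≫ w' a = q ≫ D.map g → p' ≫ w' b = q ≫ D.map g →
      (G F).obj.map p.op (s' a) = (G F).obj.map p'.op (s' b) := by
    intro a b
    let R : X.ProEt := pullback (w' a) (w' b)
    let r₁ : R ⟶ P₀ a := pullback.fst (w' a) (w' b)
    let r₂ : R ⟶ P₀ b := pullback.snd (w' a) (w' b)
    haveI : CompactSpace ↥R.left := by
      let wb : (P₀ b).left ⟶ (D.obj i₀).left := (w' b).left
      haveI := hP₀c a
      haveI := hP₀c b
      haveI : QuasiCompact wb := quasiCompact_of_compactSpace _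
      let π₀ : R.left ⟶ (P₀ a).left := r₁.left
      haveI : QuasiCompact π₀ := MorphismProperty.of_isPullback
        (isPullback_left (w' a) (w' b)).flip (inferInstance : QuasiCompact wb)
      exact QuasiCompact.compactSpace_of_compactSpace π₀
    obtain ⟨j, g, hg⟩ := exists_map_eq_zero F D c hc (r₁ ≫ w' a)
      ((G F).obj.map r₁.op (s' a) - (G F).obj.map r₂.op (s' b)) fun T p q hpq => by
        rw [map_sub, map_map, map_map,
          hs' a T _ q ((Category.assoc _ _ _).trans hpq),
          hs' b T _ q (by rw [Category.assoc, ← pullback.condition]; exact hpq), sub_self]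
    refine ⟨j, g, fun T p p' q h h' => ?_⟩
    have h0 := hg T (pullback.lift p p' (h.trans h'.symm)) q
      ((Category.assoc _ _ _).symm.trans ((congrArg (· ≫ w' a) (pullback.lift_fst _ _ _)).trans h))
    rw [map_sub, map_map, map_map, pullback.lift_fst, pullback.lift_snd, sub_eq_zero] at h0
    exact h0
  choose J g hg using hpair
  let objs : Finset (Over i₀) :=
    insert (Over.mk φ₀) ((Finset.univ : Finset (A × A)).image fun ab => Over.mk (g ab.1 ab.2))
  obtain ⟨k, hk⟩ := IsCofiltered.inf_objs_exists objs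
  let P : A → X.ProEt := fun a => pullback (w' a) (D.map k.hom)
  let v : ∀ a, P a ⟶ D.obj k.left := fun a => pullback.snd (w' a) (D.map k.hom)
  let u' : ∀ a, P a ⟶ P₀ a := fun a => pullback.fst (w' a) (D.map k.hom)
  let t₀ : ∀ a, ProEtS.sectP (G F) (P a) := fun a => (G F).obj.map (u' a).op (s' a)
  have hv : ∀ a, Etale (v a).left := fun a =>
    MorphismProperty.of_isPullback (isPullback_left (w' a) (D.map k.hom)) (hw' a)
  have hcov : Sieve.ofArrows P v ∈ Scheme.ProEt.topology X (D.obj k.left) := by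
    refine Continuity.ofArrows_mem_of_isOpenMap v (fun a => haveI := hv a; (v a).left.isOpenMap)
      (Set.eq_univ_of_forall fun d => ?_)
    let ψ : k ⟶ Over.mk φ₀ := (hk (Finset.mem_insert_self _ _)).some
    have hd : (D.map φ₀).left.base ((D.map ψ.left).left.base d) ∈ U := hφ₀.ge (Set.mem_univ _)
    have e1 : (D.map φ₀).left.base ((D.map ψ.left).left.base d) = (D.map k.hom).left.base d := by
      have e2 : D.map ψ.left ≫ D.map φ₀ = D.map k.hom :=
        (D.map_comp ψ.left φ₀).symm.trans (congrArg D.map (Over.w ψ))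
      exact congrArg (fun χ : D.obj k.left ⟶ D.obj i₀ => χ.left.base d) e2
    rw [e1] at hd
    obtain ⟨a, z, hz⟩ := TopologicalSpace.Opens.mem_iSup.mp hd
    obtain ⟨t, -, ht⟩ := exists_point (w' a) (D.map k.hom) z d hz
    exact Set.mem_iUnion.mpr ⟨a, t, ht⟩
  have hsheaf : Presieve.IsSheaf (Scheme.ProEt.topology X) ((G F).obj ⋙ forget AddCommGrpCat.{u + 1}) :=
    (isSheaf_iff_isSheaf_of_type _ _).mp
      ((Presheaf.isSheaf_iff_isSheaf_forget _ (G F).obj (forget AddCommGrpCat.{u + 1})).mp (G F).property)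
  obtain ⟨t, ht, -⟩ := (Presieve.isSheafFor_arrows_iff _ _).mp
    ((Presieve.isSheafFor_iff_generate _).mpr (hsheaf _ hcov)) t₀ fun a b Z p p' hpp => by
      let ψ : k ⟶ Over.mk (g a b) := (hk (Finset.mem_insert_of_mem
        (Finset.mem_image.mpr ⟨(a, b), Finset.mem_univ _, rfl⟩))).some
      have e2 : D.map ψ.left ≫ D.map (g a b) = D.map k.hom :=
        (D.map_comp ψ.left (g a b)).symm.trans (congrArg D.map (Over.w ψ))
      refine (map_map F _ p (s' a)).trans (Eq.trans ?_ (map_map F _ p' (s' b)).symm)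
      refine hg a b Z _ _ (p ≫ v a ≫ D.map ψ.left) ?_ ?_
      · rw [Category.assoc, pullback.condition, Category.assoc, Category.assoc, e2]
      · rw [Category.assoc, pullback.condition, reassoc_of% hpp, Category.assoc, Category.assoc, e2]
  refine ⟨k.left, t, ?_⟩
  let Q : A → X.ProEt := fun a => pullback (v a) (c.π.app k.left)
  let o : ∀ a, Q a ⟶ c.pt := fun a => pullback.snd (v a) (c.π.app k.left)
  have hcov' : Sieve.ofArrows Q o ∈ Scheme.ProEt.topology X c.pt := by
    refine Continuity.ofArrows_mem_of_isOpenMap o (fun a => by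
      haveI : Etale (o a).left :=
        MorphismProperty.of_isPullback (isPullback_left (v a) (c.π.app k.left)) (hv a)
      exact (o a).left.isOpenMap) (Set.eq_univ_of_forall fun e => ?_)
    obtain ⟨a, z, hz⟩ := TopologicalSpace.Opens.mem_iSup.mp (hU.ge (Set.mem_univ e))
    have h1 : (c.π.app i₀).left.base e = (D.map k.hom).left.base ((c.π.app k.left).left.base e) :=
      (congrArg (fun ψ : c.pt ⟶ D.obj i₀ => ψ.left.base e) (c.w k.hom)).symm
    obtain ⟨z', -, hz'⟩ := exists_point (w' a) (D.map k.hom) z _ (hz.trans h1)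
    obtain ⟨z'', -, hz''⟩ := exists_point (v a) (c.π.app k.left) z' e hz'
    exact Set.mem_iUnion.mpr ⟨a, z'', hz''⟩
  refine (hsheaf.isSeparated _ hcov').ext fun Z f hf => ?_
  obtain ⟨_, l, _, ⟨a⟩, rfl⟩ := hf
  let p : Z ⟶ P a := l ≫ pullback.fst (v a) (c.π.app k.left)
  have hp : p ≫ v a = (l ≫ o a) ≫ c.π.app k.left := by
    rw [Category.assoc, pullback.condition, Category.assoc]
  refine (map_map F _ (l ≫ o a) t).trans ?_
  rw [← hp, ← map_map F (v a) p t]
  refine (congrArg _ (ht a)).trans ((map_map F (u' a) p (s' a)).trans ?_)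
  refine hs' a Z _ _ ?_
  rw [Category.assoc, pullback.condition, reassoc_of% hp, c.w, Category.assoc]

/-- Sections over the limit are the colimit of the sections. -/
theorem nonempty_isColimit : Nonempty (IsColimit ((G F).obj.mapCocone c.op)) := by
  haveI := preservesFilteredColimitsOfSize_shrink.{u, u + 1, u, u + 1} (forget AddCommGrpCat.{u + 1})
  haveI : ReflectsColimit (D.op ⋙ (G F).obj) (forget AddCommGrpCat.{u + 1}) :=
    reflectsColimit_of_reflectsIsomorphisms _ _
  refine ⟨isColimitOfReflects (forget AddCommGrpCat.{u + 1}) ?_⟩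
  refine Types.FilteredColimit.isColimitOf _ _ (fun y => ?_) fun i i' z z' hzz => ?_
  · obtain ⟨k, t, ht⟩ := exists_preimage F D c hc y
    exact ⟨op k, t, ht.symm⟩
  · let j := IsCofiltered.min i.unop i'.unop
    let a : j ⟶ i.unop := IsCofiltered.minToLeft _ _
    let a' : j ⟶ i'.unop := IsCofiltered.minToRight _ _
    have hzz' : (G F).obj.map (c.π.app i.unop).op z = (G F).obj.map (c.π.app i'.unop).op z' := hzz
    obtain ⟨k, b, hb⟩ := exists_map_eq_zero F D c hc (𝟙 (D.obj j))
      ((G F).obj.map (D.map a).op z - (G F).obj.map (D.map a').op z') fun T p q hpq => by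
        rw [Category.comp_id] at hpq
        rw [map_sub, map_map, map_map, hpq, Category.assoc, Category.assoc, c.w, c.w,
          ← map_map F (c.π.app i.unop) q z, hzz', map_map, sub_self]
    have h := hb _ (D.map b) (𝟙 _) ((Category.comp_id _).trans (Category.id_comp _).symm)
    rw [map_sub, map_map, map_map, ← D.map_comp, ← D.map_comp, sub_eq_zero] at h
    exact ⟨op k, (b ≫ a).op, (b ≫ a').op, h⟩

end Groth.Agent.Lib.ProEt.EpsColimit
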