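import Groth.Agent.Lib.ProEt.EpsExact
import Groth.Prelude.Def_WeakSerre

/-!
The essential image of the pullback from the etale site.
-/

set_option autoImplicit false

universe u

open CategoryTheory CategoryTheory.Limits AlgebraicGeometry Opposite

namespace Groth.Agent.Lib.ProEt.EpsEssImage

set_option backward.isDefEq.respectTransparency.types false

variable {X : Scheme.{u}} [ProEtS.EpsCont X]

lemma isIso_unit : IsIso (ProEtS.epsAdj X).unit := by
  have : ∀ F, IsIso ((ProEtS.epsAdj X).unit.app F) := fun F => EpsUnit.isIso_unit F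
  exact NatIso.isIso_of_isIso_app _

lemma full_epsPull : (ProEtS.epsPull X).Full := by
  haveI := isIso_unit (X := X)
  exact (ProEtS.epsAdj X).fullyFaithfulLOfIsIsoUnit.full

lemma isIso_counit_of_iso {G : EtCoh.Ab X} {F : ProEtS.AbP X} (e : (ProEtS.epsPull X).obj G ≅ F) :
    IsIso ((ProEtS.epsAdj X).counit.app F) := by
  haveI := EpsUnit.isIso_unit G
  have h : IsIso ((ProEtS.epsAdj X).counit.app ((ProEtS.epsPull X).obj G)) := by
    have h2 := (ProEtS.epsAdj X).left_triangle_components G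
    exact IsIso.of_isIso_fac_left h2
  have hn := (ProEtS.epsAdj X).counit.naturality e.hom
  have h3 : (ProEtS.epsAdj X).counit.app F =
      inv ((ProEtS.epsPush X ⋙ ProEtS.epsPull X).map e.hom) ≫
        (ProEtS.epsAdj X).counit.app ((ProEtS.epsPull X).obj G) ≫ e.hom := by
    rw [IsIso.eq_inv_comp]
    exact hn
  rw [h3]
  infer_instance

/-- The pushforward is exact on sequences starting in the essential image. -/
lemma shortExact_push {S : ShortComplex (ProEtS.AbP X)} (hS : S.ShortExact) {G : EtCoh.Ab X}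
    (e : (ProEtS.epsPull X).obj G ≅ S.X₁) : (S.map (ProEtS.epsPush X)).ShortExact := by
  obtain ⟨Δ⟩ := RDer.Connecting.nonempty_derivedLES (ProEtS.epsPush X)
  haveI : (ProEtS.epsPush X).IsRightAdjoint := (ProEtS.epsAdj X).isRightAdjoint
  haveI : PreservesFiniteLimits (ProEtS.epsPush X) := inferInstance
  have h1 : IsZero (((ProEtS.epsPush X).rightDerived 1).obj S.X₁) :=
    (EpsExact.isZero_RepsPush 0 G).of_iso (((ProEtS.epsPush X).rightDerived 1).mapIso e).symm
  have hepi : Epi (((ProEtS.epsPush X).rightDerived 0).map S.g) :=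
    (Δ.exact₃ S hS 0 1 rfl).epi_f (h1.eq_of_tgt _ _)
  haveI := hS.mono_f
  refine
    { exact := hS.exact.map_of_mono_of_preservesKernel _ hS.mono_f inferInstance
      mono_f := (ProEtS.epsPush X).map_mono S.f
      epi_g := ?_ }
  change Epi ((ProEtS.epsPush X).map S.g)
  rw [← NatIso.naturality_1 (ProEtS.epsPush X).rightDerivedZeroIsoSelf S.g]
  infer_instance

variable (S : ObjectProperty (EtCoh.Ab X))

/-- The essential image of a property. -/
abbrev image : ObjectProperty (ProEtS.AbP X) :=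
  fun F => ∃ G : EtCoh.Ab X, S G ∧ Nonempty ((ProEtS.epsPull X).obj G ≅ F)

theorem isWeakSerre_image [WSerre.IsWeakSerre S] : WSerre.IsWeakSerre (image S) := by
  haveI := full_epsPull (X := X)
  haveI : (ProEtS.epsPull X).IsLeftAdjoint := (ProEtS.epsAdj X).isLeftAdjoint
  haveI : PreservesFiniteColimits (ProEtS.epsPull X) := inferInstance
  have h0 : (image S).ContainsZero := by
    obtain ⟨Z, hZ, hSZ⟩ := S.exists_prop_of_containsZero
    exact ⟨⟨(ProEtS.epsPull X).obj Z, Functor.map_isZero _ hZ, Z, hSZ, ⟨Iso.refl _⟩⟩⟩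
  have hk : (image S).IsClosedUnderKernels := by
    refine ⟨?_⟩
    rintro _ ⟨f, k, hk, ⟨G₁, h₁, ⟨e₁⟩⟩, G₂, h₂, ⟨e₂⟩⟩
    let ψ : G₁ ⟶ G₂ := (ProEtS.epsPull X).preimage (e₁.hom ≫ f ≫ e₂.inv)
    have hψ : (ProEtS.epsPull X).map ψ = e₁.hom ≫ f ≫ e₂.inv := Functor.map_preimage _ _
    refine ⟨kernel ψ, S.prop_of_isLimit_kernelFork (limit.isLimit (parallelPair ψ 0)) h₁ h₂, ⟨?_⟩⟩
    refine PreservesKernel.iso (ProEtS.epsPull X) ψ ≪≫ ?_ ≪≫
      ((limit.isLimit _).conePointUniqueUpToIso hk : kernel f ≅ k.pt)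
    exact kernel.mapIso _ f e₁ e₂ (by rw [hψ, Category.assoc, Category.assoc, e₂.inv_hom_id,
      Category.comp_id])
  have hc : (image S).IsClosedUnderCokernels := by
    refine ⟨?_⟩
    rintro _ ⟨f, k, hk, ⟨G₁, h₁, ⟨e₁⟩⟩, G₂, h₂, ⟨e₂⟩⟩
    let ψ : G₁ ⟶ G₂ := (ProEtS.epsPull X).preimage (e₁.hom ≫ f ≫ e₂.inv)
    have hψ : (ProEtS.epsPull X).map ψ = e₁.hom ≫ f ≫ e₂.inv := Functor.map_preimage _ _
    refine ⟨cokernel ψ, S.prop_of_isColimit_cokernelCofork (colimit.isColimit (parallelPair ψ 0)) h₁ h₂, ⟨?_⟩⟩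
    refine PreservesCokernel.iso (ProEtS.epsPull X) ψ ≪≫ ?_ ≪≫
      ((colimit.isColimit _).coconePointUniqueUpToIso hk : cokernel f ≅ k.pt)
    exact cokernel.mapIso _ f e₁ e₂ (by rw [hψ, Category.assoc, Category.assoc, e₂.inv_hom_id,
      Category.comp_id])
  have he : (image S).IsClosedUnderExtensions := by
    refine ⟨fun {T} hT h₁ h₃ => ?_⟩
    obtain ⟨G₁, hG₁, ⟨e₁⟩⟩ := h₁
    obtain ⟨G₃, hG₃, ⟨e₃⟩⟩ := h₃
    have hP := shortExact_push hT e₁
    haveI := isIso_counit_of_iso e₁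
    haveI := isIso_counit_of_iso e₃
    let φ : (T.map (ProEtS.epsPush X)).map (ProEtS.epsPull X) ⟶ T :=
      { τ₁ := (ProEtS.epsAdj X).counit.app T.X₁
        τ₂ := (ProEtS.epsAdj X).counit.app T.X₂
        τ₃ := (ProEtS.epsAdj X).counit.app T.X₃
        comm₁₂ := ((ProEtS.epsAdj X).counit.naturality T.f).symm
        comm₂₃ := ((ProEtS.epsAdj X).counit.naturality T.g).symm }
    haveI : IsIso φ.τ₁ := isIso_counit_of_iso e₁
    haveI : IsIso φ.τ₃ := isIso_counit_of_iso e₃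
    have hiso : IsIso φ.τ₂ :=
      ShortComplex.isIso₂_of_shortExact_of_isIso₁₃ φ (EpsExact.shortExact_map hP) hT
    haveI := EpsUnit.isIso_unit G₁
    haveI := EpsUnit.isIso_unit G₃
    haveI := WSerre.isClosedUnderIsomorphisms_of_isWeakSerre S
    refine ⟨(ProEtS.epsPush X).obj T.X₂, ?_, ⟨@asIso _ _ _ _ φ.τ₂ hiso⟩⟩
    exact S.prop_X₂_of_shortExact hP
      (S.prop_of_iso (asIso ((ProEtS.epsAdj X).unit.app G₁) ≪≫ (ProEtS.epsPush X).mapIso e₁) hG₁)
      (S.prop_of_iso (asIso ((ProEtS.epsAdj X).unit.app G₃) ≪≫ (ProEtS.epsPush X).mapIso e₃) hG₃)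
  exact { }

end Groth.Agent.Lib.ProEt.EpsEssImage
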