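import Groth.Agent.Lib.ProEt.EtGood
import Groth.Agent.Lib.RDer.Connecting
import Mathlib.Algebra.Homology.ShortComplex.ExactFunctor

/-!
Exactness of the pullback from the etale site and vanishing of its higher direct images.
-/

set_option autoImplicit false

universe u

open CategoryTheory CategoryTheory.Limits AlgebraicGeometry Opposite

namespace Groth.Agent.Lib.ProEt.EpsExact

set_option backward.isDefEq.respectTransparency.types false

variable {X : Scheme.{u}} [ProEtS.EpsCont X]

lemma map_η {F F' : EtCoh.Ab X} (φ : F ⟶ F') {E : X.Etale} (x : F.obj.obj (op E)) :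
    ((ProEtS.epsPull X).map φ).hom.app (op ((ProEtS.eps X).obj E)) (EpsUnit.η F x) =
      EpsUnit.η F' (φ.hom.app (op E) x) :=
  (ConcreteCategory.congr_hom (congr_app (congrArg (fun t => t.hom)
    ((ProEtS.epsAdj X).unit.naturality φ)) (op E)) x).symm

lemma map_sec {F F' : EtCoh.Ab X} (φ : F ⟶ F') {W : X.ProEt} {E : X.Etale}
    (a : W ⟶ (ProEtS.eps X).obj E) (x : F.obj.obj (op E)) :
    ((ProEtS.epsPull X).map φ).hom.app (op W) (EpsUnit.sec F a x) =
      EpsUnit.sec F' a (φ.hom.app (op E) x) := by
  rw [EpsUnit.sec_def, EpsUnit.sec_def, ← map_η]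
  exact ConcreteCategory.congr_hom (((ProEtS.epsPull X).map φ).hom.naturality a.op) (EpsUnit.η F x)

instance preservesMonomorphisms_epsPull : (ProEtS.epsPull X).PreservesMonomorphisms where
  preserves {F F'} φ _ := by
    haveI := Continuity.flat_eps X
    have hφ : ∀ E, Function.Injective (φ.hom.app (op E)) := fun E => CechCrit.injective_app φ E
    refine Exact.mono_of_injective _ fun W _ hW => ?_
    refine (injective_iff_map_eq_zero (((ProEtS.epsPull X).map φ).hom.app (op W)).hom).mpr fun y hy => ?_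
    obtain ⟨E, a, x, rfl⟩ := AbPullback.exists_sec (ProEtS.eps X) F (EpsUnit.hasSums X) hW y
    have h0 : EpsUnit.sec F' a (φ.hom.app (op E) x) = EpsUnit.sec F' a 0 := by
      rw [← map_sec]
      refine hy.trans ?_
      rw [EpsUnit.sec_def]
      exact ((congrArg _ (map_zero _)).trans (map_zero _)).symm
    obtain ⟨E', g, d, hd, hg⟩ := AbPullback.exists_sec_eq (ProEtS.eps X) F' (EpsUnit.hasSums X) hW h0
    have hx : F.obj.map g.op x = 0 := hφ E' (by
      refine (ConcreteCategory.congr_hom (φ.hom.naturality g.op) x).trans ?_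
      refine (hg.trans (map_zero _)).trans (map_zero _).symm)
    rw [← hd, ← AbPullback.sec_map, hx, AbPullback.sec]
    exact (congrArg _ (map_zero _)).trans (map_zero _)

instance additive_epsPull : (ProEtS.epsPull X).Additive :=
  (ProEtS.epsAdj X).left_adjoint_additive

lemma shortExact_map {S : ShortComplex (EtCoh.Ab X)} (hS : S.ShortExact) :
    (S.map (ProEtS.epsPull X)).ShortExact := by
  haveI : (ProEtS.epsPull X).IsLeftAdjoint := (ProEtS.epsAdj X).isLeftAdjoint
  haveI : PreservesFiniteColimits (ProEtS.epsPull X) := inferInstance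
  haveI := hS.mono_f
  haveI := hS.epi_g
  exact
    { exact := hS.exact.map_of_epi_of_preservesCokernel _ hS.epi_g inferInstance
      mono_f := (ProEtS.epsPull X).map_mono S.f
      epi_g := (ProEtS.epsPull X).map_epi S.g }

instance preservesFiniteLimits_epsPull : PreservesFiniteLimits (ProEtS.epsPull X) :=
  have h : PreservesFiniteLimits (ProEtS.epsPull X) ∧ PreservesFiniteColimits (ProEtS.epsPull X) :=
    (List.TFAE.out (Functor.exact_tfae (ProEtS.epsPull X)) 0 3
      (a := ∀ S : ShortComplex (EtCoh.Ab X), S.ShortExact → (S.map (ProEtS.epsPull X)).ShortExact)).mp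
      fun _ hS => shortExact_map hS
  h.1

omit [ProEtS.EpsCont X] in
/-- Exactness of etale sheaves from local lifts. -/
lemma exact_of_local (S : ShortComplex (EtCoh.Ab X))
    (h : ∀ (E : X.Etale) (x : S.X₂.obj.obj (op E)), S.g.hom.app (op E) x = 0 → ∀ e : E.left,
      ∃ (E' : X.Etale) (g : E' ⟶ E) (y : S.X₁.obj.obj (op E')),
        e ∈ Set.range g.left.base ∧ S.f.hom.app (op E') y = S.X₂.obj.map g.op x) : S.Exact := by
  rw [ShortComplex.exact_iff_epi_toCycles]
  refine (Sheaf.isLocallySurjective_iff_epi' (φ := S.toCycles)).mp ⟨fun {E} z => ?_⟩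
  refine (EtSite.Basic.mem_topology_iff _).mpr fun e => ?_
  have hz : S.g.hom.app (op E) (S.iCycles.hom.app (op E) z) = 0 :=
    ConcreteCategory.congr_hom (congr_app (congrArg (fun t => t.hom) S.iCycles_g) (op E)) z
  obtain ⟨E', g, y, ⟨v, hv⟩, hy⟩ := h E _ hz e
  refine ⟨E', g, ⟨y, CechCrit.injective_app S.iCycles E' ?_⟩, v, hv⟩
  refine ((ConcreteCategory.congr_hom (congr_app (congrArg (fun t => t.hom) S.toCycles_i) (op E')) y).trans
    hy).trans ?_
  exact (ConcreteCategory.congr_hom (S.iCycles.hom.naturality g.op) z).symm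

/-- Vanishing of the higher direct images of a pulled back injective. -/
theorem isZero_RepsPush_injective (I : EtCoh.Ab X) [Injective I] (q : ℕ) :
    IsZero ((ProEtS.RepsPush X (q + 1)).obj ((ProEtS.epsPull X).obj I)) := by
  let R := injectiveResolution ((ProEtS.epsPull X).obj I)
  refine IsZero.of_iso ?_ (R.isoRightDerivedObj (ProEtS.epsPush X) (q + 1))
  refine (HomologicalComplex.exactAt_iff_isZero_homology _ _).mp ?_
  rw [HomologicalComplex.exactAt_iff' _ q (q + 1) (q + 2) (by simp) (by simp)]
  refine exact_of_local _ fun E x hx e => ?_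
  obtain ⟨W, hW⟩ := TopologicalSpace.Opens.mem_iSup.mp
    ((iSup_affineOpens_eq_top E.left).ge (trivial : e ∈ (⊤ : E.left.Opens)))
  let g : EtSections.piece E W.1 ⟶ E := EtSections.incl E W.1
  haveI : IsAffine (EtSections.piece E W.1).left := W.2
  obtain ⟨y, hy⟩ := CechCrit.exists_eq_d R EtGood.good_epsPull
    (U := (ProEtS.eps X).obj (EtSections.piece E W.1))
    (show (EtGood.covers X).B _ from ⟨EtPres.presSelf (EtSections.piece E W.1) W.2⟩) q
    ((R.cocomplex.X (q + 1)).obj.map ((ProEtS.eps X).map g).op x) (by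
      refine (ConcreteCategory.congr_hom ((R.cocomplex.d (q + 1) (q + 2)).hom.naturality
        ((ProEtS.eps X).map g).op) x).trans ?_
      exact (congrArg _ hx).trans (map_zero ((R.cocomplex.X (q + 2)).obj.map ((ProEtS.eps X).map g).op).hom))
  exact ⟨EtSections.piece E W.1, g, y, ⟨⟨e, hW⟩, rfl⟩, hy⟩

/-- Vanishing of the higher direct images of pullbacks. -/
theorem isZero_RepsPush (q : ℕ) : ∀ F : EtCoh.Ab X,
    IsZero ((ProEtS.RepsPush X (q + 1)).obj ((ProEtS.epsPull X).obj F)) := by
  obtain ⟨Δ⟩ := RDer.Connecting.nonempty_derivedLES (ProEtS.epsPush X)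
  induction q with
  | zero =>
    intro F
    let S : ShortComplex (EtCoh.Ab X) :=
      ShortComplex.mk (Injective.ι F) (cokernel.π (Injective.ι F)) (cokernel.condition _)
    have hS : S.ShortExact := { exact := ShortComplex.exact_of_g_is_cokernel _ (cokernelIsCokernel _) }
    have hGS := shortExact_map hS
    haveI : (ProEtS.epsPush X).IsRightAdjoint := (ProEtS.epsAdj X).isRightAdjoint
    haveI : PreservesFiniteLimits (ProEtS.epsPush X) := inferInstance
    haveI : Epi ((ProEtS.epsPush X).map (S.map (ProEtS.epsPull X)).g) := by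
      haveI := EpsUnit.isIso_unit S.X₂
      haveI := EpsUnit.isIso_unit S.X₃
      have e : (ProEtS.epsPush X).map ((ProEtS.epsPull X).map S.g) =
          inv ((ProEtS.epsAdj X).unit.app S.X₂) ≫ S.g ≫ (ProEtS.epsAdj X).unit.app S.X₃ := by
        rw [IsIso.eq_inv_comp]
        exact ((ProEtS.epsAdj X).unit.naturality S.g).symm
      change Epi ((ProEtS.epsPush X).map ((ProEtS.epsPull X).map S.g))
      rw [e]
      haveI := hS.epi_g
      infer_instance
    haveI : Epi (((ProEtS.epsPush X).rightDerived 0).map (S.map (ProEtS.epsPull X)).g) :=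
      (NatIso.naturality_2 (ProEtS.epsPush X).rightDerivedZeroIsoSelf
        (S.map (ProEtS.epsPull X)).g).symm ▸ inferInstance
    have hδ : Δ.δ _ hGS 0 1 rfl = 0 := by
      rw [← cancel_epi (((ProEtS.epsPush X).rightDerived 0).map (S.map (ProEtS.epsPull X)).g)]
      rw [Δ.comp_δ, comp_zero]
    let f₁ := ((ProEtS.epsPush X).rightDerived 1).map (S.map (ProEtS.epsPull X)).f
    have hm : Mono f₁ := (Δ.exact₁ _ hGS 0 1 rfl).mono_g hδ
    have h0 : f₁ = 0 := (isZero_RepsPush_injective (Injective.under F) 0).eq_zero_of_tgt f₁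
    refine (IsZero.iff_id_eq_zero _).mpr (hm.right_cancellation _ _ ?_)
    change 𝟙 _ ≫ f₁ = 0 ≫ f₁
    rw [h0, comp_zero, comp_zero]
  | succ q ih =>
    intro F
    let S : ShortComplex (EtCoh.Ab X) :=
      ShortComplex.mk (Injective.ι F) (cokernel.π (Injective.ι F)) (cokernel.condition _)
    have hS : S.ShortExact := { exact := ShortComplex.exact_of_g_is_cokernel _ (cokernelIsCokernel _) }
    have hGS := shortExact_map hS
    exact (Δ.exact₁ _ hGS (q + 1) (q + 2) rfl).isZero_of_both_zeros
      ((ih S.X₃).eq_zero_of_src _) ((isZero_RepsPush_injective (Injective.under F) (q + 1)).eq_zero_of_tgt _)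

end Groth.Agent.Lib.ProEt.EpsExact
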