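import Groth.Agent.Lib.ProEt.EpsEssImage
import Groth.Agent.Lib.SerreSub.AdjImage
import Groth.Prelude.Def_EtModW
import Mathlib.CategoryTheory.Abelian.ShortExact
import Mathlib.Algebra.Category.ModuleCat.ChangeOfRings
import Mathlib.Algebra.Category.Grp.ZModuleEquivalence

/-!
The comparison of the etale and pro-etale sites for sheaves of modules, via the underlying abelian sheaves.
-/

set_option autoImplicit false

universe u

open CategoryTheory CategoryTheory.Limits AlgebraicGeometry Opposite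

namespace Groth.Agent.Lib.ProEt.EpsMod

set_option backward.isDefEq.respectTransparency.types false

variable (Λ : Type (u + 1)) [CommRing Λ]

/-- The underlying group. -/
noncomputable abbrev U : ModuleCat.{u + 1} Λ ⥤ AddCommGrpCat.{u + 1} := forget₂ _ _

/-- Coinduction. -/
noncomputable def co : AddCommGrpCat.{u + 1} ⥤ ModuleCat.{u + 1} Λ :=
  (forget₂ (ModuleCat.{u + 1} ℤ) AddCommGrpCat.{u + 1}).inv ⋙
    ModuleCat.coextendScalars.{0, u + 1, u + 1} (Int.castRingHom Λ)

/-- The underlying group is left adjoint to coinduction. -/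
noncomputable def coAdj : U Λ ⊣ co Λ :=
  ((ModuleCat.restrictCoextendScalarsAdj.{u + 1, 0, u + 1} (Int.castRingHom Λ)).comp
    (forget₂ (ModuleCat.{u + 1} ℤ) AddCommGrpCat.{u + 1}).asEquivalence.toAdjunction).ofNatIsoLeft
    (NatIso.ofComponents (fun _ => Iso.refl _) fun _ => rfl)

instance : (U Λ).IsLeftAdjoint := (coAdj Λ).isLeftAdjoint

instance : (co Λ).IsRightAdjoint := (coAdj Λ).isRightAdjoint

section Site

variable {C : Type (u + 1)} [Category.{u} C] (J : GrothendieckTopology C)

/-- The adjunction on sheaves. -/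
noncomputable def coAdjSheaf : sheafCompose J (U Λ) ⊣ sheafCompose J (co Λ) :=
  Adjunction.restrictFullyFaithful ((coAdj Λ).whiskerRight Cᵒᵖ)
    (fullyFaithfulSheafToPresheaf J _) (fullyFaithfulSheafToPresheaf J _) (Iso.refl _) (Iso.refl _)

instance : (sheafCompose J (U Λ)).IsLeftAdjoint := (coAdjSheaf Λ J).isLeftAdjoint

instance : PreservesFiniteLimits (sheafCompose J (U Λ)) :=
  haveI : PreservesFiniteLimits (sheafCompose J (U Λ) ⋙ sheafToPresheaf J _) :=
    inferInstanceAs (PreservesFiniteLimits (sheafToPresheaf J _ ⋙ (Functor.whiskeringRight _ _ _).obj (U Λ)))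
  preservesFiniteLimits_of_reflects_of_preserves _ (sheafToPresheaf J AddCommGrpCat.{u + 1})

end Site

variable {X : Scheme.{u}} [ProEtS.EpsCont X]

/-- The adjunction for modules. -/
noncomputable abbrev adjM : EtModW.epsPullMod Λ X ⊣
    (ProEtS.eps X).sheafPushforwardContinuous (ModuleCat.{u + 1} Λ) X.smallEtaleTopology
      (Scheme.ProEt.topology X) :=
  (ProEtS.eps X).sheafAdjunctionContinuous (ModuleCat.{u + 1} Λ) X.smallEtaleTopology
    (Scheme.ProEt.topology X)

instance : ((ProEtS.eps X).sheafPushforwardContinuous (ModuleCat.{u + 1} Λ) X.smallEtaleTopology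
    (Scheme.ProEt.topology X)).Additive where
  map_add := rfl

instance : (EtModW.epsPullMod Λ X).Additive :=
  haveI : HasBinaryBiproducts (EtModW.Mod Λ X) := HasBinaryBiproducts.of_hasBinaryProducts
  (adjM Λ).left_adjoint_additive

/-- The underlying etale sheaf. -/
noncomputable abbrev uE : EtModW.Mod Λ X ⥤ EtCoh.Ab X := sheafCompose X.smallEtaleTopology (U Λ)

/-- The underlying pro-etale sheaf. -/
noncomputable abbrev uP : EtModW.ModP Λ X ⥤ ProEtS.AbP X :=
  sheafCompose (Scheme.ProEt.topology X) (U Λ)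

/-- The composite adjunction. -/
noncomputable def adj₂ : uE Λ ⋙ ProEtS.epsPull X ⊣ sheafCompose (Scheme.ProEt.topology X) (co Λ) ⋙
    (ProEtS.eps X).sheafPushforwardContinuous (ModuleCat.{u + 1} Λ) X.smallEtaleTopology
      (Scheme.ProEt.topology X) :=
  ((coAdjSheaf Λ X.smallEtaleTopology).comp (ProEtS.epsAdj X)).ofNatIsoRight
    (NatIso.ofComponents (fun _ => Iso.refl _) fun _ => rfl)

/-- The underlying sheaf of the pullback. -/
noncomputable def φ : EtModW.epsPullMod Λ X ⋙ uP Λ ≅ uE Λ ⋙ ProEtS.epsPull X :=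
  ((adjM Λ).comp (coAdjSheaf Λ (Scheme.ProEt.topology X))).leftAdjointUniq (adj₂ Λ)

lemma unit_compat (F : EtModW.Mod Λ X) :
    (uE Λ).map ((adjM Λ).unit.app F) ≫ (ProEtS.epsPush X).map ((φ Λ).hom.app F) =
      (ProEtS.epsAdj X).unit.app ((uE Λ).obj F) := by
  have h := Adjunction.unit_leftAdjointUniq_hom_app
    ((adjM Λ).comp (coAdjSheaf Λ (Scheme.ProEt.topology X))) (adj₂ Λ) F
  have hη := (coAdjSheaf Λ X.smallEtaleTopology).unit.naturality ((adjM Λ).unit.app F)
  apply ((coAdjSheaf Λ X.smallEtaleTopology).homEquiv _ _).injective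
  rw [Adjunction.homEquiv_unit, Adjunction.homEquiv_unit, Functor.map_comp, ← Category.assoc]
  refine (congrArg (· ≫ _) hη.symm).trans ?_
  refine Eq.trans ?_ ((h.trans ?_))
  · exact Category.assoc _ _ _
  · exact Category.comp_id _

lemma isIso_unit : IsIso (adjM Λ (X := X)).unit := by
  have : ∀ F, IsIso ((adjM Λ (X := X)).unit.app F) := fun F => by
    haveI := EpsUnit.isIso_unit ((uE Λ).obj F)
    haveI : IsIso ((uE Λ).map ((adjM Λ).unit.app F) ≫ (ProEtS.epsPush X).map ((φ Λ).hom.app F)) := by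
      rw [unit_compat]; infer_instance
    haveI h₂ : IsIso ((ProEtS.epsPush X).map ((φ Λ).hom.app F)) :=
      ((ProEtS.epsPush X).mapIso ((φ Λ).app F)).isIso_hom
    haveI : IsIso ((uE Λ).map ((adjM Λ).unit.app F)) :=
      @IsIso.of_isIso_comp_right _ _ _ _ _ _ ((ProEtS.epsPush X).map ((φ Λ).hom.app F)) h₂ inferInstance
    exact isIso_of_reflects_iso _ (uE Λ)
  exact NatIso.isIso_of_isIso_app _

instance preservesMonomorphisms_epsPullMod : (EtModW.epsPullMod Λ X).PreservesMonomorphisms where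
  preserves {F G} f _ := by
    haveI : Mono ((uE Λ ⋙ ProEtS.epsPull X).map f) :=
      (ProEtS.epsPull X).map_mono ((uE Λ).map f)
    haveI : Mono ((EtModW.epsPullMod Λ X ⋙ uP Λ).map f) := by
      rw [← NatIso.naturality_2 (φ Λ) f]; infer_instance
    exact (uP Λ).mono_of_mono_map (inferInstance : Mono ((EtModW.epsPullMod Λ X ⋙ uP Λ).map f))

lemma shortExact_map {S : ShortComplex (EtModW.Mod Λ X)} (hS : S.ShortExact) :
    (S.map (EtModW.epsPullMod Λ X)).ShortExact := by
  haveI : (EtModW.epsPullMod Λ X).IsLeftAdjoint := (adjM Λ).isLeftAdjoint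
  haveI : PreservesFiniteColimits (EtModW.epsPullMod Λ X) := inferInstance
  haveI := hS.mono_f
  haveI := hS.epi_g
  exact
    { exact := hS.exact.map_of_epi_of_preservesCokernel _ hS.epi_g inferInstance
      mono_f := (EtModW.epsPullMod Λ X).map_mono S.f
      epi_g := (EtModW.epsPullMod Λ X).map_epi S.g }

lemma shortExact_push {S : ShortComplex (EtModW.ModP Λ X)} (hS : S.ShortExact)
    (h : (EtModW.epsPullMod Λ X).essImage S.X₁) :
    (S.map ((ProEtS.eps X).sheafPushforwardContinuous (ModuleCat.{u + 1} Λ) X.smallEtaleTopology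
      (Scheme.ProEt.topology X))).ShortExact := by
  obtain ⟨G, ⟨e⟩⟩ := h
  haveI : PreservesFiniteColimits (uP Λ (X := X)) := inferInstance
  haveI : PreservesFiniteLimits (uP Λ (X := X)) := inferInstance
  have hP : (S.map (uP Λ)).ShortExact := hS.map_of_exact _
  have hE := EpsEssImage.shortExact_push hP ((φ Λ).symm.app G ≪≫ (uP Λ).mapIso e)
  haveI : PreservesFiniteColimits (uE Λ (X := X)) := inferInstance
  haveI : PreservesFiniteLimits (uE Λ (X := X)) := inferInstance
  exact CategoryTheory.ShortExact.reflects_shortExact_of_faithful (uE Λ) hE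

/-- The essential image is a weak Serre subcategory. -/
theorem essImage_weakSerre :
    (∀ (F G : EtModW.ModP Λ X) (f : F ⟶ G), (EtModW.epsPullMod Λ X).essImage F →
      (EtModW.epsPullMod Λ X).essImage G →
        (EtModW.epsPullMod Λ X).essImage (kernel f) ∧ (EtModW.epsPullMod Λ X).essImage (cokernel f)) ∧
    ∀ (T : ShortComplex (EtModW.ModP Λ X)), T.ShortExact →
      (EtModW.epsPullMod Λ X).essImage T.X₁ → (EtModW.epsPullMod Λ X).essImage T.X₃ →
        (EtModW.epsPullMod Λ X).essImage T.X₂ := by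
  haveI := isIso_unit Λ (X := X)
  haveI : (EtModW.epsPullMod Λ X).Full := (adjM Λ).fullyFaithfulLOfIsIsoUnit.full
  haveI : (EtModW.epsPullMod Λ X).IsLeftAdjoint := (adjM Λ).isLeftAdjoint
  haveI : PreservesFiniteColimits (EtModW.epsPullMod Λ X) := inferInstance
  haveI : PreservesFiniteLimits (EtModW.epsPullMod Λ X) :=
    have h : PreservesFiniteLimits (EtModW.epsPullMod Λ X) ∧
        PreservesFiniteColimits (EtModW.epsPullMod Λ X) :=
      (List.TFAE.out (Functor.exact_tfae (EtModW.epsPullMod Λ X)) 0 3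
        (a := ∀ S : ShortComplex (EtModW.Mod Λ X), S.ShortExact →
          (S.map (EtModW.epsPullMod Λ X)).ShortExact)).mp fun _ hS => shortExact_map Λ hS
    h.1
  exact ⟨fun _ _ f hF hG => SerreSub.AdjImage.kernel_cokernel_mem _ f hF hG,
    fun _ hT h₁ h₃ => SerreSub.AdjImage.extension_mem (adjM Λ) (fun hS => shortExact_map Λ hS)
      (fun hS h => shortExact_push Λ hS h) hT h₁ h₃⟩

end Groth.Agent.Lib.ProEt.EpsMod
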