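import Groth.Agent.Lib.EtSite.Basic
import Groth.Prelude.Def_EtBase
import Mathlib.AlgebraicGeometry.Morphisms.Etale
import Mathlib.AlgebraicGeometry.Limits
import Mathlib.AlgebraicGeometry.Morphisms.UniversallyOpen
import Mathlib.CategoryTheory.Sites.Sheaf

/-!
Sections of abelian sheaves on the small etale site and their vanishing loci.
-/

set_option autoImplicit false

universe u

open CategoryTheory CategoryTheory.Limits AlgebraicGeometry Opposite

namespace Groth.Agent.Lib.ProEt.EtSections

set_option backward.isDefEq.respectTransparency.types false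

variable {X : Scheme.{u}}

lemma etale_left {U V : X.Etale} (g : V ⟶ U) : Etale g.left := by
  have : Etale (g.left ≫ U.hom) := by
    rw [MorphismProperty.Over.w g]
    exact V.prop
  have : Etale U.hom := U.prop
  exact Etale.of_comp g.left U.hom

lemma isOpenMap_left {U V : X.Etale} (g : V ⟶ U) : IsOpenMap g.left.base := by
  haveI := etale_left g
  exact g.left.isOpenMap

/-- An open piece of an object of the etale site. -/
noncomputable def piece (E : X.Etale) (O : E.left.Opens) : X.Etale :=
  MorphismProperty.Over.mk ⊤ (O.ι ≫ E.hom) (by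
    have : Etale E.hom := E.prop
    have : Etale (O.ι ≫ E.hom) := inferInstance
    exact this)

/-- The inclusion. -/
noncomputable def incl (E : X.Etale) (O : E.left.Opens) : piece E O ⟶ E :=
  MorphismProperty.Over.homMk O.ι rfl

/-- Lifting a morphism to an open piece. -/
noncomputable def lift {E E' : X.Etale} (O : E.left.Opens) (g : E' ⟶ E)
    (h : ∀ y, g.left.base y ∈ O) : E' ⟶ piece E O :=
  MorphismProperty.Over.homMk
    (show E'.left ⟶ O.toScheme from IsOpenImmersion.lift O.ι g.left (by
      rw [Scheme.Opens.range_ι]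
      rintro _ ⟨y, rfl⟩
      exact h y))
    ((IsOpenImmersion.lift_fac_assoc O.ι g.left _ E.hom).trans (MorphismProperty.Over.w g))

lemma lift_incl {E E' : X.Etale} (O : E.left.Opens) (g : E' ⟶ E) (h : ∀ y, g.left.base y ∈ O) :
    lift O g h ≫ incl E O = g :=
  MorphismProperty.Over.Hom.ext (IsOpenImmersion.lift_fac O.ι g.left _)

variable (F : Sheaf X.smallEtaleTopology AddCommGrpCat.{u + 1})

lemma isSheaf_forget : Presieve.IsSheaf X.smallEtaleTopology (F.obj ⋙ forget AddCommGrpCat.{u + 1}) :=
  (isSheaf_iff_isSheaf_of_type _ _).mp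
    ((Presheaf.isSheaf_iff_isSheaf_forget _ F.obj (forget AddCommGrpCat.{u + 1})).mp F.property)

/-- Sections which agree locally are equal. -/
theorem eq_of_locally {E : X.Etale} (x y : F.obj.obj (op E))
    (h : ∀ e : E.left, ∃ (E' : X.Etale) (g : E' ⟶ E),
      e ∈ Set.range g.left.base ∧ F.obj.map g.op x = F.obj.map g.op y) : x = y := by
  let S : Sieve E :=
    { arrows := fun _ g => F.obj.map g.op x = F.obj.map g.op y
      downward_closed := fun {Y Z} {f} hf a => by
        simp only [op_comp, Functor.map_comp, ConcreteCategory.comp_apply, hf] }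
  refine ((isSheaf_forget F).isSeparated S ?_).ext fun Y f hf => hf
  refine (EtSite.Basic.mem_topology_iff S).mpr fun e => ?_
  obtain ⟨E', g, ⟨v, hv⟩, hg⟩ := h e
  exact ⟨E', g, hg, v, hv⟩

/-- The locus where a section vanishes. -/
def zeroLocus {E : X.Etale} (x : F.obj.obj (op E)) : E.left.Opens :=
  ⟨⋃ (p : Σ E' : X.Etale, {g : E' ⟶ E // F.obj.map g.op x = 0}), Set.range p.2.1.left.base,
    isOpen_iUnion fun p => (isOpenMap_left p.2.1).isOpen_range⟩

lemma range_subset_zeroLocus {E E' : X.Etale} (x : F.obj.obj (op E)) (g : E' ⟶ E)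
    (h : F.obj.map g.op x = 0) (y : E'.left) : g.left.base y ∈ zeroLocus F x :=
  Set.mem_iUnion.mpr ⟨⟨E', g, h⟩, y, rfl⟩

lemma map_eq_zero_of_range_subset {E E' : X.Etale} (x : F.obj.obj (op E)) (g : E' ⟶ E)
    (h : ∀ y, g.left.base y ∈ zeroLocus F x) : F.obj.map g.op x = 0 := by
  refine eq_of_locally F _ _ fun y => ?_
  obtain ⟨⟨E₁, g₁, hg₁⟩, y₁, hy₁⟩ := Set.mem_iUnion.mp (h y)
  have : HasPullbacks X.Etale := inferInstance
  obtain ⟨t, ht, ht'⟩ : ∃ t : ↥(pullback g.left g₁.left : Scheme.{u}),
      (pullback.fst g.left g₁.left).base t = y ∧ (pullback.snd g.left g₁.left).base t = y₁ :=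
    Scheme.Pullback.exists_preimage_pullback y y₁ hy₁.symm
  haveI := etale_left g
  haveI := etale_left g₁
  haveI : Etale E'.hom := E'.prop
  let P : X.Etale := MorphismProperty.Over.mk ⊤ (pullback.fst g.left g₁.left ≫ E'.hom) (by
    have : Etale (pullback.fst g.left g₁.left ≫ E'.hom) := inferInstance
    exact this)
  let a : P ⟶ E' := MorphismProperty.Over.homMk (pullback.fst g.left g₁.left) rfl
  let b : P ⟶ E₁ := MorphismProperty.Over.homMk (pullback.snd g.left g₁.left) (by
    change pullback.snd g.left g₁.left ≫ E₁.hom = pullback.fst g.left g₁.left ≫ E'.hom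
    rw [← MorphismProperty.Over.w g₁, ← MorphismProperty.Over.w g, pullback.condition_assoc])
  have hab : a ≫ g = b ≫ g₁ := MorphismProperty.Over.Hom.ext pullback.condition
  refine ⟨P, a, ⟨t, ht⟩, ?_⟩
  rw [← ConcreteCategory.comp_apply, ← Functor.map_comp, ← op_comp, hab, op_comp, Functor.map_comp,
    ConcreteCategory.comp_apply, hg₁, map_zero, map_zero]

lemma eq_zero_of_zeroLocus {E : X.Etale} (x : F.obj.obj (op E))
    (h : ∀ e : E.left, e ∈ zeroLocus F x) : x = 0 := by
  have h1 := map_eq_zero_of_range_subset F x (𝟙 E) h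
  rw [op_id, F.obj.map_id] at h1
  exact h1

/-- The disjoint union. -/
noncomputable def sigmaObj {ι : Type u} (P : ι → X.Etale) : X.Etale :=
  MorphismProperty.Over.mk ⊤ (Sigma.desc fun k => (P k).hom) (by
    have : Etale (Sigma.desc fun k => (P k).hom) :=
      IsZariskiLocalAtSource.sigmaDesc fun k => (P k).prop
    exact this)

/-- The inclusions. -/
noncomputable def sigmaIncl {ι : Type u} (P : ι → X.Etale) (k : ι) : P k ⟶ sigmaObj P :=
  MorphismProperty.Over.homMk (Sigma.ι (fun k => (P k).left) k) (Sigma.ι_desc (fun k => (P k).hom) k)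

/-- Sections on a disjoint union. -/
theorem existsUnique_glue {ι : Type u} (P : ι → X.Etale) (t : ∀ k, F.obj.obj (op (P k))) :
    ∃! s : F.obj.obj (op (sigmaObj P)), ∀ k, F.obj.map (sigmaIncl P k).op s = t k := by
  have hmem : Sieve.ofArrows P (sigmaIncl P) ∈ X.smallEtaleTopology (sigmaObj P) := by
    refine EtSite.Basic.ofArrows_mem P _ fun e => ?_
    obtain ⟨k, y, hy⟩ := (sigmaOpenCover fun k => (P k).left).exists_eq e
    exact ⟨k, y, hy⟩
  have hsf : Presieve.IsSheafFor (F.obj ⋙ forget AddCommGrpCat.{u + 1})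
      (Presieve.ofArrows P (sigmaIncl P)) :=
    (Presieve.isSheafFor_iff_generate _).mpr (isSheaf_forget F _ hmem)
  refine (Presieve.isSheafFor_arrows_iff _ _).mp hsf t fun k l E a b hab => ?_
  rcases eq_or_ne k l with rfl | hkl
  · have : a = b := MorphismProperty.Over.Hom.ext
      ((cancel_mono (Sigma.ι (fun k => (P k).left) k)).mp (congrArg (fun φ => φ.left) hab))
    rw [this]
  · refine eq_of_locally F _ _ fun e => False.elim ?_
    have h1 : (a ≫ sigmaIncl P k).left.base e = (b ≫ sigmaIncl P l).left.base e := by rw [hab]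
    have h0 := disjoint_iff.mp (disjoint_opensRange_sigmaι (fun k => (P k).left) k l hkl)
    have h2 : (a ≫ sigmaIncl P k).left.base e ∈ (Sigma.ι (fun k => (P k).left) k).opensRange ⊓
        (Sigma.ι (fun k => (P k).left) l).opensRange := ⟨⟨a.left.base e, rfl⟩, h1 ▸ ⟨b.left.base e, rfl⟩⟩
    rw [h0] at h2
    exact h2

end Groth.Agent.Lib.ProEt.EtSections
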