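import Groth.Agent.Lib.ProEt.AbPullback
import Groth.Agent.Lib.ProEt.EtSections
import Groth.Agent.Lib.ProEt.Exact
import Mathlib.CategoryTheory.Sites.EpiMono

/-!
The comparison of the etale and pro-etale sites is fully faithful on abelian sheaves.
-/

set_option autoImplicit false

universe u

open CategoryTheory CategoryTheory.Limits AlgebraicGeometry Opposite

namespace Groth.Agent.Lib.ProEt.EpsUnit

set_option backward.isDefEq.respectTransparency.types false

open EtSections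

variable {X : Scheme.{u}}

theorem hasSums (X : Scheme.{u}) : AbPullback.HasSums X.smallEtaleTopology := by
  intro n P
  let P' : ULift.{u} (Fin n) → X.Etale := fun k => P k.down
  refine ⟨sigmaObj P', fun k => sigmaIncl P' ⟨k⟩, fun F t => ?_, fun V g => ?_⟩
  · obtain ⟨s, hs, hu⟩ := EtSections.existsUnique_glue F P' fun k => t k.down
    exact ⟨s, fun k => hs ⟨k⟩, fun s' hs' => hu s' fun k => hs' k.down⟩
  · refine ⟨MorphismProperty.Over.homMk (Sigma.desc fun k => (g k.down).left)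
      (Sigma.hom_ext _ _ fun k => ?_), fun k => MorphismProperty.Over.Hom.ext
        (Sigma.ι_desc (fun k : ULift.{u} (Fin n) => (g k.down).left) ⟨k⟩)⟩
    erw [Sigma.ι_desc_assoc, Sigma.ι_desc]
    exact MorphismProperty.Over.w (g k.down)

variable [ProEtS.EpsCont X] (F : EtCoh.Ab X)

/-- The pullback. -/
noncomputable abbrev G : ProEtS.AbP X := (ProEtS.epsPull X).obj F

/-- The canonical sections. -/
noncomputable abbrev sec {W : X.ProEt} {E : X.Etale} (a : W ⟶ (ProEtS.eps X).obj E)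
    (x : F.obj.obj (op E)) : ProEtS.sectP (G F) W :=
  AbPullback.sec (ProEtS.eps X) F a x

/-- The unit on sections. -/
noncomputable abbrev η {E : X.Etale} (x : F.obj.obj (op E)) :
    ProEtS.sectP (G F) ((ProEtS.eps X).obj E) :=
  ((ProEtS.epsAdj X).unit.app F).hom.app (op E) x

lemma sec_def {W : X.ProEt} {E : X.Etale} (a : W ⟶ (ProEtS.eps X).obj E) (x : F.obj.obj (op E)) :
    sec F a x = (G F).obj.map a.op (η F x) := rfl

lemma η_map {E E' : X.Etale} (g : E' ⟶ E) (x : F.obj.obj (op E)) :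
    η F (F.obj.map g.op x) = (G F).obj.map ((ProEtS.eps X).map g).op (η F x) :=
  ConcreteCategory.congr_hom (((ProEtS.epsAdj X).unit.app F).hom.naturality g.op) x

lemma map_map {A B C : X.ProEt} (h : B ⟶ C) (k : A ⟶ B) (z : ProEtS.sectP (G F) C) :
    (G F).obj.map k.op ((G F).obj.map h.op z) = (G F).obj.map (k ≫ h).op z := by
  rw [op_comp, Functor.map_comp]
  rfl

omit [ProEtS.EpsCont X] in
/-- Lifting to an open piece. -/
lemma exists_lift_piece {E : X.Etale} (O : E.left.Opens) {Y : X.ProEt} (φ : Y ⟶ (ProEtS.eps X).obj E)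
    (h : ∀ y, (φ.left.base y : ↥E.left) ∈ O) :
    ∃ ψ : Y ⟶ (ProEtS.eps X).obj (piece E O), ψ ≫ (ProEtS.eps X).map (incl E O) = φ := by
  let φ' : Y.left ⟶ E.left := φ.left
  have hr : Set.range φ'.base ⊆ Set.range O.ι.base := by
    rw [Scheme.Opens.range_ι]
    rintro _ ⟨y, rfl⟩
    exact h y
  let ψ : Y.left ⟶ O.toScheme := IsOpenImmersion.lift O.ι φ' hr
  exact ⟨MorphismProperty.Over.homMk ψ
    ((IsOpenImmersion.lift_fac_assoc O.ι φ' hr E.hom).trans (MorphismProperty.Over.w φ)),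
    MorphismProperty.Over.Hom.ext (IsOpenImmersion.lift_fac O.ι φ' hr)⟩

/-- A w-contractible affine object through a point of a fibre product. -/
lemma exists_common {A₁ A₂ B : X.ProEt} (f₁ : A₁ ⟶ B) (f₂ : A₂ ⟶ B) (p₁ : ↥A₁.left) (p₂ : ↥A₂.left)
    (h : f₁.left.base p₁ = f₂.left.base p₂) :
    ∃ (R : X.ProEt) (_ : IsAffine R.left) (r₁ : R ⟶ A₁) (r₂ : R ⟶ A₂) (r : ↥R.left),
      EtPBC.IsWContractible ↥Γ(R.left, ⊤) ∧ r₁ ≫ f₁ = r₂ ≫ f₂ ∧ r₁.left.base r = p₁ ∧
        r₂.left.base r = p₂ := by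
  obtain ⟨t, ht₁, ht₂⟩ : ∃ t : ↥(pullback f₁.left f₂.left : Scheme.{u}),
      (pullback.fst f₁.left f₂.left).base t = p₁ ∧ (pullback.snd f₁.left f₂.left).base t = p₂ :=
    Scheme.Pullback.exists_preimage_pullback p₁ p₂ h
  haveI := Basic.weaklyEtale_left f₁
  haveI := Basic.weaklyEtale_left f₂
  let P : X.ProEt := Scheme.ProEt.mk (pullback.fst f₁.left f₂.left ≫ A₁.hom)
  let a₁ : P ⟶ A₁ := MorphismProperty.Over.homMk (pullback.fst f₁.left f₂.left) rfl
  let a₂ : P ⟶ A₂ := MorphismProperty.Over.homMk (pullback.snd f₁.left f₂.left) (by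
    change pullback.snd f₁.left f₂.left ≫ A₂.hom = pullback.fst f₁.left f₂.left ≫ A₁.hom
    rw [← MorphismProperty.Over.w f₁, ← MorphismProperty.Over.w f₂, pullback.condition_assoc])
  have ha : a₁ ≫ f₁ = a₂ ≫ f₂ := MorphismProperty.Over.Hom.ext pullback.condition
  obtain ⟨O, hO, htO⟩ : ∃ O : P.left.Opens, IsAffineOpen O ∧ (t : ↥P.left) ∈ O := by
    obtain ⟨O, hO⟩ := TopologicalSpace.Opens.mem_iSup.mp
      ((iSup_affineOpens_eq_top P.left).ge (trivial : (t : ↥P.left) ∈ (⊤ : P.left.Opens)))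
    exact ⟨O.1, O.2, hO⟩
  obtain ⟨R, g, hR, hwc, hrange⟩ := Covers.exists_over_affineOpen P hO
  obtain ⟨r, hr⟩ := hrange.ge htO
  refine ⟨R, hR, g ≫ a₁, g ≫ a₂, r, hwc, by rw [Category.assoc, Category.assoc, ha], ?_, ?_⟩
  · exact (congrArg a₁.left.base hr).trans ht₁
  · exact (congrArg a₂.left.base hr).trans ht₂

/-- Equal sections can be compared in the source site. -/
lemma exists_eq₂ {R : X.ProEt} [IsAffine R.left] (hR : EtPBC.IsWContractible ↥Γ(R.left, ⊤))
    {E : X.Etale} (x : F.obj.obj (op E)) (c₁ c₂ : R ⟶ (ProEtS.eps X).obj E)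
    (h : sec F c₁ x = sec F c₂ x) :
    ∃ (E₃ : X.Etale) (g₁ g₂ : E₃ ⟶ E) (d : R ⟶ (ProEtS.eps X).obj E₃),
      d ≫ (ProEtS.eps X).map g₁ = c₁ ∧ d ≫ (ProEtS.eps X).map g₂ = c₂ ∧
        F.obj.map g₁.op x = F.obj.map g₂.op x := by
  haveI := Continuity.flat_eps X
  let S₀ := IsCofiltered.min (StructuredArrow.mk c₁) (StructuredArrow.mk c₂)
  let h₁ : S₀.right ⟶ E := (IsCofiltered.minToLeft (StructuredArrow.mk c₁) (StructuredArrow.mk c₂)).right
  let h₂ : S₀.right ⟶ E := (IsCofiltered.minToRight (StructuredArrow.mk c₁) (StructuredArrow.mk c₂)).right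
  have hc₁ : S₀.hom ≫ (ProEtS.eps X).map h₁ = c₁ :=
    StructuredArrow.w (IsCofiltered.minToLeft (StructuredArrow.mk c₁) (StructuredArrow.mk c₂))
  have hc₂ : S₀.hom ≫ (ProEtS.eps X).map h₂ = c₂ :=
    StructuredArrow.w (IsCofiltered.minToRight (StructuredArrow.mk c₁) (StructuredArrow.mk c₂))
  have h' : AbPullback.sec (ProEtS.eps X) F S₀.hom (F.obj.map h₁.op x) =
      AbPullback.sec (ProEtS.eps X) F S₀.hom (F.obj.map h₂.op x) := by
    rw [AbPullback.sec_map, AbPullback.sec_map, hc₁, hc₂]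
    exact h
  obtain ⟨E₃, g, d, hd, hg⟩ := AbPullback.exists_sec_eq (ProEtS.eps X) F (hasSums X) hR h'
  refine ⟨E₃, g ≫ h₁, g ≫ h₂, d, ?_, ?_, ?_⟩
  · rw [Functor.map_comp, ← Category.assoc, hd, hc₁]
  · rw [Functor.map_comp, ← Category.assoc, hd, hc₂]
  · simp only [op_comp, Functor.map_comp, ConcreteCategory.comp_apply]
    exact hg

/-- A vanishing section comes from a section vanishing near the image. -/
lemma mem_zeroLocus {R : X.ProEt} [IsAffine R.left] (hR : EtPBC.IsWContractible ↥Γ(R.left, ⊤))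
    {E : X.Etale} (x : F.obj.obj (op E)) (c : R ⟶ (ProEtS.eps X).obj E) (h : sec F c x = 0)
    (r : ↥R.left) : (c.left.base r : ↥E.left) ∈ zeroLocus F x := by
  haveI := Continuity.flat_eps X
  have h' : AbPullback.sec (ProEtS.eps X) F c x = AbPullback.sec (ProEtS.eps X) F c 0 := by
    refine h.trans ?_
    rw [AbPullback.sec]
    exact ((congrArg _ (map_zero _)).trans (map_zero _)).symm
  obtain ⟨E₃, g, d, hd, hg⟩ := AbPullback.exists_sec_eq (ProEtS.eps X) F (hasSums X) hR h'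
  subst hd
  exact range_subset_zeroLocus F x g (hg.trans (map_zero _)) _

/-- A section vanishing at a point vanishes nearby. -/
theorem exists_open_vanish {E₁ : X.Etale} (z : ProEtS.sectP (G F) ((ProEtS.eps X).obj E₁))
    {P : X.ProEt} (g : P ⟶ (ProEtS.eps X).obj E₁) (hz : (G F).obj.map g.op z = 0) (p : ↥P.left) :
    ∃ O : E₁.left.Opens, (g.left.base p : ↥E₁.left) ∈ O ∧
      (G F).obj.map ((ProEtS.eps X).map (incl E₁ O)).op z = 0 := by
  let e : ↥E₁.left := g.left.base p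
  obtain ⟨W, hW⟩ := TopologicalSpace.Opens.mem_iSup.mp
    ((iSup_affineOpens_eq_top E₁.left).ge (trivial : e ∈ (⊤ : E₁.left.Opens)))
  obtain ⟨Q, π, hQ, hQwc, hπ⟩ := Covers.exists_over_affineOpen ((ProEtS.eps X).obj E₁) W.2
  haveI := hQ
  obtain ⟨E₂, b, x, hbx⟩ := AbPullback.exists_sec (ProEtS.eps X) F (hasSums X) hQwc
    ((G F).obj.map π.op z)
  let πs : ↥Q.left → ↥E₁.left := fun q => π.left.base q
  let A : Set ↥Q.left := b.left.base ⁻¹' ((zeroLocus F x : E₂.left.Opens) : Set ↥E₂.left)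
  have hA : IsOpen A := (zeroLocus F x).2.preimage b.left.continuous
  have hsat : ∀ q ∈ A, ∀ q', πs q = πs q' → q' ∈ A := by
    intro q hq q' hqq'
    obtain ⟨R, hRa, r₁, r₂, r, hR, hr, hr₁, hr₂⟩ := exists_common π π q q' hqq'
    have h : sec F (r₁ ≫ b) x = sec F (r₂ ≫ b) x := by
      rw [sec, sec, ← AbPullback.map_sec, ← AbPullback.map_sec, hbx]
      exact (map_map F π r₁ z).trans ((by rw [hr] : _ = _).trans (map_map F π r₂ z).symm)
    obtain ⟨E₃, g₁, g₂, d, hd₁, hd₂, hg⟩ := exists_eq₂ F hR x _ _ h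
    let d₀ : ↥E₃.left := d.left.base r
    have e₁ : g₁.left.base d₀ = (b.left.base q : ↥E₂.left) :=
      (congrArg (fun φ : R ⟶ (ProEtS.eps X).obj E₂ => φ.left.base r) hd₁).trans
        (congrArg b.left.base hr₁)
    have e₂ : g₂.left.base d₀ = (b.left.base q' : ↥E₂.left) :=
      (congrArg (fun φ : R ⟶ (ProEtS.eps X).obj E₂ => φ.left.base r) hd₂).trans
        (congrArg b.left.base hr₂)
    let O : E₃.left.Opens := g₁.left ⁻¹ᵁ zeroLocus F x
    have hO : d₀ ∈ O := (congrArg (· ∈ (zeroLocus F x : Set ↥E₂.left)) e₁).mpr hq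
    have h₁ : F.obj.map (incl E₃ O ≫ g₁).op x = 0 :=
      map_eq_zero_of_range_subset F x _ fun y => y.2
    have h₂ : F.obj.map (incl E₃ O ≫ g₂).op x = 0 := by
      rw [op_comp, Functor.map_comp, ConcreteCategory.comp_apply, ← hg, ← ConcreteCategory.comp_apply,
        ← Functor.map_comp, ← op_comp]
      exact h₁
    have h₃ := range_subset_zeroLocus F x (incl E₃ O ≫ g₂) h₂ ⟨d₀, hO⟩
    change (b.left.base q' : ↥E₂.left) ∈ zeroLocus F x
    rw [← e₂]
    exact h₃
  obtain ⟨q₀, hq₀⟩ := hπ.ge (show e ∈ (W.1 : Set ↥E₁.left) from hW)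
  have hq₀A : q₀ ∈ A := by
    obtain ⟨R, hRa, r₁, r₂, r, hR, hr, hr₁, hr₂⟩ := exists_common g π p q₀ hq₀.symm
    have h : sec F (r₂ ≫ b) x = 0 := by
      rw [sec, ← AbPullback.map_sec, hbx]
      refine (map_map F π r₂ z).trans ?_
      rw [← hr, ← map_map F g r₁ z, hz, map_zero]
    have h2 := mem_zeroLocus F hR x (r₂ ≫ b) h r
    change (b.left.base q₀ : ↥E₂.left) ∈ zeroLocus F x
    rw [← hr₂]
    exact h2
  let π₀ : Q.left ⟶ E₁.left := π.left
  have hlift : Set.range π₀.base ⊆ Set.range W.1.ι.base := by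
    rw [Scheme.Opens.range_ι]
    exact hπ.le
  let π' : Q.left ⟶ W.1.toScheme := IsOpenImmersion.lift W.1.ι π₀ hlift
  have hπ' : π' ≫ W.1.ι = π₀ := IsOpenImmersion.lift_fac _ _ _
  have hπ'b : ∀ q, (π'.base q : W.1.toScheme).1 = πs q := fun q =>
    congrArg (fun φ => φ.base q) hπ'
  haveI : WeaklyEtale (π' ≫ W.1.ι) := by
    rw [hπ']
    exact Basic.weaklyEtale_left π
  haveI : WeaklyEtale π' := WeaklyEtale.of_comp π' W.1.ι
  haveI : IsAffine W.1.toScheme := W.2
  haveI : Surjective π' := ⟨fun w => by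
    obtain ⟨q, hq⟩ := hπ.ge w.2
    exact ⟨q, Subtype.ext ((hπ'b q).trans hq)⟩⟩
  let S' : Set ↥W.1.toScheme := π'.base '' A
  have hS' : IsOpen S' := by
    refine (Flat.isQuotientMap_of_surjective π').isOpen_preimage.mp ?_
    convert hA using 1
    refine Set.Subset.antisymm (fun q' hq' => ?_) (fun q' hq' => ⟨q', hq', rfl⟩)
    obtain ⟨q, hq, hqq⟩ := hq'
    exact hsat q hq q' (by rw [← hπ'b, ← hπ'b]; exact congrArg Subtype.val hqq)
  let O : E₁.left.Opens := ⟨W.1.ι.base '' S', W.1.ι.isOpenEmbedding.isOpenMap _ hS'⟩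
  refine ⟨O, ⟨π'.base q₀, ⟨q₀, hq₀A, rfl⟩, (hπ'b q₀).trans hq₀⟩, ?_⟩
  let PW := (ProEtS.eps X).obj (piece E₁ W.1)
  let Q' : Q ⟶ PW := MorphismProperty.Over.homMk π' (by
    change π' ≫ W.1.ι ≫ E₁.hom = Q.hom
    rw [← Category.assoc, hπ']
    exact MorphismProperty.Over.w π)
  haveI : QuasiCompact Q'.left := (inferInstance : QuasiCompact π')
  haveI : Surjective Q'.left := (inferInstance : Surjective π')
  have hQ' : Q' ≫ (ProEtS.eps X).map (incl E₁ W.1) = π := MorphismProperty.Over.Hom.ext hπ'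
  have hOW : ∀ y : ↥(piece E₁ O).left, (incl E₁ O).left.base y ∈ W.1 := fun y => by
    obtain ⟨w, -, hw⟩ := y.2
    exact (congrArg (· ∈ (W.1 : Set ↥E₁.left)) hw).mp w.2
  let k := (ProEtS.eps X).map (lift W.1 (incl E₁ O) hOW)
  have hsep : Presieve.IsSheaf (Scheme.ProEt.topology X) ((G F).obj ⋙ forget AddCommGrpCat.{u + 1}) :=
    (isSheaf_iff_isSheaf_of_type _ _).mp
      ((Presheaf.isSheaf_iff_isSheaf_forget _ (G F).obj (forget AddCommGrpCat.{u + 1})).mp (G F).property)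
  refine (hsep.isSeparated _
    ((Scheme.ProEt.topology X).pullback_stable k (Basic.singleton_mem Q'))).ext
      (t₂ := (0 : (G F).obj.obj (op ((ProEtS.eps X).obj (piece E₁ O))))) fun Y h hh => ?_
  obtain ⟨_, c, _, hh', hc⟩ := hh
  cases hh'
  refine (map_map F _ h z).trans (Eq.trans ?_ (map_zero ((G F).obj.map h.op).hom).symm)
  have he : h ≫ (ProEtS.eps X).map (incl E₁ O) = c ≫ π := by
    rw [← hQ', ← Category.assoc, hc, Category.assoc, ← Functor.map_comp, lift_incl]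
  rw [he, ← map_map F π c z, ← hbx, AbPullback.map_sec]
  have hrange : ∀ y, ((c ≫ b).left.base y : ↥E₂.left) ∈ zeroLocus F x := fun y => by
    obtain ⟨w, ⟨q, hq, hqw⟩, hw⟩ := (h.left.base y : ↥(piece E₁ O).left).2
    refine hsat q hq (c.left.base y) ?_
    have h1 : πs (c.left.base y) = (incl E₁ O).left.base (h.left.base y) :=
      (congrArg (fun φ : Y ⟶ (ProEtS.eps X).obj E₁ => φ.left.base y) he).symm
    rw [h1, ← hπ'b, hqw]
    exact hw
  let O₂ : E₂.left.Opens := zeroLocus F x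
  obtain ⟨ψ', hψ⟩ := exists_lift_piece O₂ (c ≫ b) hrange
  have h0 : F.obj.map (incl E₂ O₂).op x = 0 :=
    map_eq_zero_of_range_subset F x (incl E₂ O₂) fun y => y.2
  rw [← hψ, ← AbPullback.sec_map, h0, AbPullback.sec]
  exact (congrArg _ (map_zero _)).trans (map_zero _)

theorem injective_η {E : X.Etale} (x : F.obj.obj (op E)) (h : η F x = 0) : x = 0 := by
  refine eq_zero_of_zeroLocus F x fun e => ?_
  obtain ⟨W, hW⟩ := TopologicalSpace.Opens.mem_iSup.mp
    ((iSup_affineOpens_eq_top E.left).ge (trivial : e ∈ (⊤ : E.left.Opens)))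
  obtain ⟨Q, π, hQ, hwc, hπ⟩ := Covers.exists_over_affineOpen ((ProEtS.eps X).obj E) W.2
  haveI := hQ
  obtain ⟨q, hq⟩ := hπ.ge (show e ∈ (W.1 : Set ↥E.left) from hW)
  have h1 := mem_zeroLocus F hwc x π (by rw [sec_def, h, map_zero]) q
  rwa [hq] at h1

theorem exists_local_preimage {E : X.Etale} (y : ProEtS.sectP (G F) ((ProEtS.eps X).obj E))
    (e : ↥E.left) : ∃ (E' : X.Etale) (f : E' ⟶ E) (x : F.obj.obj (op E')),
      e ∈ Set.range f.left.base ∧ η F x = (G F).obj.map ((ProEtS.eps X).map f).op y := by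
  obtain ⟨W, hW⟩ := TopologicalSpace.Opens.mem_iSup.mp
    ((iSup_affineOpens_eq_top E.left).ge (trivial : e ∈ (⊤ : E.left.Opens)))
  obtain ⟨P, g, hP, hwc, hg⟩ := Covers.exists_over_affineOpen ((ProEtS.eps X).obj E) W.2
  haveI := hP
  obtain ⟨p, hp⟩ := hg.ge (show e ∈ (W.1 : Set ↥E.left) from hW)
  obtain ⟨E₀, a, x, hx⟩ := AbPullback.exists_sec (ProEtS.eps X) F (hasSums X) hwc ((G F).obj.map g.op y)
  haveI := Continuity.flat_eps X
  let S₁ := IsCofiltered.min (StructuredArrow.mk a) (StructuredArrow.mk g)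
  let h₁ : S₁.right ⟶ E₀ := (IsCofiltered.minToLeft (StructuredArrow.mk a) (StructuredArrow.mk g)).right
  let h₂ : S₁.right ⟶ E := (IsCofiltered.minToRight (StructuredArrow.mk a) (StructuredArrow.mk g)).right
  have hc₁ : S₁.hom ≫ (ProEtS.eps X).map h₁ = a :=
    StructuredArrow.w (IsCofiltered.minToLeft (StructuredArrow.mk a) (StructuredArrow.mk g))
  have hc₂ : S₁.hom ≫ (ProEtS.eps X).map h₂ = g :=
    StructuredArrow.w (IsCofiltered.minToRight (StructuredArrow.mk a) (StructuredArrow.mk g))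
  let x' := F.obj.map h₁.op x
  let z := η F x' - (G F).obj.map ((ProEtS.eps X).map h₂).op y
  have hz : (G F).obj.map S₁.hom.op z = 0 := by
    rw [map_sub, map_map, hc₂, ← sec_def]
    refine sub_eq_zero.mpr (Eq.trans ?_ hx)
    rw [sec, AbPullback.sec_map, hc₁]
  obtain ⟨O, hO, hzO⟩ := exists_open_vanish F z S₁.hom hz p
  refine ⟨piece S₁.right O, incl S₁.right O ≫ h₂, F.obj.map (incl S₁.right O).op x', ?_, ?_⟩
  · refine ⟨⟨_, hO⟩, ?_⟩
    exact (congrArg (fun φ : P ⟶ (ProEtS.eps X).obj E => φ.left.base p) hc₂).trans hp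
  · rw [map_sub, sub_eq_zero, map_map] at hzO
    rw [η_map, Functor.map_comp]
    exact hzO

theorem isIso_unit : IsIso ((ProEtS.epsAdj X).unit.app F) := by
  let φ := (ProEtS.epsAdj X).unit.app F
  haveI : Mono φ := by
    haveI : ∀ U, Mono (φ.hom.app U) := fun U =>
      ConcreteCategory.mono_of_injective _ ((injective_iff_map_eq_zero (φ.hom.app U).hom).mpr
        fun x hx => injective_η F (E := U.unop) x hx)
    haveI : Mono φ.hom := NatTrans.mono_of_mono_app _
    exact Sheaf.Hom.mono_of_presheaf_mono _ _ φ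
  haveI : Epi φ := by
    refine (Sheaf.isLocallySurjective_iff_epi' (φ := φ)).mp ⟨fun {E} y => ?_⟩
    refine (EtSite.Basic.mem_topology_iff _).mpr fun e => ?_
    obtain ⟨E', f, x, ⟨v, hv⟩, hx⟩ := exists_local_preimage F (E := E) y e
    exact ⟨E', f, ⟨x, hx⟩, v, hv⟩
  exact isIso_of_mono_of_epi φ

end Groth.Agent.Lib.ProEt.EpsUnit
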