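import Groth.Agent.Lib.ProEt.EpsUnit

/-!
Vanishing of sections of the pullback from the etale site is local.
-/

set_option autoImplicit false

universe u

open CategoryTheory CategoryTheory.Limits AlgebraicGeometry Opposite

namespace Groth.Agent.Lib.ProEt.EpsVanish

set_option backward.isDefEq.respectTransparency.types false

open EtSections EpsUnit

variable {X : Scheme.{u}}

lemma exists_lift {V Y : Scheme.{u}} (O : V.Opens) (g : Y ⟶ V) (h : ∀ y, g.base y ∈ O) :
    ∃ l : Y ⟶ O.toScheme, l ≫ O.ι = g :=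
  ⟨IsOpenImmersion.lift O.ι g (by
      rw [Scheme.Opens.range_ι]
      rintro _ ⟨y, rfl⟩
      exact h y), IsOpenImmersion.lift_fac _ _ _⟩

/-- Lifting a morphism to an open piece. -/
noncomputable def liftPiece {V Y : X.ProEt} (O : V.left.Opens) (g : Y ⟶ V)
    (h : ∀ y, g.left.base y ∈ O) : Y ⟶ Decomp.piece V O :=
  MorphismProperty.Over.homMk (exists_lift O g.left h).choose
    ((congrArg (· ≫ V.hom) (exists_lift O g.left h).choose_spec).trans (MorphismProperty.Over.w g))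

lemma liftPiece_incl {V Y : X.ProEt} (O : V.left.Opens) (g : Y ⟶ V)
    (h : ∀ y, g.left.base y ∈ O) : liftPiece O g h ≫ Decomp.incl V O = g :=
  MorphismProperty.Over.Hom.ext (exists_lift O g.left h).choose_spec

variable [ProEtS.EpsCont X] (F : EtCoh.Ab X)

/-- A section vanishing at a point vanishes nearby. -/
theorem exists_open_vanish {V : X.ProEt} (z : ProEtS.sectP (G F) V)
    {P : X.ProEt} (g : P ⟶ V) (hz : (G F).obj.map g.op z = 0) (p : ↥P.left) :
    ∃ O : V.left.Opens, g.left.base p ∈ O ∧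
      (G F).obj.map (Decomp.incl V O).op z = 0 := by
  let e : ↥V.left := g.left.base p
  obtain ⟨W, hW⟩ := TopologicalSpace.Opens.mem_iSup.mp
    ((iSup_affineOpens_eq_top V.left).ge (trivial : e ∈ (⊤ : V.left.Opens)))
  obtain ⟨Q, π, hQ, hQwc, hπ⟩ := Covers.exists_over_affineOpen V W.2
  haveI := hQ
  obtain ⟨E₂, b, x, hbx⟩ := AbPullback.exists_sec (ProEtS.eps X) F (hasSums X) hQwc
    ((G F).obj.map π.op z)
  let πs : ↥Q.left → ↥V.left := fun q => π.left.base q
  let A : Set ↥Q.left := b.left.base ⁻¹' ((zeroLocus F x : E₂.left.Opens) : Set ↥E₂.left)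
  have hA : IsOpen A := (zeroLocus F x).2.preimage b.left.continuous
  have hsat : ∀ q ∈ A, ∀ q', πs q = πs q' → q' ∈ A := by
    intro q hq q' hqq'
    obtain ⟨R, hRa, r₁, r₂, r, hR, hr, hr₁, hr₂⟩ := exists_common π π q q' hqq'
    have h : sec F (r₁ ≫ b) x = sec F (r₂ ≫ b) x := by
      rw [sec, sec, ← AbPullback.map_sec, ← AbPullback.map_sec, hbx]
      exact (map_map F π r₁ z).trans ((by rw [hr] : _ = _).trans (map_map F π r₂ z).symm)
    obtain ⟨E₃, g₁, g₂, d, hd₁, hd₂, hg⟩ := exists_eq₂ F hR x _ _ h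
    let d₀ : ↥E₃.left := d.left.base r
    have e₁ : g₁.left.base d₀ = (b.left.base q : ↥E₂.left) :=
      (congrArg (fun φ : R ⟶ (ProEtS.eps X).obj E₂ => φ.left.base r) hd₁).trans
        (congrArg b.left.base hr₁)
    have e₂ : g₂.left.base d₀ = (b.left.base q' : ↥E₂.left) :=
      (congrArg (fun φ : R ⟶ (ProEtS.eps X).obj E₂ => φ.left.base r) hd₂).trans
        (congrArg b.left.base hr₂)
    let O : E₃.left.Opens := g₁.left ⁻¹ᵁ zeroLocus F x
    have hO : d₀ ∈ O := (congrArg (· ∈ (zeroLocus F x : Set ↥E₂.left)) e₁).mpr hq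
    have h₁ : F.obj.map (incl E₃ O ≫ g₁).op x = 0 :=
      map_eq_zero_of_range_subset F x _ fun y => y.2
    have h₂ : F.obj.map (incl E₃ O ≫ g₂).op x = 0 := by
      rw [op_comp, Functor.map_comp, ConcreteCategory.comp_apply, ← hg, ← ConcreteCategory.comp_apply,
        ← Functor.map_comp, ← op_comp]
      exact h₁
    have h₃ := range_subset_zeroLocus F x (incl E₃ O ≫ g₂) h₂ ⟨d₀, hO⟩
    change (b.left.base q' : ↥E₂.left) ∈ zeroLocus F x
    rw [← e₂]
    exact h₃
  obtain ⟨q₀, hq₀⟩ := hπ.ge (show e ∈ (W.1 : Set ↥V.left) from hW)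
  have hq₀A : q₀ ∈ A := by
    obtain ⟨R, hRa, r₁, r₂, r, hR, hr, hr₁, hr₂⟩ := exists_common g π p q₀ hq₀.symm
    have h : sec F (r₂ ≫ b) x = 0 := by
      rw [sec, ← AbPullback.map_sec, hbx]
      refine (map_map F π r₂ z).trans ?_
      rw [← hr, ← map_map F g r₁ z, hz, map_zero]
    have h2 := mem_zeroLocus F hR x (r₂ ≫ b) h r
    change (b.left.base q₀ : ↥E₂.left) ∈ zeroLocus F x
    rw [← hr₂]
    exact h2
  let π₀ : Q.left ⟶ V.left := π.left
  have hlift : Set.range π₀.base ⊆ Set.range W.1.ι.base := by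
    rw [Scheme.Opens.range_ι]
    exact hπ.le
  let π' : Q.left ⟶ W.1.toScheme := IsOpenImmersion.lift W.1.ι π₀ hlift
  have hπ' : π' ≫ W.1.ι = π₀ := IsOpenImmersion.lift_fac _ _ _
  have hπ'b : ∀ q, (π'.base q : W.1.toScheme).1 = πs q := fun q =>
    congrArg (fun φ => φ.base q) hπ'
  haveI : WeaklyEtale (π' ≫ W.1.ι) := by
    rw [hπ']
    exact Basic.weaklyEtale_left π
  haveI : WeaklyEtale π' := WeaklyEtale.of_comp π' W.1.ι
  haveI : IsAffine W.1.toScheme := W.2
  haveI : Surjective π' := ⟨fun w => by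
    obtain ⟨q, hq⟩ := hπ.ge w.2
    exact ⟨q, Subtype.ext ((hπ'b q).trans hq)⟩⟩
  let S' : Set ↥W.1.toScheme := π'.base '' A
  have hS' : IsOpen S' := by
    refine (Flat.isQuotientMap_of_surjective π').isOpen_preimage.mp ?_
    convert hA using 1
    refine Set.Subset.antisymm (fun q' hq' => ?_) (fun q' hq' => ⟨q', hq', rfl⟩)
    obtain ⟨q, hq, hqq⟩ := hq'
    exact hsat q hq q' (by rw [← hπ'b, ← hπ'b]; exact congrArg Subtype.val hqq)
  let O : V.left.Opens := ⟨W.1.ι.base '' S', W.1.ι.isOpenEmbedding.isOpenMap _ hS'⟩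
  refine ⟨O, ⟨π'.base q₀, ⟨q₀, hq₀A, rfl⟩, (hπ'b q₀).trans hq₀⟩, ?_⟩
  let PW := Decomp.piece V W.1
  let Q' : Q ⟶ PW := MorphismProperty.Over.homMk π' (by
    change π' ≫ W.1.ι ≫ V.hom = Q.hom
    rw [← Category.assoc, hπ']
    exact MorphismProperty.Over.w π)
  haveI : QuasiCompact Q'.left := (inferInstance : QuasiCompact π')
  haveI : Surjective Q'.left := (inferInstance : Surjective π')
  have hQ' : Q' ≫ Decomp.incl V W.1 = π := MorphismProperty.Over.Hom.ext hπ'
  have hOW : ∀ y : ↥(Decomp.piece V O).left, (Decomp.incl V O).left.base y ∈ W.1 := fun y => by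
    obtain ⟨w, -, hw⟩ := y.2
    exact (congrArg (· ∈ (W.1 : Set ↥V.left)) hw).mp w.2
  let k := liftPiece W.1 (Decomp.incl V O) hOW
  have hsep : Presieve.IsSheaf (Scheme.ProEt.topology X) ((G F).obj ⋙ forget AddCommGrpCat.{u + 1}) :=
    (isSheaf_iff_isSheaf_of_type _ _).mp
      ((Presheaf.isSheaf_iff_isSheaf_forget _ (G F).obj (forget AddCommGrpCat.{u + 1})).mp (G F).property)
  refine (hsep.isSeparated _
    ((Scheme.ProEt.topology X).pullback_stable k (Basic.singleton_mem Q'))).ext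
      (t₂ := (0 : (G F).obj.obj (op (Decomp.piece V O)))) fun Y h hh => ?_
  obtain ⟨_, c, _, hh', hc⟩ := hh
  cases hh'
  refine (map_map F _ h z).trans (Eq.trans ?_ (map_zero ((G F).obj.map h.op).hom).symm)
  have he : h ≫ Decomp.incl V O = c ≫ π := by
    rw [← hQ', ← Category.assoc, hc, Category.assoc, liftPiece_incl]
  rw [he, ← map_map F π c z, ← hbx, AbPullback.map_sec]
  have hrange : ∀ y, ((c ≫ b).left.base y : ↥E₂.left) ∈ zeroLocus F x := fun y => by
    obtain ⟨w, ⟨q, hq, hqw⟩, hw⟩ := (h.left.base y : ↥(Decomp.piece V O).left).2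
    refine hsat q hq (c.left.base y) ?_
    have h1 : πs (c.left.base y) = (Decomp.incl V O).left.base (h.left.base y) :=
      (congrArg (fun φ : Y ⟶ V => φ.left.base y) he).symm
    rw [h1, ← hπ'b, hqw]
    exact hw
  let O₂ : E₂.left.Opens := zeroLocus F x
  obtain ⟨ψ', hψ⟩ := exists_lift_piece O₂ (c ≫ b) hrange
  have h0 : F.obj.map (incl E₂ O₂).op x = 0 :=
    map_eq_zero_of_range_subset F x (incl E₂ O₂) fun y => y.2
  rw [← hψ, ← AbPullback.sec_map, h0, AbPullback.sec]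
  exact (congrArg _ (map_zero _)).trans (map_zero _)

/-- The open where a section vanishes locally. -/
noncomputable def locus {V : X.ProEt} (z : ProEtS.sectP (G F) V) : V.left.Opens :=
  sSup {O | (G F).obj.map (Decomp.incl V O).op z = 0}

theorem map_eq_zero_of_range_subset {V T : X.ProEt} (z : ProEtS.sectP (G F) V) (g : T ⟶ V)
    (h : ∀ y, g.left.base y ∈ locus F z) : (G F).obj.map g.op z = 0 := by
  let S := {O : V.left.Opens | (G F).obj.map (Decomp.incl V O).op z = 0}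
  let P : S → X.ProEt := fun O => Decomp.piece T (g.left ⁻¹ᵁ O.1)
  have hmem : Sieve.ofArrows P (fun O => Decomp.incl T (g.left ⁻¹ᵁ O.1)) ∈ Scheme.ProEt.topology X T :=
    Continuity.ofArrows_mem_of_isOpenMap _ (fun O => (g.left ⁻¹ᵁ O.1).ι.isOpenEmbedding.isOpenMap)
      (Set.eq_univ_of_forall fun y => by
        obtain ⟨O, hO, hy⟩ := TopologicalSpace.Opens.mem_sSup.mp (h y)
        exact Set.mem_iUnion.mpr ⟨⟨O, hO⟩, ⟨y, hy⟩, rfl⟩)
  have hsep : Presieve.IsSheaf (Scheme.ProEt.topology X) ((G F).obj ⋙ forget AddCommGrpCat.{u + 1}) :=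
    (isSheaf_iff_isSheaf_of_type _ _).mp
      ((Presheaf.isSheaf_iff_isSheaf_forget _ (G F).obj (forget AddCommGrpCat.{u + 1})).mp (G F).property)
  refine (hsep.isSeparated _ hmem).ext (t₂ := (0 : (G F).obj.obj (op T))) fun Z f hf => ?_
  obtain ⟨T', a, f', hf', rfl⟩ := hf
  obtain ⟨O⟩ := hf'
  let g' : T.left ⟶ V.left := g.left
  let PO : X.ProEt := Decomp.piece T (g' ⁻¹ᵁ O.1)
  have hPO : ∀ y : ↥PO.left, (Decomp.incl T (g' ⁻¹ᵁ O.1) ≫ g).left.base y ∈ O.1 := fun y => y.2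
  let k : PO ⟶ Decomp.piece V O.1 := liftPiece O.1 (Decomp.incl T (g' ⁻¹ᵁ O.1) ≫ g) hPO
  refine (map_map F g (a ≫ Decomp.incl T _) z).trans
    (Eq.trans ?_ (map_zero ((G F).obj.map (a ≫ Decomp.incl T _).op).hom).symm)
  rw [Category.assoc, ← liftPiece_incl O.1 (Decomp.incl T (g' ⁻¹ᵁ O.1) ≫ g) hPO,
    ← Category.assoc, ← map_map F (Decomp.incl V O.1), O.2, map_zero]

/-- A point whose lift to a weakly contractible object kills the section is in the locus. -/
theorem mem_locus {V P : X.ProEt} (z : ProEtS.sectP (G F) V) (g : P ⟶ V)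
    (hz : (G F).obj.map g.op z = 0) (p : ↥P.left) : g.left.base p ∈ locus F z := by
  obtain ⟨O, hO, hzO⟩ := exists_open_vanish F z g hz p
  exact TopologicalSpace.Opens.mem_sSup.mpr ⟨O, hzO, hO⟩

end Groth.Agent.Lib.ProEt.EpsVanish
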