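import Groth.Agent.Lib.ProEt.PresExists

/-!
The pullback of an injective sheaf from the etale site has vanishing Cech cocycles.
-/

set_option autoImplicit false

universe u

open CategoryTheory CategoryTheory.Limits AlgebraicGeometry Opposite

namespace Groth.Agent.Lib.ProEt.EtGood

set_option backward.isDefEq.respectTransparency.types false

open Cochain CechCrit EtPres

variable {X : Scheme.{u}}

/-- The covers: surjective quasi-compact morphisms between presented objects. -/
noncomputable def covers (X : Scheme.{u}) : Covers (Scheme.ProEt.topology X) where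
  B U := Nonempty (Pres U)
  Cov P U c := Nonempty (Pres P) ∧ Nonempty (Pres U) ∧
    Sieve.generate (Presieve.singleton c) ∈ Scheme.ProEt.topology X U
  mem _ _ _ h := h.2.2
  rep P U c h n :=
    ⟨obj c n, univ c n, h.1.elim fun pP => h.2.1.elim fun pU => ⟨presPow c pP pU n⟩, isUniv n⟩
  lift U hU := by
    obtain ⟨p⟩ := hU
    haveI := p.compactSpace_left
    obtain ⟨t, ht⟩ := isCompact_univ.elim_finite_subcover
      (fun W : U.left.affineOpens => (W.1 : Set ↥U.left)) (fun W => W.1.2)
      (fun x _ => by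
        obtain ⟨W, hW⟩ := TopologicalSpace.Opens.mem_iSup.mp
          ((iSup_affineOpens_eq_top U.left).ge (trivial : x ∈ (⊤ : U.left.Opens)))
        exact Set.mem_iUnion.mpr ⟨W, hW⟩)
    obtain ⟨Q, g, hQ, -, -, hmem, hwc⟩ := Covers.exists_cover U
      (fun W : t => W.1.1) (fun W => W.1.2) (top_le_iff.mp fun x _ => by
        obtain ⟨W, hWt, hx⟩ := Set.mem_iUnion₂.mp (ht (Set.mem_univ x))
        exact TopologicalSpace.Opens.mem_iSup.mpr ⟨⟨W, hWt⟩, hx⟩)
    haveI := hQ
    haveI : IsAffine (Covers.sigmaObj Q).left :=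
      (inferInstance : IsAffine (∐ fun k => (Q k).left))
    exact ⟨_, _, ⟨nonempty_pres _ ((Criterion.isWContractible_iff_isWC _).mpr hwc), ⟨p⟩, hmem⟩,
      fun _ _ φ hφ => haveI := hφ; Exact.surjective_of_epi φ hwc⟩

variable [ProEtS.EpsCont X] (F : EtCoh.Ab X)

lemma bijective_η {E : X.Etale} : Function.Bijective (EpsUnit.η F (E := E)) := by
  haveI := EpsUnit.isIso_unit F
  let G := sheafToPresheaf X.smallEtaleTopology AddCommGrpCat.{u + 1} ⋙
    (evaluation X.Etaleᵒᵖ AddCommGrpCat.{u + 1}).obj (op E)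
  haveI : IsIso (G.map ((ProEtS.epsAdj X).unit.app F)) := inferInstance
  exact ConcreteCategory.bijective_of_isIso (G.map ((ProEtS.epsAdj X).unit.app F))

variable {F}

/-- Extension of cochains to the pro-etale site. -/
noncomputable def ext {E' E : X.Etale} {h : E' ⟶ E} {n : ℕ} (y : Coch h F.obj n) :
    Coch ((ProEtS.eps X).map h) (EpsUnit.G F).obj n :=
  ofUniv (isUniv_map (ProEtS.eps X) n) (EpsUnit.η F (y.app (obj h n) (univ h n)))

lemma ext_map {E' E : X.Etale} {h : E' ⟶ E} {n : ℕ} (y : Coch h F.obj n) {W : X.Etale}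
    (t : Tup h n W) :
    (ext y).app ((ProEtS.eps X).obj W) (mapTup (ProEtS.eps X) t) = EpsUnit.η F (y.app W t) := by
  obtain ⟨g, rfl, -⟩ := isUniv n t
  have e : mapTup (ProEtS.eps X) (res g (univ h n)) =
      res ((ProEtS.eps X).map g) (mapTup (ProEtS.eps X) (univ h n)) :=
    Subtype.ext (funext fun a => (ProEtS.eps X).map_comp g _)
  rw [e, y.naturality, EpsUnit.η_map]
  exact ofUniv_app _ _ _

lemma ext_δ {E' E : X.Etale} {h : E' ⟶ E} {n : ℕ} (y : Coch h F.obj n) : ext (δ y) = δ (ext y) := by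
  refine eq_of_univ (isUniv_map (ProEtS.eps X) (n + 1)) ?_
  refine (ofUniv_univ _ _).trans ?_
  rw [δ_app, δ_app]
  have hface : ∀ i : Fin (n + 2), (ext y).app _ (face i (mapTup (ProEtS.eps X) (univ h (n + 1)))) =
      EpsUnit.η F (y.app _ (face i (univ h (n + 1)))) := fun i => ext_map y (face i (univ h (n + 1)))
  simp only [hface]
  exact (map_sum _ _ _).trans (Finset.sum_congr rfl fun i _ => map_zsmul _ _ _)

variable {P U : X.ProEt} {c : P ⟶ U} {pP : Pres P} {pU : Pres U}

/-- Cochains at a stage give cochains. -/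
noncomputable def back (o : Stage c pP pU) {n : ℕ} (y : Coch o.h F.obj n) :
    Coch c (EpsUnit.G F).obj n :=
  comap (pP.π.app o.k) (pU.π.app o.i) o.w (ext y)

lemma back_δ (o : Stage c pP pU) {n : ℕ} (y : Coch o.h F.obj n) : back o (δ y) = δ (back o y) := by
  rw [back, ext_δ, comap_δ]
  rfl

lemma back_univ (o : Stage c pP pU) {n : ℕ} (y : Coch o.h F.obj n) :
    (back o y).app (obj c n) (univ c n) =
      (EpsUnit.G F).obj.map (powπ c pP pU n o).op (EpsUnit.η F (y.app (obj o.h n) (univ o.h n))) := by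
  change (ext y).app _ (tupMap (pP.π.app o.k) (pU.π.app o.i) o.w (univ c n)) = _
  rw [← powπ_res c pP pU n o]
  exact ofUniv_app _ _ _

/-- Restriction to a finer stage. -/
noncomputable def restr {o o' : Stage c pP pU} (f : o' ⟶ o) {n : ℕ} (y : Coch o.h F.obj n) :
    Coch o'.h F.obj n :=
  comap (pP.D.map f.a) (pU.D.map f.b) f.comm y

lemma restr_univ {o o' : Stage c pP pU} (f : o' ⟶ o) {n : ℕ} (y : Coch o.h F.obj n) :
    (restr f y).app (obj o'.h n) (univ o'.h n) =
      F.obj.map (powMap n f).op (y.app (obj o.h n) (univ o.h n)) := by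
  change y.app _ (tupMap (pP.D.map f.a) (pU.D.map f.b) f.comm (univ o'.h n)) = _
  have e : tupMap (pP.D.map f.a) (pU.D.map f.b) f.comm (univ o'.h n) = res (powMap n f) (univ o.h n) :=
    Subtype.ext (funext fun a => (powMap_spec n f a).symm)
  rw [e, y.naturality]

lemma back_restr {o o' : Stage c pP pU} (f : o' ⟶ o) {n : ℕ} (y : Coch o.h F.obj n) :
    back o' (restr f y) = back o y := by
  refine eq_of_univ (isUniv n) ?_
  rw [back_univ, back_univ, restr_univ, EpsUnit.η_map, EpsUnit.map_map, powπ_w]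

variable (c)

/-- Cocycles of the pullback of an injective sheaf are coboundaries. -/
theorem exists_eq_δ [Injective F] (pP : Pres P) (pU : Pres U) (n : ℕ)
    (x : Coch c (EpsUnit.G F).obj (n + 1)) (hx : ∀ W t, (δ x).app W t = 0) :
    ∃ y, δ y = x := by
  haveI : ∀ (m : ℕ) (o o' : Stage c pP pU) (a : o ⟶ o'),
      IsAffineHom ((powD c pP pU m ⋙ ProEtS.eps X).map a).left := fun m o o' a =>
    (presPow c pP pU m).isAffineHom_map a
  haveI : ∀ (m : ℕ) (o : Stage c pP pU), CompactSpace ↥((powD c pP pU m ⋙ ProEtS.eps X).obj o).left :=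
    fun m o => (qcqs_pow c pP pU m o).1
  haveI : ∀ (m : ℕ) (o : Stage c pP pU),
      QuasiSeparatedSpace ↥((powD c pP pU m ⋙ ProEtS.eps X).obj o).left :=
    fun m o => (qcqs_pow c pP pU m o).2
  obtain ⟨o, s, hs⟩ := EpsColimit.exists_preimage F (powD c pP pU (n + 1) ⋙ ProEtS.eps X)
    ⟨obj c (n + 1), powNat c pP pU (n + 1)⟩ (isLimitPow c pP pU (n + 1))
    (x.app (obj c (n + 1)) (univ c (n + 1)))
  obtain ⟨ξ, hξ⟩ := (bijective_η F (E := obj o.h (n + 1))).2 s
  let ξc : Coch o.h F.obj (n + 1) := ofUniv (isUniv (n + 1)) ξ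
  have hback : back o ξc = x := eq_of_univ (isUniv (n + 1)) (by
    rw [back_univ, ofUniv_univ, hξ]
    exact hs)
  let ζ := (δ ξc).app (obj o.h (n + 2)) (univ o.h (n + 2))
  have hζ : (EpsUnit.G F).obj.map (powπ c pP pU (n + 2) o).op (EpsUnit.η F ζ) = 0 := by
    rw [← back_univ, back_δ, hback]
    exact hx _ _
  obtain ⟨o', f, hf⟩ := EpsColimit.exists_map_eq_zero F (powD c pP pU (n + 2) ⋙ ProEtS.eps X)
    ⟨obj c (n + 2), powNat c pP pU (n + 2)⟩ (isLimitPow c pP pU (n + 2))
    (R := (powD c pP pU (n + 2) ⋙ ProEtS.eps X).obj o) (𝟙 _) (EpsUnit.η F ζ) fun T p q hpq => by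
      rw [Category.comp_id] at hpq
      subst hpq
      have h0 := congrArg (fun z => (EpsUnit.G F).obj.map q.op z) hζ
      simp only [map_zero] at h0
      exact (EpsUnit.map_map F _ q _).symm.trans h0
  have hζ' : F.obj.map (powMap (n + 2) f).op ζ = 0 := by
    refine (bijective_η F).1 ?_
    rw [EpsUnit.η_map]
    refine Eq.trans ?_ (map_zero (((ProEtS.epsAdj X).unit.app F).hom.app _).hom).symm
    exact hf _ ((ProEtS.eps X).map (powMap (n + 2) f)) (𝟙 _)
      ((Category.comp_id _).trans (Category.id_comp _).symm)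
  haveI : Injective F.obj := injective_obj F
  have hcoc : ∀ W t, (δ (restr f ξc)).app W t = 0 := fun W t => by
    obtain ⟨g, rfl, -⟩ := isUniv (n + 2) t
    rw [(δ (restr f ξc)).naturality]
    refine (congrArg _ ?_).trans (map_zero (F.obj.map g.op).hom)
    exact (restr_univ f (δ ξc)).trans hζ'
  obtain ⟨y, hy⟩ := exists_eq_δ_of_injective (restr f ξc) hcoc
  exact ⟨back o' y, by rw [← back_δ, hy, back_restr, hback]⟩


/-- The pullback of an injective sheaf is good. -/
theorem good_epsPull [Injective F] : Good (covers X) (EpsUnit.G F) :=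
  fun _ _ c hc n x hx => hc.1.elim fun pP => hc.2.1.elim fun pU => exists_eq_δ c pP pU n x hx

end Groth.Agent.Lib.ProEt.EtGood
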