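import Groth.Agent.Lib.ProEt.EpsColimit
import Groth.Agent.Lib.ProEt.CechCrit

/-!
Presentations of objects of the pro-etale site as limits of affine etale objects, and fibre
powers of presented morphisms.
-/

set_option autoImplicit false

universe u

open CategoryTheory CategoryTheory.Limits AlgebraicGeometry Opposite

namespace Groth.Agent.Lib.ProEt.EtPres

set_option backward.isDefEq.respectTransparency.types false

open Cochain CechCrit

variable {X : Scheme.{u}}

/-- A map of fibre products with affine components is affine, if the bases are mapped by a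
separated morphism. -/
lemma isAffineHom_of_isPullback {W A B S W' A' B' S' : Scheme.{u}} {p : W ⟶ A} {q : W ⟶ B}
    {f : A ⟶ S} {g : B ⟶ S} {p' : W' ⟶ A'} {q' : W' ⟶ B'} {f' : A' ⟶ S'} {g' : B' ⟶ S'}
    (h : IsPullback p q f g) (h' : IsPullback p' q' f' g') (m : W ⟶ W') (s : S ⟶ S')
    [IsSeparated s] {a : A ⟶ A'} {b : B ⟶ B'} (hma : m ≫ p' = p ≫ a) (hmb : m ≫ q' = q ≫ b)
    (hf : f ≫ s = a ≫ f') (hg : g ≫ s = b ≫ g') (ha : IsAffineHom a) (hb : IsAffineHom b) :
    IsAffineHom m := by
  let φ : pullback (f ≫ s) (g ≫ s) ⟶ pullback f' g' :=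
    pullback.map (f ≫ s) (g ≫ s) f' g' a b (𝟙 S') ((Category.comp_id _).trans hf)
      ((Category.comp_id _).trans hg)
  haveI : IsAffineHom φ := MorphismProperty.pullback_map (P := @IsAffineHom) ha hb
    hf hg
  have e : m = h.isoPullback.hom ≫ pullback.mapDesc f g s ≫ φ ≫ h'.isoPullback.inv := by
    rw [← Category.assoc (pullback.mapDesc f g s), ← Category.assoc h.isoPullback.hom,
      Iso.eq_comp_inv]
    apply pullback.hom_ext
    · rw [Category.assoc, h'.isoPullback_hom_fst, hma, Category.assoc, Category.assoc,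
        show φ ≫ pullback.fst f' g' = pullback.fst _ _ ≫ a from pullback.lift_fst _ _ _,
        ← Category.assoc (pullback.mapDesc f g s),
        show pullback.mapDesc f g s ≫ pullback.fst _ _ = pullback.fst f g from
          (pullback.lift_fst _ _ _).trans (Category.comp_id _),
        ← Category.assoc, h.isoPullback_hom_fst]
    · rw [Category.assoc, h'.isoPullback_hom_snd, hmb, Category.assoc, Category.assoc,
        show φ ≫ pullback.snd f' g' = pullback.snd _ _ ≫ b from pullback.lift_snd _ _ _,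
        ← Category.assoc (pullback.mapDesc f g s),
        show pullback.mapDesc f g s ≫ pullback.snd _ _ = pullback.snd f g from
          (pullback.lift_snd _ _ _).trans (Category.comp_id _),
        ← Category.assoc, h.isoPullback_hom_snd]
  rw [e]
  infer_instance

/-- A presentation as a cofiltered limit of quasi-compact quasi-separated etale objects with affine
transition maps. -/
structure Pres (U : X.ProEt) where
  /-- the index category -/
  I : Type u
  [cat : SmallCategory I]
  [cof : IsCofiltered I]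
  /-- the system -/
  D : I ⥤ X.Etale
  qc : ∀ i, CompactSpace ↥(D.obj i).left
  qs : ∀ i, QuasiSeparatedSpace ↥(D.obj i).left
  affHom : ∀ {i j : I} (a : i ⟶ j), IsAffineHom (D.map a).left
  /-- the projections -/
  π : (Functor.const I).obj U ⟶ D ⋙ ProEtS.eps X
  /-- it is a limit of schemes -/
  isLimit : IsLimit ((Scheme.ProEt.forget X ⋙ Over.forget X).mapCone ⟨U, π⟩)

attribute [instance] Pres.cat Pres.cof

namespace Pres

variable {U : X.ProEt} (p : Pres U)

/-- The system of schemes. -/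
noncomputable abbrev sch : p.I ⥤ Scheme.{u} :=
  (p.D ⋙ ProEtS.eps X) ⋙ Scheme.ProEt.forget X ⋙ Over.forget X

instance compactSpace_sch (i : p.I) : CompactSpace ↥(p.sch.obj i) := p.qc i

instance quasiSeparatedSpace_sch (i : p.I) : QuasiSeparatedSpace ↥(p.sch.obj i) := p.qs i

instance isAffineHom_map {i j : p.I} (a : i ⟶ j) : IsAffineHom ((p.D ⋙ ProEtS.eps X).map a).left :=
  p.affHom a

instance isAffineHom_sch {i j : p.I} (a : i ⟶ j) : IsAffineHom (p.sch.map a) :=
  p.affHom a

lemma π_w {i j : p.I} (a : i ⟶ j) : p.π.app i ≫ (ProEtS.eps X).map (p.D.map a) = p.π.app j :=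
  ((p.π.naturality a).symm.trans (Category.id_comp _))

lemma compactSpace_left (p : Pres U) : CompactSpace ↥U.left :=
  Scheme.compactSpace_of_isLimit p.sch _ p.isLimit

/-- The structure maps of the system. -/
noncomputable def hom' : p.sch ⟶ (Functor.const p.I).obj X where
  app i := (p.D.obj i).hom
  naturality i j a := (MorphismProperty.Over.w (p.D.map a)).trans (Category.comp_id _).symm

/-- Maps to etale objects factor through the system. -/
theorem exists_factor {E : X.Etale} (a : U ⟶ (ProEtS.eps X).obj E) :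
    ∃ (i : p.I) (g : p.D.obj i ⟶ E), p.π.app i ≫ (ProEtS.eps X).map g = a := by
  let f : E.left ⟶ X := E.hom
  haveI : Etale f := E.prop
  haveI : ∀ i, CompactSpace ↥(p.sch.obj i) := fun i => inferInstance
  haveI : ∀ i, QuasiSeparatedSpace ↥(p.sch.obj i) := fun i => inferInstance
  obtain ⟨i, g, hg, hg'⟩ := Scheme.exists_π_app_comp_eq_of_locallyOfFinitePresentation p.sch p.hom' f
    _ p.isLimit a.left (by
      ext i
      exact (MorphismProperty.Over.w (p.π.app i)).trans (MorphismProperty.Over.w a).symm)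
  exact ⟨i, MorphismProperty.Over.homMk g hg', MorphismProperty.Over.Hom.ext hg⟩

/-- Maps to etale objects agreeing on the limit agree at a finite stage. -/
theorem exists_eq {i : p.I} {E : X.Etale} (g g' : p.D.obj i ⟶ E)
    (h : p.π.app i ≫ (ProEtS.eps X).map g = p.π.app i ≫ (ProEtS.eps X).map g') :
    ∃ (k : p.I) (a : k ⟶ i), p.D.map a ≫ g = p.D.map a ≫ g' := by
  let f : E.left ⟶ X := E.hom
  haveI : Etale f := E.prop
  haveI : ∀ i, CompactSpace ↥(p.sch.obj i) := fun i => inferInstance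
  obtain ⟨k, a, ha⟩ := Scheme.exists_hom_comp_eq_comp_of_locallyOfFiniteType p.sch p.hom' f _
    p.isLimit (i := i) g.left g'.left (MorphismProperty.Over.w g).symm (MorphismProperty.Over.w g').symm
    (congrArg (fun φ : U ⟶ (ProEtS.eps X).obj E => φ.left) h)
  exact ⟨k, a, MorphismProperty.Over.Hom.ext ha⟩

end Pres

section Morphism

variable {P U : X.ProEt} {c : P ⟶ U} (pP : Pres P) (pU : Pres U)

/-- Finite stages of a morphism. -/
structure Stage (c : P ⟶ U) (pP : Pres P) (pU : Pres U) where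
  /-- the stage of the source -/
  k : pP.I
  /-- the stage of the target -/
  i : pU.I
  /-- the map -/
  h : pP.D.obj k ⟶ pU.D.obj i
  w : pP.π.app k ≫ (ProEtS.eps X).map h = c ≫ pU.π.app i

variable {pP pU}

/-- Maps of stages. -/
@[ext]
structure Stage.Hom (o o' : Stage c pP pU) where
  /-- on the source -/
  a : o.k ⟶ o'.k
  /-- on the target -/
  b : o.i ⟶ o'.i
  comm : pP.D.map a ≫ o'.h = o.h ≫ pU.D.map b

instance : SmallCategory (Stage c pP pU) where
  Hom := Stage.Hom
  id o := ⟨𝟙 _, 𝟙 _, by rw [pP.D.map_id, pU.D.map_id, Category.id_comp, Category.comp_id]⟩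
  comp f g := ⟨f.a ≫ g.a, f.b ≫ g.b, by
    rw [pP.D.map_comp, pU.D.map_comp, Category.assoc, g.comm, ← Category.assoc, f.comm, Category.assoc]⟩
  id_comp f := Stage.Hom.ext (Category.id_comp _) (Category.id_comp _)
  comp_id f := Stage.Hom.ext (Category.comp_id _) (Category.comp_id _)
  assoc f g h := Stage.Hom.ext (Category.assoc _ _ _) (Category.assoc _ _ _)

lemma Stage.hom_ext {o o' : Stage c pP pU} {f g : o ⟶ o'} (ha : f.a = g.a) (hb : f.b = g.b) : f = g :=
  Stage.Hom.ext ha hb

variable (c pP pU) in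
lemma exists_stage (i : pU.I) (k₀ : pP.I) :
    ∃ (k : pP.I) (_ : k ⟶ k₀) (h : pP.D.obj k ⟶ pU.D.obj i),
      pP.π.app k ≫ (ProEtS.eps X).map h = c ≫ pU.π.app i := by
  obtain ⟨k, h, hh⟩ := pP.exists_factor (c ≫ pU.π.app i)
  refine ⟨IsCofiltered.min k k₀, IsCofiltered.minToRight k k₀,
    pP.D.map (IsCofiltered.minToLeft k k₀) ≫ h, ?_⟩
  rw [Functor.map_comp, ← Category.assoc, pP.π_w, hh]

lemma exists_commute (o : Stage c pP pU) {k : pP.I} {i : pU.I} (h : pP.D.obj k ⟶ pU.D.obj i)
    (w : pP.π.app k ≫ (ProEtS.eps X).map h = c ≫ pU.π.app i) (a : k ⟶ o.k) (b : i ⟶ o.i) :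
    ∃ (k' : pP.I) (s : k' ⟶ k), pP.D.map (s ≫ a) ≫ o.h = (pP.D.map s ≫ h) ≫ pU.D.map b := by
  obtain ⟨k', s, hs⟩ := pP.exists_eq (pP.D.map a ≫ o.h) (h ≫ pU.D.map b) (by
    rw [Functor.map_comp, Functor.map_comp, ← Category.assoc, pP.π_w, o.w, ← Category.assoc, w,
      Category.assoc, pU.π_w])
  refine ⟨k', s, ?_⟩
  rw [pP.D.map_comp, Category.assoc, hs, Category.assoc]

/-- Stages below a given map. -/
noncomputable def stageOf {k k' : pP.I} {i : pU.I} (h : pP.D.obj k ⟶ pU.D.obj i)
    (w : pP.π.app k ≫ (ProEtS.eps X).map h = c ≫ pU.π.app i) (s : k' ⟶ k) : Stage c pP pU :=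
  ⟨k', i, pP.D.map s ≫ h, by rw [Functor.map_comp, ← Category.assoc, pP.π_w, w]⟩

variable (c pP pU) in
lemma isCofiltered_stage : IsCofiltered (Stage c pP pU) := by
  have : IsCofilteredOrEmpty (Stage c pP pU) := by
    refine ⟨fun o₁ o₂ => ?_, fun o o' f g => ?_⟩
    · let i := IsCofiltered.min o₁.i o₂.i
      obtain ⟨k, t, h, w⟩ := exists_stage c pP pU i (IsCofiltered.min o₁.k o₂.k)
      obtain ⟨k₁, s₁, hs₁⟩ := exists_commute o₁ h w (t ≫ IsCofiltered.minToLeft o₁.k o₂.k)
        (IsCofiltered.minToLeft o₁.i o₂.i)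
      let o₃ := stageOf h w s₁
      obtain ⟨k₂, s₂, hs₂⟩ := exists_commute o₂ o₃.h o₃.w (s₁ ≫ t ≫ IsCofiltered.minToRight o₁.k o₂.k)
        (IsCofiltered.minToRight o₁.i o₂.i)
      refine ⟨stageOf o₃.h o₃.w s₂,
        ⟨s₂ ≫ s₁ ≫ t ≫ IsCofiltered.minToLeft o₁.k o₂.k, IsCofiltered.minToLeft o₁.i o₂.i, ?_⟩,
        ⟨s₂ ≫ s₁ ≫ t ≫ IsCofiltered.minToRight o₁.k o₂.k, IsCofiltered.minToRight o₁.i o₂.i, hs₂⟩,
        trivial⟩
      exact (congrArg (· ≫ o₁.h) (pP.D.map_comp s₂ _)).trans ((Category.assoc _ _ _).trans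
        ((congrArg (pP.D.map s₂ ≫ ·) hs₁).trans (Category.assoc _ _ _).symm))
    · let i := IsCofiltered.eq f.b g.b
      let b : i ⟶ o.i := IsCofiltered.eqHom f.b g.b
      obtain ⟨k, t, h, w⟩ := exists_stage c pP pU i (IsCofiltered.eq f.a g.a)
      obtain ⟨k₁, s₁, hs₁⟩ := exists_commute o h w (t ≫ IsCofiltered.eqHom f.a g.a) b
      refine ⟨stageOf h w s₁, ⟨s₁ ≫ t ≫ IsCofiltered.eqHom f.a g.a, b, hs₁⟩,
        Stage.hom_ext ?_ (IsCofiltered.eq_condition f.b g.b)⟩
      change (s₁ ≫ t ≫ IsCofiltered.eqHom f.a g.a) ≫ f.a = (s₁ ≫ t ≫ IsCofiltered.eqHom f.a g.a) ≫ g.a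
      simp only [Category.assoc, IsCofiltered.eq_condition f.a g.a]
  obtain ⟨i⟩ := IsCofiltered.nonempty (C := pU.I)
  obtain ⟨k₀⟩ := IsCofiltered.nonempty (C := pP.I)
  obtain ⟨k, -, h, w⟩ := exists_stage c pP pU i k₀
  exact { nonempty := ⟨⟨k, i, h, w⟩⟩ }

instance : IsCofiltered (Stage c pP pU) := isCofiltered_stage c pP pU

variable (c pP pU)

/-- The source projection. -/
def projK : Stage c pP pU ⥤ pP.I where
  obj o := o.k
  map f := f.a

/-- The target projection. -/
def projI : Stage c pP pU ⥤ pU.I where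
  obj o := o.i
  map f := f.b

instance initial_projK : (projK c pP pU).Initial := by
  refine Functor.initial_of_exists_of_isCofiltered _ (fun k₀ => ?_) fun {k₀ o} s s' => ?_
  · obtain ⟨i⟩ := IsCofiltered.nonempty (C := pU.I)
    obtain ⟨k, t, h, w⟩ := exists_stage c pP pU i k₀
    exact ⟨⟨k, i, h, w⟩, ⟨t⟩⟩
  · refine ⟨stageOf o.h o.w (IsCofiltered.eqHom s s'), ⟨IsCofiltered.eqHom s s', 𝟙 _, ?_⟩, ?_⟩
    · simp [stageOf]
    · exact IsCofiltered.eq_condition s s'

instance initial_projI : (projI c pP pU).Initial := by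
  refine Functor.initial_of_exists_of_isCofiltered _ (fun i => ?_) fun {i₀ o} s s' => ?_
  · obtain ⟨k₀⟩ := IsCofiltered.nonempty (C := pP.I)
    obtain ⟨k, -, h, w⟩ := exists_stage c pP pU i k₀
    exact ⟨⟨k, i, h, w⟩, ⟨𝟙 _⟩⟩
  · let i := IsCofiltered.eq s s'
    obtain ⟨k, t, h, w⟩ := exists_stage c pP pU i o.k
    obtain ⟨k₁, s₁, hs₁⟩ := exists_commute o h w t (IsCofiltered.eqHom s s')
    exact ⟨stageOf h w s₁, ⟨s₁ ≫ t, IsCofiltered.eqHom s s', hs₁⟩, IsCofiltered.eq_condition s s'⟩

variable {c pP pU}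

/-- The map of fibre powers for a map of stages. -/
noncomputable def powMap (n : ℕ) {o o' : Stage c pP pU} (f : o ⟶ o') : obj o.h n ⟶ obj o'.h n :=
  (isUniv n (tupMap (pP.D.map f.a) (pU.D.map f.b) f.comm (univ o.h n))).choose

lemma powMap_spec (n : ℕ) {o o' : Stage c pP pU} (f : o ⟶ o') (a : Fin (n + 1)) :
    powMap n f ≫ (univ o'.h n).1 a = (univ o.h n).1 a ≫ pP.D.map f.a :=
  congrArg (fun t => t.1 a)
    (isUniv n (tupMap (pP.D.map f.a) (pU.D.map f.b) f.comm (univ o.h n))).choose_spec.1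

/-- Maps into fibre powers agree if their coordinates do. -/
lemma pow_hom_ext (n : ℕ) {E E' : X.Etale} (h : E ⟶ E') {W : X.Etale} {g g' : W ⟶ obj h n}
    (e : ∀ a, g ≫ (univ h n).1 a = g' ≫ (univ h n).1 a) : g = g' :=
  (isUniv n (res g' (univ h n))).unique (Subtype.ext (funext e)) rfl

variable (c pP pU)

/-- The system of fibre powers. -/
noncomputable def powD (n : ℕ) : Stage c pP pU ⥤ X.Etale where
  obj o := obj o.h n
  map f := powMap n f
  map_id o := pow_hom_ext n o.h fun a => by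
    rw [powMap_spec, Category.id_comp]
    exact (congrArg (_ ≫ ·) (pP.D.map_id _)).trans (Category.comp_id _)
  map_comp {o o' o''} f g := pow_hom_ext n o''.h fun a => by
    rw [powMap_spec, Category.assoc, powMap_spec, ← Category.assoc, powMap_spec, Category.assoc]
    exact congrArg (_ ≫ ·) (pP.D.map_comp _ _)

/-- The projection of the fibre power to a stage. -/
noncomputable def powπ (n : ℕ) (o : Stage c pP pU) : obj c n ⟶ (ProEtS.eps X).obj (obj o.h n) :=
  (isUniv_map (ProEtS.eps X) n (c := o.h) (tupMap (pP.π.app o.k) (pU.π.app o.i) o.w (univ c n))).choose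

lemma powπ_res (n : ℕ) (o : Stage c pP pU) :
    res (powπ c pP pU n o) (mapTup (ProEtS.eps X) (univ o.h n)) =
      tupMap (pP.π.app o.k) (pU.π.app o.i) o.w (univ c n) :=
  (isUniv_map (ProEtS.eps X) n (c := o.h)
    (tupMap (pP.π.app o.k) (pU.π.app o.i) o.w (univ c n))).choose_spec.1

lemma powπ_spec (n : ℕ) (o : Stage c pP pU) (a : Fin (n + 1)) :
    powπ c pP pU n o ≫ (ProEtS.eps X).map ((univ o.h n).1 a) = (univ c n).1 a ≫ pP.π.app o.k :=
  congrArg (fun t => t.1 a) (powπ_res c pP pU n o)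

lemma eps_pow_hom_ext (n : ℕ) {E E' : X.Etale} (h : E ⟶ E') {W : X.ProEt}
    {g g' : W ⟶ (ProEtS.eps X).obj (obj h n)}
    (e : ∀ a, g ≫ (ProEtS.eps X).map ((univ h n).1 a) = g' ≫ (ProEtS.eps X).map ((univ h n).1 a)) :
    g = g' :=
  (isUniv_map (ProEtS.eps X) n (res g' (mapTup (ProEtS.eps X) (univ h n)))).unique
    (Subtype.ext (funext e)) rfl

lemma powπ_w (n : ℕ) {o o' : Stage c pP pU} (f : o ⟶ o') :
    powπ c pP pU n o ≫ (ProEtS.eps X).map (powMap n f) = powπ c pP pU n o' :=
  eps_pow_hom_ext n o'.h fun a => by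
    rw [Category.assoc, ← Functor.map_comp, powMap_spec, Functor.map_comp, ← Category.assoc,
      powπ_spec, Category.assoc, pP.π_w, powπ_spec]

/-- The projections as a natural transformation. -/
noncomputable def powNat (n : ℕ) :
    (Functor.const (Stage c pP pU)).obj (obj c n) ⟶ powD c pP pU n ⋙ ProEtS.eps X where
  app o := powπ c pP pU n o
  naturality o o' f := (Category.id_comp _).trans (powπ_w c pP pU n f).symm

lemma qcqs_pow (n : ℕ) (o : Stage c pP pU) :
    CompactSpace ↥(obj o.h n).left ∧ QuasiSeparatedSpace ↥(obj o.h n).left := by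
  induction n with
  | zero => exact ⟨pP.qc o.k, pP.qs o.k⟩
  | succ n ih =>
    have hsq := (IsPullback.of_hasPullback o.h ((univ o.h n).1 0 ≫ o.h)).map
      (MorphismProperty.Over.forget EtCoh.etaleMP.{u} ⊤ X ⋙ Over.forget X)
    haveI : CompactSpace ↥(pP.D.obj o.k).left := pP.qc o.k
    haveI : QuasiSeparatedSpace ↥(pP.D.obj o.k).left := pP.qs o.k
    haveI : QuasiSeparatedSpace ↥(pU.D.obj o.i).left := pU.qs o.i
    haveI : CompactSpace ↥(obj o.h n).left := ih.1
    haveI : QuasiSeparatedSpace ↥(obj o.h n).left := ih.2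
    let a : (pP.D.obj o.k).left ⟶ (pU.D.obj o.i).left := o.h.left
    haveI : QuasiCompact a := quasiCompact_of_compactSpace a
    haveI : QuasiSeparated a := QuasiSeparated.of_quasiSeparatedSpace a
    let s : (obj o.h (n + 1)).left ⟶ (obj o.h n).left :=
      (pullback.snd o.h ((univ o.h n).1 0 ≫ o.h)).left
    haveI h₁ : QuasiCompact s :=
      MorphismProperty.of_isPullback (P := @QuasiCompact) hsq (inferInstance : QuasiCompact a)
    haveI h₂ : QuasiSeparated s :=
      MorphismProperty.of_isPullback (P := @QuasiSeparated) hsq (inferInstance : QuasiSeparated a)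
    exact ⟨@QuasiCompact.compactSpace_of_compactSpace _ _ s h₁ ih.1,
      @quasiSeparatedSpace_of_quasiSeparated _ _ s ih.2 h₂⟩

lemma isAffineHom_powMap (n : ℕ) {o o' : Stage c pP pU} (f : o ⟶ o') :
    IsAffineHom (powMap n f).left := by
  induction n with
  | zero =>
    have h' : powMap 0 f = pP.D.map f.a :=
      ((Category.comp_id _).symm.trans (powMap_spec 0 f 0)).trans (Category.id_comp _)
    rw [h']
    exact pP.affHom f.a
  | succ n ih =>
    let F := MorphismProperty.Over.forget EtCoh.etaleMP.{u} ⊤ X ⋙ Over.forget X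
    have hp := (IsPullback.of_hasPullback o.h ((univ o.h n).1 0 ≫ o.h)).map F
    have hp' := (IsPullback.of_hasPullback o'.h ((univ o'.h n).1 0 ≫ o'.h)).map F
    have h₁ : powMap (n + 1) f ≫ pullback.fst o'.h ((univ o'.h n).1 0 ≫ o'.h) =
        pullback.fst o.h ((univ o.h n).1 0 ≫ o.h) ≫ pP.D.map f.a := powMap_spec (n + 1) f 0
    have h₂ : powMap (n + 1) f ≫ pullback.snd o'.h ((univ o'.h n).1 0 ≫ o'.h) =
        pullback.snd o.h ((univ o.h n).1 0 ≫ o.h) ≫ powMap n f := pow_hom_ext n o'.h fun a => by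
      refine (Category.assoc _ _ _).trans ((powMap_spec (n + 1) f a.succ).trans ?_)
      exact (Category.assoc _ _ _).trans ((congrArg (_ ≫ ·) (powMap_spec n f a).symm).trans
        (Category.assoc _ _ _).symm)
    let sb : (pU.D.obj o.i).left ⟶ (pU.D.obj o'.i).left := (pU.D.map f.b).left
    haveI : IsAffineHom sb := pU.affHom f.b
    have h₃ : ((univ o.h n).1 0 ≫ o.h) ≫ pU.D.map f.b =
        powMap n f ≫ (univ o'.h n).1 0 ≫ o'.h := by
      rw [Category.assoc, ← f.comm, ← Category.assoc, ← powMap_spec, Category.assoc]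
    haveI : IsSeparated sb := inferInstance
    exact @isAffineHom_of_isPullback _ _ _ _ _ _ _ _ _ _ _ _ _ _ _ _ hp hp' (powMap (n + 1) f).left sb
      (inferInstance : IsSeparated sb) _ _
      (congrArg (fun φ => F.map φ) h₁) (congrArg (fun φ => F.map φ) h₂)
      (congrArg (fun φ => F.map φ) f.comm).symm (congrArg (fun φ => F.map φ) h₃)
      (pP.affHom f.a) ih

/-- The fibre powers are limits. -/
noncomputable def isLimitPow : ∀ n : ℕ,
    IsLimit ((Scheme.ProEt.forget X ⋙ Over.forget X).mapCone ⟨obj c n, powNat c pP pU n⟩)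
  | 0 => by
    let L := (Functor.Initial.isLimitWhiskerEquiv (projK c pP pU) _).symm pP.isLimit
    let α : (powD c pP pU 0 ⋙ ProEtS.eps X) ⋙ Scheme.ProEt.forget X ⋙ Over.forget X ≅
        projK c pP pU ⋙ pP.sch :=
      NatIso.ofComponents (fun o => Iso.refl _) fun {o o'} f => by
        have h := powMap_spec 0 f 0
        have h' : powMap 0 f = pP.D.map f.a :=
          ((Category.comp_id _).symm.trans h).trans (Category.id_comp _)
        exact (Category.comp_id _).trans (((congrArg (fun φ : pP.D.obj o.k ⟶ pP.D.obj o'.k => φ.left) h').trans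
          rfl).trans (Category.id_comp _).symm)
    refine ((IsLimit.postcomposeInvEquiv α _).symm L).ofIsoLimit (Cone.ext (Iso.refl _) fun o => ?_)
    have h := powπ_spec c pP pU 0 o 0
    have h' : powπ c pP pU 0 o = pP.π.app o.k :=
      ((((congrArg (powπ c pP pU 0 o ≫ ·) ((ProEtS.eps X).map_id _)).trans (Category.comp_id _)).symm).trans h).trans
        (Category.id_comp _)
    exact (Category.comp_id _).trans
      ((congrArg (fun φ : P ⟶ (ProEtS.eps X).obj (pP.D.obj o.k) => φ.left) h'.symm).trans (Category.id_comp _).symm)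
  | n + 1 => by
    let F := Scheme.ProEt.forget X ⋙ Over.forget X
    have hVn := isLimitPow n
    have hPK := (Functor.Initial.isLimitWhiskerEquiv (projK c pP pU) _).symm pP.isLimit
    have hUI := (Functor.Initial.isLimitWhiskerEquiv (projI c pP pU) _).symm pU.isLimit
    let r : obj c n ⟶ U := (univ c n).1 0 ≫ c
    let r' : ∀ o : Stage c pP pU, obj o.h n ⟶ pU.D.obj o.i := fun o => (univ o.h n).1 0 ≫ o.h
    let f₁ : ∀ o : Stage c pP pU, obj o.h (n + 1) ⟶ pP.D.obj o.k := fun o =>
      pullback.fst o.h (r' o)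
    let f₂ : ∀ o : Stage c pP pU, obj o.h (n + 1) ⟶ obj o.h n := fun o => pullback.snd o.h (r' o)
    have hm₁ : ∀ {o o' : Stage c pP pU} (f : o ⟶ o'),
        powMap (n + 1) f ≫ f₁ o' = f₁ o ≫ pP.D.map f.a := fun f => powMap_spec (n + 1) f 0
    have hm₂ : ∀ {o o' : Stage c pP pU} (f : o ⟶ o'),
        powMap (n + 1) f ≫ f₂ o' = f₂ o ≫ powMap n f := fun {o o'} f => pow_hom_ext n o'.h fun a => by
      rw [Category.assoc, Category.assoc, powMap_spec, ← Category.assoc]
      exact (powMap_spec (n + 1) f a.succ)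
    have hp₁ : ∀ o, powπ c pP pU (n + 1) o ≫ (ProEtS.eps X).map (f₁ o) =
        pullback.fst c r ≫ pP.π.app o.k := fun o => powπ_spec c pP pU (n + 1) o 0
    have hp₂ : ∀ o, powπ c pP pU (n + 1) o ≫ (ProEtS.eps X).map (f₂ o) =
        pullback.snd c r ≫ powπ c pP pU n o := fun o => eps_pow_hom_ext n o.h fun a =>
      (Category.assoc _ _ _).trans
        ((congrArg (powπ c pP pU (n + 1) o ≫ ·) ((ProEtS.eps X).map_comp (f₂ o) _).symm).trans
          ((powπ_spec c pP pU (n + 1) o a.succ).trans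
            ((Category.assoc _ _ _).trans
              ((congrArg (pullback.snd c r ≫ ·) (powπ_spec c pP pU n o a).symm).trans
                (Category.assoc _ _ _).symm))))
    have hsq : IsPullback (pullback.fst c r).left (pullback.snd c r).left c.left r.left :=
      EpsColimit.isPullback_left c r
    have hsq' : ∀ o, IsPullback (f₁ o).left (f₂ o).left o.h.left (r' o).left := fun o =>
      (IsPullback.of_hasPullback o.h (r' o)).map
        (MorphismProperty.Over.forget EtCoh.etaleMP.{u} ⊤ X ⋙ Over.forget X)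
    have hr : ∀ o, r ≫ pU.π.app o.i = powπ c pP pU n o ≫ (ProEtS.eps X).map (r' o) := fun o => by
      rw [Functor.map_comp, ← Category.assoc, powπ_spec, Category.assoc, Category.assoc, o.w]
    let s₁ : Cone ((powD c pP pU (n + 1) ⋙ ProEtS.eps X) ⋙ F) →
        Cone (projK c pP pU ⋙ pP.sch) := fun s =>
      { pt := s.pt
        π := { app := fun o => s.π.app o ≫ (f₁ o).left
               naturality := fun o o' f => (Category.id_comp _).trans (by
                 rw [← s.w f, Category.assoc, Category.assoc]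
                 exact congrArg (fun φ : obj o.h (n + 1) ⟶ pP.D.obj o'.k => s.π.app o ≫ φ.left) (hm₁ f)) } }
    let s₂ : Cone ((powD c pP pU (n + 1) ⋙ ProEtS.eps X) ⋙ F) →
        Cone ((powD c pP pU n ⋙ ProEtS.eps X) ⋙ F) := fun s =>
      { pt := s.pt
        π := { app := fun o => s.π.app o ≫ (f₂ o).left
               naturality := fun o o' f => (Category.id_comp _).trans (by
                 rw [← s.w f, Category.assoc, Category.assoc]
                 exact congrArg (fun φ : obj o.h (n + 1) ⟶ obj o'.h n => s.π.app o ≫ φ.left) (hm₂ f)) } }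
    have hc₁ : ∀ (s : Cone ((powD c pP pU (n + 1) ⋙ ProEtS.eps X) ⋙ F)) o,
        hPK.lift (s₁ s) ≫ (pP.π.app o.k).left = s.π.app o ≫ (f₁ o).left := fun s o => hPK.fac (s₁ s) o
    have hc₂ : ∀ (s : Cone ((powD c pP pU (n + 1) ⋙ ProEtS.eps X) ⋙ F)) o,
        hVn.lift (s₂ s) ≫ (powπ c pP pU n o).left = s.π.app o ≫ (f₂ o).left := fun s o => hVn.fac (s₂ s) o
    have hcond : ∀ s, hPK.lift (s₁ s) ≫ c.left = hVn.lift (s₂ s) ≫ r.left := fun s => hUI.hom_ext fun o => by
      have k₁ : c.left ≫ (pU.π.app o.i).left = (pP.π.app o.k).left ≫ o.h.left :=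
        congrArg (fun φ : P ⟶ (ProEtS.eps X).obj (pU.D.obj o.i) => φ.left) o.w.symm
      have k₂ : r.left ≫ (pU.π.app o.i).left = (powπ c pP pU n o).left ≫ (r' o).left :=
        congrArg (fun φ : obj c n ⟶ (ProEtS.eps X).obj (pU.D.obj o.i) => φ.left) (hr o)
      refine (Category.assoc _ _ _).trans ((congrArg (hPK.lift (s₁ s) ≫ ·) k₁).trans ?_)
      refine ((Category.assoc _ _ _).symm.trans (congrArg (· ≫ o.h.left) (hc₁ s o))).trans ?_
      refine ((Category.assoc _ _ _).trans (congrArg (s.π.app o ≫ ·) (hsq' o).w)).trans ?_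
      refine ((Category.assoc _ _ _).symm.trans (congrArg (· ≫ (r' o).left) (hc₂ s o).symm)).trans ?_
      exact (Category.assoc _ _ _).trans ((congrArg (hVn.lift (s₂ s) ≫ ·) k₂.symm).trans (Category.assoc _ _ _).symm)
    have e₁ : ∀ o, (powπ c pP pU (n + 1) o).left ≫ (f₁ o).left =
        (pullback.fst c r).left ≫ (pP.π.app o.k).left := fun o =>
      congrArg (fun φ : obj c (n + 1) ⟶ (ProEtS.eps X).obj (pP.D.obj o.k) => φ.left) (hp₁ o)
    have e₂ : ∀ o, (powπ c pP pU (n + 1) o).left ≫ (f₂ o).left =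
        (pullback.snd c r).left ≫ (powπ c pP pU n o).left := fun o =>
      congrArg (fun φ : obj c (n + 1) ⟶ (ProEtS.eps X).obj (obj o.h n) => φ.left) (hp₂ o)
    refine
      { lift := fun s => hsq.lift (hPK.lift (s₁ s)) (hVn.lift (s₂ s)) (hcond s)
        fac := fun s o => (hsq' o).hom_ext ?_ ?_
        uniq := fun s m hm => hsq.hom_ext ?_ ?_ }
    · refine (Category.assoc _ _ _).trans ((congrArg (_ ≫ ·) (e₁ o)).trans ?_)
      exact ((Category.assoc _ _ _).symm.trans
        (congrArg (· ≫ (pP.π.app o.k).left) (hsq.lift_fst _ _ _))).trans (hc₁ s o)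
    · refine (Category.assoc _ _ _).trans ((congrArg (_ ≫ ·) (e₂ o)).trans ?_)
      exact ((Category.assoc _ _ _).symm.trans
        (congrArg (· ≫ (powπ c pP pU n o).left) (hsq.lift_snd _ _ _))).trans (hc₂ s o)
    · rw [hsq.lift_fst]
      refine hPK.hom_ext fun o => ?_
      refine ((Category.assoc _ _ _).trans (congrArg (m ≫ ·) (e₁ o).symm)).trans ?_
      exact ((Category.assoc _ _ _).symm.trans (congrArg (· ≫ (f₁ o).left) (hm o))).trans (hc₁ s o).symm
    · rw [hsq.lift_snd]
      refine hVn.hom_ext fun o => ?_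
      refine ((Category.assoc _ _ _).trans (congrArg (m ≫ ·) (e₂ o).symm)).trans ?_
      exact ((Category.assoc _ _ _).symm.trans (congrArg (· ≫ (f₂ o).left) (hm o))).trans (hc₂ s o).symm

/-- The fibre powers are presented. -/
noncomputable def presPow (n : ℕ) : Pres (obj c n) where
  I := Stage c pP pU
  D := powD c pP pU n
  qc o := (qcqs_pow c pP pU n o).1
  qs o := (qcqs_pow c pP pU n o).2
  affHom f := isAffineHom_powMap c pP pU n f
  π := powNat c pP pU n
  isLimit := isLimitPow c pP pU n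

end Morphism

end Groth.Agent.Lib.ProEt.EtPres
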