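import Groth.Agent.Lib.ProEt.Exact
import Groth.Agent.Lib.ProEt.Continuity
import Groth.Agent.Lib.WLocal.Finite
import Mathlib.AlgebraicGeometry.Morphisms.Finite
import Mathlib.AlgebraicGeometry.Morphisms.FinitePresentation

/-!
Pushforward along finite morphisms of finite presentation.
-/

set_option autoImplicit false

universe u

open CategoryTheory CategoryTheory.Limits AlgebraicGeometry Opposite

namespace Groth.Agent.Lib.ProEt.FinitePush

set_option backward.isDefEq.respectTransparency.types false

variable {Z X : Scheme.{u}}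

/-- If base change preserves weakly contractible affine objects, pushforward is exact. -/
theorem exact_of_isWC (f : Z ⟶ X) [ProEtS.PCont f]
    (h : ∀ (V : X.ProEt) [IsAffine V.left], EtPBC.IsWContractible ↥Γ(V.left, ⊤) →
      ProEtS.IsWC ((ProEtS.bcP f).obj V)) :
    PreservesFiniteLimits (ProEtS.pushP f) ∧ PreservesFiniteColimits (ProEtS.pushP f) := by
  haveI : PreservesLimitsOfSize.{0, 0} (ProEtS.pushP f) :=
    (ProEtS.pullPushAdjP f).rightAdjoint_preservesLimits
  haveI : PreservesFiniteLimits (ProEtS.pushP f) :=
    PreservesLimitsOfSize.preservesFiniteLimits _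
  refine ⟨inferInstance, Exact.preservesFiniteColimits_of_epi _ fun φ _ => ?_⟩
  refine Exact.epi_of_surjective _ fun V _ hV => ?_
  exact Exact.surjective_of_epi φ (h V hV)

/-- Base change of an affine w-contractible object along a finite morphism of finite presentation. -/
theorem isWC_bcP (f : Z ⟶ X) [IsFinite f] [LocallyOfFinitePresentation f] (V : X.ProEt)
    [IsAffine V.left] (hV : EtPBC.IsWContractible ↥Γ(V.left, ⊤)) :
    ProEtS.IsWC ((ProEtS.bcP f).obj V) := by
  let p : pullback V.hom f ⟶ V.left := pullback.fst V.hom f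
  haveI : IsFinite p := inferInstance
  haveI : LocallyOfFinitePresentation p := inferInstance
  haveI : IsAffine (pullback V.hom f) := isAffine_of_isAffineHom p
  haveI : IsAffine ((ProEtS.bcP f).obj V).left := (inferInstance : IsAffine (pullback V.hom f))
  letI : Algebra ↥Γ(V.left, ⊤) ↥Γ(pullback V.hom f, ⊤) := p.appTop.hom.toAlgebra
  haveI : Module.Finite ↥Γ(V.left, ⊤) ↥Γ(pullback V.hom f, ⊤) :=
    RingHom.finite_algebraMap.mp (HasAffineProperty.iff_of_isAffine.mp
      (inferInstance : IsFinite p)).2
  haveI : Algebra.FinitePresentation ↥Γ(V.left, ⊤) ↥Γ(pullback V.hom f, ⊤) :=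
    (RingHom.finitePresentation_algebraMap).mp
      (HasRingHomProperty.appTop (P := @LocallyOfFinitePresentation) p inferInstance)
  have hB : EtPBC.IsWContractible ↥Γ(pullback V.hom f, ⊤) := WLocal.Finite.isWContractible hV
  exact (Criterion.isWContractible_iff_isWC ((ProEtS.bcP f).obj V)).mp hB

end Groth.Agent.Lib.ProEt.FinitePush
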