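import Groth.Agent.Lib.ProEt.Basic
import Groth.Agent.Lib.WLocal.RetractLoc
import Mathlib.AlgebraicGeometry.Morphisms.UniversallyOpen
import Mathlib.CategoryTheory.Sites.Subsheaf

/-!
Extension by zero vanishes on affine objects concentrated near the complement.
-/

set_option autoImplicit false

universe u

open CategoryTheory CategoryTheory.Limits AlgebraicGeometry Opposite

namespace Groth.Agent.Lib.ProEt.Good

set_option backward.isDefEq.respectTransparency.types false

variable {X : Scheme.{u}} (Z₀ : Set X)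

/-- Affine objects all of whose points specialise to a point over `Z₀`. -/
def IsGood (V : X.ProEt) : Prop :=
  IsAffine V.left ∧ ∀ v : ↥V.left, ∃ z : ↥V.left, V.hom.base z ∈ Z₀ ∧ v ⤳ z

/-- Localising an affine object along the points over a closed set. -/
theorem exists_good_loc (hZ : IsClosed Z₀) (P : X.ProEt) [IsAffine P.left] :
    ∃ (Q : X.ProEt) (q : Q ⟶ P), IsGood Z₀ Q ∧
      ∀ x y : ↥P.left, P.hom.base y ∈ Z₀ → x ⤳ y → x ∈ Set.range q.left.base := by
  let B : CommRingCat.{u} := Γ(P.left, ⊤)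
  let e := P.left.isoSpec
  let Z' : Set (Spec B) := (e.inv ≫ P.hom).base ⁻¹' Z₀
  obtain ⟨I, hI⟩ : ∃ I : Ideal B, Z' = PrimeSpectrum.zeroLocus (I : Set B) :=
    (PrimeSpectrum.isClosed_iff_zeroLocus_ideal Z').mp (hZ.preimage (e.inv ≫ P.hom).continuous)
  let S : Submonoid B :=
    { carrier := {b | b - 1 ∈ I}
      one_mem' := by simp
      mul_mem' := fun {a b} (ha : a - 1 ∈ I) (hb : b - 1 ∈ I) => by
        change a * b - 1 ∈ I
        rw [show a * b - 1 = a * (b - 1) + (a - 1) by ring]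
        exact I.add_mem (I.mul_mem_left _ hb) ha }
  let L := Localization S
  let l : Spec (CommRingCat.of L) ⟶ Spec B := Spec.map (CommRingCat.ofHom (algebraMap B L))
  haveI : Algebra.WeaklyEtale B L := WLocal.RetractLoc.weaklyEtale_of_isLocalization L S
  haveI : WeaklyEtale l := Basic.weaklyEtale_SpecMap_iff.mpr inferInstance
  have hrange : Set.range l.base = {p : PrimeSpectrum B | Disjoint (S : Set B) p.asIdeal} :=
    PrimeSpectrum.localization_comap_range L S
  have hspec : ∀ p : Spec B, p ∈ Set.range l.base ↔ ∃ p' ∈ Z', p ⤳ p' := fun p => by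
    rw [hrange]
    constructor
    · intro (hp : Disjoint (S : Set B) p.asIdeal)
      obtain ⟨m, hm, hle⟩ := Ideal.exists_le_maximal (p.asIdeal ⊔ I) fun htop => by
        obtain ⟨a, ha, i, hi, hai⟩ := Submodule.mem_sup.mp ((Ideal.eq_top_iff_one _).mp htop)
        refine Set.disjoint_left.mp hp (show a ∈ (S : Set B) from ?_) ha
        change a - 1 ∈ I
        rw [show a - 1 = -i by linear_combination hai]
        exact I.neg_mem hi
      refine ⟨⟨m, hm.isPrime⟩, ?_, ?_⟩
      · rw [hI]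
        exact fun b hb => hle (Ideal.mem_sup_right hb)
      · exact (PrimeSpectrum.le_iff_specializes p ⟨m, hm.isPrime⟩).mp
          fun b hb => hle (Ideal.mem_sup_left hb)
    · rintro ⟨p', hp', hs⟩
      refine Set.disjoint_left.mpr fun b (hb : b - 1 ∈ I) hbp => p'.2.ne_top ?_
      have hp' : (I : Set B) ⊆ (p'.asIdeal : Set B) := hI.le hp'
      refine (Ideal.eq_top_iff_one _).mpr ?_
      have := p'.asIdeal.sub_mem ((PrimeSpectrum.le_iff_specializes p p').mpr hs hbp) (hp' hb)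
      rwa [sub_sub_cancel] at this
  let Q : X.ProEt := Scheme.ProEt.mk ((l ≫ e.inv) ≫ P.hom)
  let q : Q ⟶ P := MorphismProperty.Over.homMk (l ≫ e.inv)
  refine ⟨Q, q, ⟨(inferInstance : IsAffine (Spec (CommRingCat.of L))), fun v => ?_⟩, fun x y hy hxy => ?_⟩
  · obtain ⟨p', hp', hs⟩ := (hspec (l.base v)).mp ⟨v, rfl⟩
    obtain ⟨z, rfl⟩ := (hspec p').mpr ⟨p', hp', specializes_rfl⟩
    exact ⟨z, hp', (PrimeSpectrum.localization_comap_isEmbedding L S).isInducing.specializes_iff.mp hs⟩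
  · have hex : ∀ w : ↥P.left, e.inv.base (e.hom.base w) = w := fun w => by
      rw [← Scheme.Hom.comp_apply, Iso.hom_inv_id]
      rfl
    obtain ⟨w, hw⟩ := (hspec (e.hom.base x)).mpr ⟨e.hom.base y,
      show P.hom.base (e.inv.base (e.hom.base y)) ∈ Z₀ by rw [hex]; exact hy,
      hxy.map e.hom.continuous⟩
    refine ⟨w, ?_⟩
    change e.inv.base (l.base w) = x
    rw [hw, hex]

/-- Coverings of good objects refine to coverings by good objects. -/
theorem exists_good_cover (hZ : IsClosed Z₀) {V : X.ProEt} (hV : IsGood Z₀ V) {R : Sieve V}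
    (hR : R ∈ Scheme.ProEt.topology X V) :
    ∃ R' : Sieve V, R' ∈ Scheme.ProEt.topology X V ∧
      ∀ ⦃W : X.ProEt⦄ (h : W ⟶ V), R' h → ∃ (Q : X.ProEt) (a : W ⟶ Q) (b : Q ⟶ V),
        a ≫ b = h ∧ R b ∧ IsGood Z₀ Q := by
  haveI := hV.1
  obtain ⟨n, P, g, hP, hg, hcov⟩ := Basic.exists_finite_refinement hR
  choose Q q hQ hq using fun i => haveI := hP i; exists_good_loc Z₀ hZ (P i)
  refine ⟨Sieve.ofArrows Q (fun i => q i ≫ g i), ?_, ?_⟩
  · haveI : ∀ i, QuasiCompact (q i ≫ g i).left := fun i => by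
      haveI := (hQ i).1
      haveI : IsAffineHom (q i ≫ g i).left := inferInstance
      infer_instance
    refine Basic.ofArrows_mem _ (Set.eq_univ_of_forall fun v => Set.mem_iUnion.mpr ?_)
    obtain ⟨z, hz, hvz⟩ := hV.2 v
    obtain ⟨i, y, rfl⟩ := Set.mem_iUnion.mp (hcov.ge (Set.mem_univ z))
    haveI := Basic.weaklyEtale_left (g i)
    obtain ⟨x, hxy, rfl⟩ := Flat.generalizingMap (g i).left hvz
    obtain ⟨w, hw⟩ := hq i x y (by
      have h1 : (P i).hom = (g i).left ≫ V.hom := (MorphismProperty.Over.w (g i)).symm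
      rw [h1]
      exact hz) hxy
    exact ⟨i, w, congrArg (g i).left.base hw⟩
  · rintro W h ⟨_, a, _, ⟨i⟩, rfl⟩
    exact ⟨Q i, a, q i ≫ g i, rfl, R.downward_closed (hg i) (q i), hQ i⟩

variable (K : ProEtS.AbP X)

/-- Sections vanishing on all good objects. -/
def vanishing (V : X.ProEtᵒᵖ) : AddSubgroup (K.obj.obj V) where
  carrier := {s | ∀ (W : X.ProEt) (a : W ⟶ unop V), IsGood Z₀ W → K.obj.map a.op s = 0}
  zero_mem' W a _ := map_zero _
  add_mem' {s t} hs ht W a hW := by rw [map_add, hs W a hW, ht W a hW, add_zero]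
  neg_mem' {s} hs W a hW := by rw [map_neg, hs W a hW, neg_zero]

lemma map_mem {V V' : X.ProEtᵒᵖ} (i : V ⟶ V') {s : K.obj.obj V} (hs : s ∈ vanishing Z₀ K V) :
    K.obj.map i s ∈ vanishing Z₀ K V' := fun W a hW => by
  have h := hs W (a ≫ i.unop) hW
  rw [op_comp, Functor.map_comp] at h
  exact h

/-- The presheaf of vanishing sections. -/
noncomputable def vanishingPresheaf : X.ProEtᵒᵖ ⥤ AddCommGrpCat.{u + 1} where
  obj V := AddCommGrpCat.of (vanishing Z₀ K V)
  map {V V'} i := AddCommGrpCat.ofHom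
    (((K.obj.map i).hom.comp (vanishing Z₀ K V).subtype).codRestrict (vanishing Z₀ K V')
      fun s => map_mem Z₀ K i s.2)
  map_id V := by
    refine AddCommGrpCat.hom_ext (AddMonoidHom.ext fun s => Subtype.ext ?_)
    exact ConcreteCategory.congr_hom (K.obj.map_id V) s.1
  map_comp i j := by
    refine AddCommGrpCat.hom_ext (AddMonoidHom.ext fun s => Subtype.ext ?_)
    exact ConcreteCategory.congr_hom (K.obj.map_comp i j) s.1

theorem isSheaf_vanishing (hZ : IsClosed Z₀) :
    Presheaf.IsSheaf (Scheme.ProEt.topology X) (vanishingPresheaf Z₀ K) := by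
  let G : Subfunctor (K.obj ⋙ forget AddCommGrpCat.{u + 1}) :=
    { obj := fun V => {s | (s : K.obj.obj V) ∈ vanishing Z₀ K V}
      map := fun i s hs => map_mem Z₀ K i hs }
  have hK : Presieve.IsSheaf (Scheme.ProEt.topology X) (K.obj ⋙ forget AddCommGrpCat.{u + 1}) :=
    (isSheaf_iff_isSheaf_of_type _ _).mp
      ((Presheaf.isSheaf_iff_isSheaf_forget _ K.obj (forget AddCommGrpCat.{u + 1})).mp K.property)
  refine (Presheaf.isSheaf_iff_isSheaf_forget _ _ (forget AddCommGrpCat.{u + 1})).mpr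
    ((isSheaf_iff_isSheaf_of_type _ _).mpr (Presieve.isSheaf_iso _
      (P := G.toFunctor) (NatIso.ofComponents (fun V => Iso.refl _) fun i => rfl) ?_))
  refine (G.isSheaf_iff hK).mpr fun V s hs W a hW => ?_
  obtain ⟨R', hR', hR'g⟩ := exists_good_cover Z₀ hZ hW
    ((Scheme.ProEt.topology X).pullback_stable a hs)
  refine ((hK.isSeparated) R' hR').ext (t₁ := K.obj.map a.op s) (t₂ := (0 : K.obj.obj (op W)))
    fun W' h hh => ?_
  obtain ⟨Q, c, b, rfl, hb, hQ⟩ := hR'g h hh
  have h1 : K.obj.map (b ≫ a).op s ∈ vanishing Z₀ K (op Q) := hb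
  have h2 : K.obj.map (𝟙 Q).op (K.obj.map (b ≫ a).op s) = 0 := h1 Q (𝟙 Q) hQ
  rw [op_id, K.obj.map_id] at h2
  change K.obj.map (c ≫ b).op (K.obj.map a.op s) = K.obj.map (c ≫ b).op 0
  rw [map_zero, op_comp, Functor.map_comp]
  change K.obj.map c.op (K.obj.map b.op (K.obj.map a.op s)) = 0
  rw [← ConcreteCategory.comp_apply (K.obj.map a.op) (K.obj.map b.op), ← Functor.map_comp,
    ← op_comp]
  rw [show K.obj.map (b ≫ a).op s = 0 from h2, map_zero]

/-- The sheaf of vanishing sections. -/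
noncomputable def vanishingSheaf (hZ : IsClosed Z₀) : ProEtS.AbP X :=
  ⟨vanishingPresheaf Z₀ K, isSheaf_vanishing Z₀ K hZ⟩

/-- Its inclusion. -/
noncomputable def vanishingIncl (hZ : IsClosed Z₀) : vanishingSheaf Z₀ K hZ ⟶ K :=
  ⟨{ app := fun V => AddCommGrpCat.ofHom (vanishing Z₀ K V).subtype
     naturality := fun _ _ _ => rfl }⟩

/-- Extension by zero vanishes on good objects. -/
theorem subsingleton_extZero {U : Scheme.{u}} (j : U ⟶ X) [WeaklyEtale j] [ProEtS.JPCont j]
    (hZ : IsClosed Z₀) (hdisj : Disjoint (Set.range j.base) Z₀) (F : ProEtS.AbP U)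
    (V : X.ProEt) (hV : IsGood Z₀ V) :
    Subsingleton (ProEtS.sectP ((ProEtS.extZeroP j).obj F) V) := by
  let K := (ProEtS.extZeroP j).obj F
  let η := (ProEtS.extZeroPAdj j).unit.app F
  have hmem : ∀ (U' : U.ProEt) (s : ProEtS.sectP K ((ProEtS.compP j).obj U')),
      s ∈ vanishing Z₀ K (op ((ProEtS.compP j).obj U')) := fun U' s W a hW => by
    have : IsEmpty W.left := ⟨fun w => by
      obtain ⟨z, hz, -⟩ := hW.2 w
      refine Set.disjoint_left.mp hdisj ⟨U'.hom.base (a.left.base z), ?_⟩ hz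
      rw [show W.hom = a.left ≫ (U'.hom ≫ j) from (MorphismProperty.Over.w a).symm]
      rfl⟩
    exact ((((isSheaf_iff_isSheaf_of_type _ _).mp
      ((Presheaf.isSheaf_iff_isSheaf_forget _ K.obj (forget AddCommGrpCat.{u + 1})).mp K.property))
      ⊥ (Scheme.ProEt.bot_mem_topology W)).isSeparatedFor).ext fun _ _ h => h.elim
  let η' : F ⟶ (ProEtS.restrP j).obj (vanishingSheaf Z₀ K hZ) :=
    ⟨{ app := fun U' => AddCommGrpCat.ofHom
        ((η.hom.app U').hom.codRestrict (vanishing Z₀ K _) fun s => hmem (unop U') _)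
       naturality := fun U₁ U₂ i => by
        ext s
        exact Subtype.ext (ConcreteCategory.congr_hom (η.hom.naturality i) s) }⟩
  let ψ : K ⟶ vanishingSheaf Z₀ K hZ :=
    ((ProEtS.extZeroPAdj j).homEquiv F (vanishingSheaf Z₀ K hZ)).symm η'
  have hψ : ψ ≫ vanishingIncl Z₀ K hZ = 𝟙 K := by
    refine ((ProEtS.extZeroPAdj j).homEquiv F K).injective ?_
    rw [Adjunction.homEquiv_naturality_right, Equiv.apply_symm_apply, Adjunction.homEquiv_id]
    ext U' s
    rfl
  have hz : ∀ s : ProEtS.sectP K V, s = 0 := fun s => by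
    have h1 : (ψ.hom.app (op V) s).1 = s :=
      ConcreteCategory.congr_hom (congrArg (fun φ => φ.hom.app (op V)) hψ) s
    have h2 := (ψ.hom.app (op V) s).2 V (𝟙 V) hV
    rw [h1, op_id, K.obj.map_id] at h2
    exact h2
  exact ⟨fun s t => (hz s).trans (hz t).symm⟩

end Groth.Agent.Lib.ProEt.Good
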