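import Groth.Agent.Lib.ProEt.WCLift
import Mathlib.CategoryTheory.Limits.Preserves.Shapes.BinaryProducts

/-!
Maps out of good w-contractible lifts.
-/

set_option autoImplicit false

universe u

open CategoryTheory CategoryTheory.Limits AlgebraicGeometry Opposite

namespace Groth.Agent.Lib.ProEt.GoodHom

set_option backward.isDefEq.respectTransparency.types false

variable {Z X : Scheme.{u}} (i : Z ⟶ X)

/-- A morphism to a good object which is surjective over the closed subscheme is surjective. -/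
theorem surjective_of_good {T T' : X.ProEt} (hT : Good.IsGood (Set.range i.base) T) (g : T' ⟶ T)
    {W : Z.ProEt} (b : W ⟶ (ProEtS.bcP i).obj T) [IsIso b] (b' : W ⟶ (ProEtS.bcP i).obj T')
    (h : b' ≫ (ProEtS.bcP i).map g = b) : Surjective g.left := by
  refine ⟨fun v => ?_⟩
  obtain ⟨z, ⟨z₀, hz⟩, hvz⟩ := hT.2 v
  obtain ⟨t, ht, -⟩ := Scheme.Pullback.exists_preimage_pullback (f := T.hom) (g := i) z z₀ hz.symm
  let w : ↥W.left := (inv b).left.base t
  have h1 : ((ProEtS.bcP i).map g).left.base (b'.left.base w) = t := by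
    have h2 := congrArg (fun φ : W ⟶ (ProEtS.bcP i).obj T => φ.left.base w) h
    exact h2.trans (congrArg (fun φ : (ProEtS.bcP i).obj T ⟶ (ProEtS.bcP i).obj T => φ.left.base t)
      (IsIso.inv_hom_id b))
  have hmap : ((ProEtS.bcP i).map g).left ≫ pullback.fst T.hom i = pullback.fst T'.hom i ≫ g.left :=
    pullback.lift_fst _ _ _
  have hz' : g.left.base ((pullback.fst T'.hom i).base (b'.left.base w)) = z := by
    exact (congrArg (fun φ => φ.base (b'.left.base w)) hmap).symm.trans
      ((congrArg (pullback.fst T.hom i).base h1).trans ht)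
  haveI := Basic.weaklyEtale_left g
  obtain ⟨x, -, hx⟩ := Flat.generalizingMap g.left (hz'.symm ▸ hvz)
  exact ⟨x, hx⟩

variable [IsClosedImmersion i]

/-- A good w-contractible lift maps to everything receiving a map from its fibre. -/
theorem exists_hom {T : X.ProEt} [IsAffine T.left] (hwc : EtPBC.IsWContractible ↥Γ(T.left, ⊤))
    (hT : Good.IsGood (Set.range i.base) T) {W : Z.ProEt} [IsAffine W.left]
    (hW : EtPBC.IsWContractible ↥Γ(W.left, ⊤))
    (b : W ⟶ (ProEtS.bcP i).obj T) [IsIso b] (V : X.ProEt) (a : W ⟶ (ProEtS.bcP i).obj V) :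
    ∃ h : T ⟶ V, b ≫ (ProEtS.bcP i).map h = a := by
  haveI := Continuity.preservesFiniteLimits_bcP i
  let c : W ⟶ (ProEtS.bcP i).obj (T ⨯ V) :=
    prod.lift b a ≫ inv (prodComparison (ProEtS.bcP i) T V)
  obtain ⟨T', hT', g, b', hb', hb'g⟩ := ClosedLift.exists_lift i (T ⨯ V) W hW c
  have hfst : b' ≫ (ProEtS.bcP i).map (g ≫ prod.fst) = b := by
    rw [Functor.map_comp, ← Category.assoc, hb'g, Category.assoc, inv_prodComparison_map_fst,
      prod.lift_fst]
  haveI := surjective_of_good i hT (g ≫ prod.fst) b b' hfst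
  haveI : IsAffineHom (g ≫ prod.fst : T' ⟶ T).left := inferInstance
  haveI : QuasiCompact (g ≫ prod.fst : T' ⟶ T).left := inferInstance
  obtain ⟨s, hs⟩ := Criterion.exists_section_of_isWC ((Criterion.isWContractible_iff_isWC T).mp hwc)
    T' (g ≫ prod.fst) (Basic.singleton_mem _)
  haveI : IsIso ((ProEtS.bcP i).map (g ≫ prod.fst)) := by
    haveI : IsIso (b' ≫ (ProEtS.bcP i).map (g ≫ prod.fst)) := hfst ▸ inferInstance
    exact IsIso.of_isIso_comp_left b' _
  have hb's : b ≫ (ProEtS.bcP i).map s = b' := by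
    rw [← cancel_mono ((ProEtS.bcP i).map (g ≫ prod.fst)), Category.assoc, ← Functor.map_comp, hs,
      CategoryTheory.Functor.map_id, Category.comp_id, hfst]
  refine ⟨s ≫ g ≫ prod.snd, ?_⟩
  rw [Functor.map_comp, Functor.map_comp, ← Category.assoc, hb's, ← Category.assoc, hb'g,
    Category.assoc, inv_prodComparison_map_snd, prod.lift_snd]

end Groth.Agent.Lib.ProEt.GoodHom
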