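import Groth.Agent.Lib.ProEt.Sheafify
import Groth.Agent.Lib.ProEt.Covers
import Groth.Agent.Lib.ProEt.Continuity
import Mathlib.CategoryTheory.Limits.Types.Filtered

/-!
The left Kan extension of a sheaf along base change turns clopen decompositions into products.
-/

set_option autoImplicit false

universe u

open CategoryTheory CategoryTheory.Limits AlgebraicGeometry Opposite

namespace Groth.Agent.Lib.ProEt.LanPieces

set_option backward.isDefEq.respectTransparency.types false

variable {X Y : Scheme.{u}} (f : X ⟶ Y) (F : Y.ProEtᵒᵖ ⥤ Type (u + 1))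

/-- The left Kan extension along base change. -/
noncomputable abbrev L : X.ProEtᵒᵖ ⥤ Type (u + 1) := (ProEtS.bcP f).op.lan.obj F

/-- The element given by a morphism and a section. -/
noncomputable def ι {U : X.ProEt} {V : Y.ProEt} (a : U ⟶ (ProEtS.bcP f).obj V)
    (x : F.obj (op V)) : (L f F).obj (op U) :=
  (L f F).map a.op (((ProEtS.bcP f).op.lanUnit.app F).app (op V) x)

lemma map_ι {U U' : X.ProEt} {V : Y.ProEt} (i : U' ⟶ U) (a : U ⟶ (ProEtS.bcP f).obj V)
    (x : F.obj (op V)) : (L f F).map i.op (ι f F a x) = ι f F (i ≫ a) x := by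
  simp only [ι, op_comp, Functor.map_comp]
  rfl

lemma ι_map {U : X.ProEt} {V V' : Y.ProEt} (h : V' ⟶ V) (b : U ⟶ (ProEtS.bcP f).obj V')
    (x : F.obj (op V)) :
    ι f F b (F.map h.op x) = ι f F (b ≫ (ProEtS.bcP f).map h) x := by
  have h1 := ConcreteCategory.congr_hom
    (((ProEtS.bcP f).op.lanUnit.app F).naturality h.op) x
  have h2 : ((ProEtS.bcP f).op.lanUnit.app F).app (op V') (F.map h.op x) =
      (L f F).map ((ProEtS.bcP f).map h).op (((ProEtS.bcP f).op.lanUnit.app F).app (op V) x) := h1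
  simp only [ι, op_comp, Functor.map_comp, h2]
  rfl

/-- The colimit description. -/
noncomputable def isColimit (U : X.ProEt) :=
  Functor.isPointwiseLeftKanExtensionLeftKanExtensionUnit (ProEtS.bcP f).op F (op U)

lemma exists_rep {U : X.ProEt} (y : (L f F).obj (op U)) :
    ∃ (V : Y.ProEt) (a : U ⟶ (ProEtS.bcP f).obj V) (x : F.obj (op V)), ι f F a x = y := by
  obtain ⟨j, x, hx⟩ := Types.jointly_surjective _ (isColimit f F U) y
  exact ⟨j.left.unop, j.hom.unop, x, hx⟩

lemma isFiltered (U : X.ProEt) : IsFiltered (CostructuredArrow (ProEtS.bcP f).op (op U)) :=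
  IsFiltered.of_equivalence (structuredArrowOpEquivalence (ProEtS.bcP f) U)

lemma exists_rep₂ {U : X.ProEt} (y y' : (L f F).obj (op U)) :
    ∃ (V : Y.ProEt) (a : U ⟶ (ProEtS.bcP f).obj V) (x x' : F.obj (op V)),
      ι f F a x = y ∧ ι f F a x' = y' := by
  have := isFiltered f U
  obtain ⟨j, x, hx⟩ := Types.jointly_surjective _ (isColimit f F U) y
  obtain ⟨j', x', hx'⟩ := Types.jointly_surjective _ (isColimit f F U) y'
  refine ⟨(IsFiltered.max j j').left.unop, (IsFiltered.max j j').hom.unop,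
    F.map (IsFiltered.leftToMax j j').left x, F.map (IsFiltered.rightToMax j j').left x', ?_, ?_⟩
  · rw [← hx]
    exact ConcreteCategory.congr_hom
      (Cocone.w ((Functor.LeftExtension.mk _ ((ProEtS.bcP f).op.leftKanExtensionUnit F)).coconeAt (op U))
        (IsFiltered.leftToMax j j')) x
  · rw [← hx']
    exact ConcreteCategory.congr_hom
      (Cocone.w ((Functor.LeftExtension.mk _ ((ProEtS.bcP f).op.leftKanExtensionUnit F)).coconeAt (op U))
        (IsFiltered.rightToMax j j')) x'

lemma exists_eq {U : X.ProEt} {V : Y.ProEt} {a : U ⟶ (ProEtS.bcP f).obj V} {x x' : F.obj (op V)}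
    (h : ι f F a x = ι f F a x') :
    ∃ (V' : Y.ProEt) (g : V' ⟶ V) (b : U ⟶ (ProEtS.bcP f).obj V'),
      b ≫ (ProEtS.bcP f).map g = a ∧ F.map g.op x = F.map g.op x' := by
  have := isFiltered f U
  obtain ⟨k, φ, hφ⟩ := (Types.FilteredColimit.isColimit_eq_iff' (isColimit f F U)
    (i := CostructuredArrow.mk (Y := op V) a.op) x x').mp h
  refine ⟨k.left.unop, φ.left.unop, k.hom.unop, ?_, hφ⟩
  exact congrArg Quiver.Hom.unop (CostructuredArrow.w φ)

/-- The left Kan extension of a sheaf turns decompositions into products. -/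
theorem splitsPieces (F : Sheaf (Scheme.ProEt.topology Y) (Type (u + 1))) (U : X.ProEt)
    [CompactSpace U.left] : Sheafify.SplitsPieces (L f F.obj) U := by
  intro n W hW hd hu t
  choose V a x hx using fun k => exists_rep f F.obj (t k)
  let P : ULift.{u} (Fin n) → Y.ProEt := fun k => V k.down
  obtain ⟨b, hb, -⟩ := Sheafify.existsUnique_desc U W hW hd hu
    (fun k => a k ≫ (ProEtS.bcP f).map (Covers.sigmaIncl P ⟨k⟩))
  obtain ⟨z, hz, -⟩ := Covers.existsUnique_glue P F (fun k => x k.down)
  refine ⟨ι f F.obj b z, fun k => ?_, fun s hs => ?_⟩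
  · rw [map_ι, hb, ← ι_map, hz ⟨k⟩]
    exact hx k
  obtain ⟨V₀, a₀, y, y', hy, hy'⟩ := exists_rep₂ f F.obj s (ι f F.obj b z)
  have heq : ∀ k, ι f F.obj (Decomp.incl U (W k) ≫ a₀) y = ι f F.obj (Decomp.incl U (W k) ≫ a₀) y' :=
    fun k => by
      rw [← map_ι, ← map_ι, hy, hy', hs k, map_ι, hb, ← ι_map, hz ⟨k⟩]
      exact (hx k).symm
  choose V' g c hc hg using fun k => exists_eq f F.obj (heq k)
  let P' : ULift.{u} (Fin n) → Y.ProEt := fun k => V' k.down
  obtain ⟨c', hc', -⟩ := Sheafify.existsUnique_desc U W hW hd hu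
    (fun k => c k ≫ (ProEtS.bcP f).map (Covers.sigmaIncl P' ⟨k⟩))
  let g' : Covers.sigmaObj P' ⟶ V₀ := Covers.sigmaDesc fun k => g k.down
  have hcg : c' ≫ (ProEtS.bcP f).map g' = a₀ := by
    refine (Sheafify.existsUnique_desc U W hW hd hu fun k => Decomp.incl U (W k) ≫ a₀).unique
      (fun k => ?_) (fun k => rfl)
    rw [← Category.assoc, hc', Category.assoc, ← Functor.map_comp, Covers.sigmaIncl_desc, hc]
  have hyy : F.obj.map g'.op y = F.obj.map g'.op y' :=
    (Covers.existsUnique_glue P' F fun k => F.obj.map (g k.down).op y).unique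
      (fun k => by
        change (F.obj.map g'.op ≫ F.obj.map (Covers.sigmaIncl P' k).op) y = _
        rw [← Functor.map_comp, ← op_comp, Covers.sigmaIncl_desc])
      (fun k => by
        change (F.obj.map g'.op ≫ F.obj.map (Covers.sigmaIncl P' k).op) y' = _
        rw [← Functor.map_comp, ← op_comp, Covers.sigmaIncl_desc]
        exact (hg k.down).symm)
  rw [← hy, ← hy', ← hcg, ← ι_map, ← ι_map, hyy]

end Groth.Agent.Lib.ProEt.LanPieces
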