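import Groth.Agent.Lib.ProEt.Recollement
import Groth.Agent.Lib.ProEt.Continuity
import Mathlib.CategoryTheory.Adjunction.Triple
import Mathlib.CategoryTheory.Monad.Adjunction

/-!
Sections of extension by zero along quasi-compact open immersions.
-/

set_option autoImplicit false

universe u

open CategoryTheory CategoryTheory.Limits AlgebraicGeometry Opposite

namespace Groth.Agent.Lib.ProEt.OpenJ

set_option backward.isDefEq.respectTransparency.types false in
lemma compP_faithful {U X : Scheme.{u}} (j : U ⟶ X) [WeaklyEtale j] : (ProEtS.compP j).Faithful where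
  map_injective {A B} a b h := by
    apply MorphismProperty.Over.Hom.ext
    exact congrArg (fun (t : (ProEtS.compP j).obj A ⟶ (ProEtS.compP j).obj B) => t.left) h

set_option backward.isDefEq.respectTransparency.types false in
lemma compP_full {U X : Scheme.{u}} (j : U ⟶ X) [WeaklyEtale j] [Mono j] : (ProEtS.compP j).Full where
  map_surjective {A B} g := by
    have hw : g.left ≫ B.hom = A.hom := by
      rw [← cancel_mono j, Category.assoc]
      exact MorphismProperty.Over.w g
    refine ⟨MorphismProperty.Over.homMk g.left hw trivial, ?_⟩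
    apply MorphismProperty.Over.Hom.ext
    rfl

set_option backward.isDefEq.respectTransparency.types false

theorem isIso_unit {U X : Scheme.{u}} (j : U ⟶ X) [IsOpenImmersion j] [ProEtS.JPCont j] :
    IsIso (ProEtS.extZeroPAdj j).unit := by
  haveI : ProEtS.PCont j := Continuity.pCont j
  have hj : WeaklyEtale j := inferInstance
  haveI hm : MorphismProperty.IsStableUnderComposition @WeaklyEtale := inferInstanceAs (MorphismProperty.IsStableUnderComposition (@WeaklyEtale.{u}))
  let adj : ProEtS.compP j ⊣ ProEtS.bcP j := MorphismProperty.Over.mapPullbackAdj @WeaklyEtale ⊤ j hj trivial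
  haveI := compP_full j
  haveI := compP_faithful j
  haveI : IsIso adj.unit := inferInstance
  let adj₂ : ProEtS.restrP j ⊣ ProEtS.pushP j :=
    adj.sheafPushforwardContinuous (E := AddCommGrpCat.{u + 1}) (Scheme.ProEt.topology U)
      (Scheme.ProEt.topology X)
  let e : ProEtS.pushP j ⋙ ProEtS.restrP j ≅ 𝟭 _ :=
    Functor.sheafPushforwardContinuousComp' (asIso adj.unit).symm _ _ _ _ ≪≫
      Functor.sheafPushforwardContinuousId _ _
  haveI : IsIso adj₂.counit := adj₂.isIso_counit_of_iso e
  haveI h1 : IsIso (ProEtS.extZeroPAdj j).unit :=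
    (Adjunction.Triple.mk (ProEtS.extZeroPAdj j) adj₂).isIso_unit_iff_isIso_counit.mpr inferInstance
  exact h1

variable {U X : Scheme.{u}} (j : U ⟶ X) [IsOpenImmersion j] [ProEtS.JPCont j]

/-- Evaluation of abelian sheaves at an object. -/
noncomputable abbrev ev {Y : Scheme.{u}} (W : Y.ProEt) : ProEtS.AbP Y ⥤ AddCommGrpCat.{u + 1} :=
  sheafToPresheaf (Scheme.ProEt.topology Y) AddCommGrpCat.{u + 1} ⋙ (evaluation _ _).obj (op W)

/-- Extension by zero does not change sections over the open. -/
noncomputable def unitAt (E : U.ProEt) : ev E ⟶ ProEtS.extZeroP j ⋙ ev ((ProEtS.compP j).obj E) :=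
  Functor.whiskerRight (ProEtS.extZeroPAdj j).unit (ev E)

theorem isIso_unitAt (E : U.ProEt) : IsIso (unitAt j E) :=
  haveI := isIso_unit j
  inferInstanceAs (IsIso (Functor.whiskerRight (ProEtS.extZeroPAdj j).unit (ev E)))

/-- Restriction to the part over the open. -/
noncomputable def restrictTo {V : X.ProEt} (S : Recollement.Splitting j V) :
    ProEtS.extZeroP j ⋙ ev V ⟶ ProEtS.extZeroP j ⋙ ev ((ProEtS.compP j).obj S.E₁) :=
  Functor.whiskerLeft (ProEtS.extZeroP j)
    { app := fun K => K.obj.map S.e₁.op
      naturality := fun _ _ φ => (φ.hom.naturality S.e₁.op).symm }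

lemma subsingleton_good {V : X.ProEt} (S : Recollement.Splitting j V) (F : ProEtS.AbP U) :
    Subsingleton (ProEtS.sectP ((ProEtS.extZeroP j).obj F) S.E₂) :=
  Good.subsingleton_extZero (Set.range j.base)ᶜ j j.isOpenEmbedding.isOpen_range.isClosed_compl
    disjoint_compl_right F S.E₂ S.isGood

theorem bijective_restrictTo {V : X.ProEt} (S : Recollement.Splitting j V) (F : ProEtS.AbP U) :
    Function.Bijective ((restrictTo j S).app F) := by
  haveI := subsingleton_good j S F
  have h := S.bijective ((ProEtS.extZeroP j).obj F)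
  refine ⟨fun s t hst => h.1 (Prod.ext hst (Subsingleton.elim _ _)), fun y => ?_⟩
  obtain ⟨s, hs⟩ := h.2 (y, 0)
  exact ⟨s, congrArg Prod.fst hs⟩

theorem isIso_restrictTo {V : X.ProEt} (S : Recollement.Splitting j V) : IsIso (restrictTo j S) :=
  haveI : ∀ F, IsIso ((restrictTo j S).app F) := fun F =>
    (ConcreteCategory.isIso_iff_bijective _).mpr (bijective_restrictTo j S F)
  NatIso.isIso_of_isIso_app _

variable [QuasiCompact j]

theorem preservesLimitsOfShape (J : Type u) [SmallCategory J] :
    PreservesLimitsOfShape J (ProEtS.extZeroP j) := by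
  haveI : HasLimitsOfSize.{u, u} AddCommGrpCat.{u + 1} := hasLimitsOfSizeShrink.{u, u, u + 1, u + 1} _
  refine ⟨fun {K} => ?_⟩
  suffices IsIso (limit.post K (ProEtS.extZeroP j)) from preservesLimit_of_isIso_post _ _
  refine Exact.isIso_of_bijective _ fun W _ hW => ?_
  obtain ⟨S⟩ := Recollement.exists_splitting j W hW
  haveI := isIso_restrictTo j S
  haveI := isIso_unitAt j S.E₁
  haveI : PreservesLimitsOfShape J (ProEtS.extZeroP j ⋙ ev ((ProEtS.compP j).obj S.E₁)) :=
    preservesLimitsOfShape_of_natIso (asIso (unitAt j S.E₁))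
  haveI : PreservesLimitsOfShape J (ProEtS.extZeroP j ⋙ ev W) :=
    preservesLimitsOfShape_of_natIso (asIso (restrictTo j S)).symm
  have h1 : (ev W).map (limit.post K (ProEtS.extZeroP j)) ≫ limit.post (K ⋙ ProEtS.extZeroP j) (ev W) =
      limit.post K (ProEtS.extZeroP j ⋙ ev W) := limit.post_post _ _ _
  haveI : IsIso ((ev W).map (limit.post K (ProEtS.extZeroP j)) ≫
      limit.post (K ⋙ ProEtS.extZeroP j) (ev W)) := by
    rw [h1]
    infer_instance
  haveI : IsIso ((ev W).map (limit.post K (ProEtS.extZeroP j))) :=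
    IsIso.of_isIso_comp_right _ (limit.post (K ⋙ ProEtS.extZeroP j) (ev W))
  exact ConcreteCategory.bijective_of_isIso ((ev W).map (limit.post K (ProEtS.extZeroP j)))

end Groth.Agent.Lib.ProEt.OpenJ
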