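import Groth.Agent.Lib.ProEt.Covers
import Groth.Agent.Lib.ProEt.Continuity
import Mathlib.CategoryTheory.Sites.Point.OfIsCofiltered
import Mathlib.CategoryTheory.Sites.Point.Conservative

/-!
Points of the pro-etale site: clopen neighbourhoods in weakly contractible affine objects.
-/

set_option autoImplicit false

universe u

open CategoryTheory CategoryTheory.Limits AlgebraicGeometry Opposite

namespace Groth.Agent.Lib.ProEt.Points

set_option backward.isDefEq.respectTransparency.types false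

variable {X : Scheme.{u}}

/-- Clopen neighbourhoods of a point. -/
def Nbhd (U : X.ProEt) (x : ↥U.left) : Type u :=
  {W : U.left.Opens // IsClopen (W : Set ↥U.left) ∧ x ∈ W}

instance (U : X.ProEt) (x : ↥U.left) : Preorder (Nbhd U x) :=
  inferInstanceAs (Preorder (Subtype _))

instance (U : X.ProEt) (x : ↥U.left) : IsCofiltered (Nbhd U x) :=
  have : Nonempty (Nbhd U x) :=
    ⟨⟨⊤, by simpa using isClopen_univ (X := ↥U.left), trivial⟩⟩
  have : IsCodirectedOrder (Nbhd U x) :=
    ⟨fun a b => ⟨⟨a.1 ⊓ b.1, a.2.1.inter b.2.1, a.2.2, b.2.2⟩,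
      show a.1 ⊓ b.1 ≤ a.1 from inf_le_left, show a.1 ⊓ b.1 ≤ b.1 from inf_le_right⟩⟩
  inferInstance

instance initiallySmall_nbhd (U : X.ProEt) (x : ↥U.left) : InitiallySmall.{u + 1} (Nbhd U x) :=
  have : LocallySmall.{u + 1} (Nbhd U x) :=
    ⟨fun a b => ⟨⟨ULift.{u + 1} (a ⟶ b), ⟨Equiv.ulift.symm⟩⟩⟩⟩
  have : Small.{u + 1} (Nbhd U x) := ⟨⟨ULift.{u + 1} (Nbhd U x), ⟨Equiv.ulift.symm⟩⟩⟩
  have : EssentiallySmall.{u + 1} (Nbhd U x) :=
    essentiallySmall_of_small_of_locallySmall (Nbhd U x)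
  initiallySmall_of_essentiallySmall _

/-- Inclusions between pieces. -/
noncomputable def pieceHom (U : X.ProEt) {V W : U.left.Opens} (h : V ≤ W) :
    Decomp.piece U V ⟶ Decomp.piece U W :=
  MorphismProperty.Over.homMk (U.left.homOfLE h) (Scheme.homOfLE_ι_assoc U.left h U.hom)

lemma pieceHom_incl (U : X.ProEt) {V W : U.left.Opens} (h : V ≤ W) :
    pieceHom U h ≫ Decomp.incl U W = Decomp.incl U V :=
  MorphismProperty.Over.Hom.ext (Scheme.homOfLE_ι U.left h)

lemma incl_cancel (U : X.ProEt) {W : U.left.Opens} {Z : X.ProEt} {a b : Z ⟶ Decomp.piece U W}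
    (h : a ≫ Decomp.incl U W = b ≫ Decomp.incl U W) : a = b :=
  MorphismProperty.Over.Hom.ext ((cancel_mono W.ι).mp (congrArg (fun φ => φ.left) h))

/-- The pieces of the clopen neighbourhoods. -/
noncomputable def nbhdFunctor (U : X.ProEt) (x : ↥U.left) : Nbhd U x ⥤ X.ProEt where
  obj W := Decomp.piece U W.1
  map f := pieceHom U (leOfHom f)
  map_id W := incl_cancel U (by rw [pieceHom_incl, Category.id_comp])
  map_comp f g := incl_cancel U (by
    rw [Category.assoc, pieceHom_incl, pieceHom_incl, pieceHom_incl])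

/-- Covering sieves of a piece can be refined near the point. -/
theorem exists_refinement (U : X.ProEt) [IsAffine U.left]
    (hU : EtPBC.IsWContractible ↥Γ(U.left, ⊤)) (x : ↥U.left) {Y₀ : X.ProEt} (R : Sieve Y₀)
    (hR : R ∈ Scheme.ProEt.topology X Y₀) (W : Nbhd U x) (f : Decomp.piece U W.1 ⟶ Y₀) :
    ∃ (Y : X.ProEt) (g : Y ⟶ Y₀) (_ : R g) (V : Nbhd U x) (q : V ⟶ W)
      (a : (nbhdFunctor U x).obj V ⟶ Y), a ≫ g = (nbhdFunctor U x).map q ≫ f := by
  let W' : U.left.Opens := ⟨(W.1 : Set ↥U.left)ᶜ, W.2.1.isClosed.isOpen_compl⟩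
  let P : Bool → U.left.Opens := fun b => if b then W.1 else W'
  have hP : Sieve.ofArrows _ (fun b => Decomp.incl U (P b)) ∈ Scheme.ProEt.topology X U :=
    Continuity.ofArrows_mem_of_isOpenMap _ (fun b => (P b).ι.isOpenEmbedding.isOpenMap)
      (Set.eq_univ_of_forall fun y => by
        by_cases hy : y ∈ W.1
        · exact Set.mem_iUnion.mpr ⟨true, ⟨y, hy⟩, rfl⟩
        · exact Set.mem_iUnion.mpr ⟨false, ⟨y, hy⟩, rfl⟩)
  let S : Sieve U := (R.pullback f).pushforward (Decomp.incl U W.1) ⊔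
    (⊤ : Sieve (Decomp.piece U W')).pushforward (Decomp.incl U W')
  have hS : S ∈ Scheme.ProEt.topology X U := by
    refine (Scheme.ProEt.topology X).transitive hP S fun Z g hg => ?_
    obtain ⟨_, a, _, ⟨b⟩, rfl⟩ := hg
    cases b
    · have : S.pullback (a ≫ Decomp.incl U (P false)) = ⊤ := by
        rw [← Sieve.id_mem_iff_eq_top]
        refine Or.inr ⟨a, ?_, trivial⟩
        exact (Category.id_comp _).symm
      rw [this]
      exact GrothendieckTopology.top_mem _ _
    · refine (Scheme.ProEt.topology X).superset_covering ?_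
        ((Scheme.ProEt.topology X).pullback_stable a ((Scheme.ProEt.topology X).pullback_stable f hR))
      intro Z' c hc
      exact Or.inl ⟨c ≫ a, Category.assoc _ _ _, hc⟩
  obtain ⟨n, D, hD, -, hu, hDS⟩ := Decomp.exists_decomposition hU hS
  obtain ⟨k, hk⟩ := Set.mem_iUnion.mp (hu.ge (Set.mem_univ x))
  rcases hDS k with ⟨a, ha, haR⟩ | ⟨a, ha, -⟩
  · let V : Nbhd U x := ⟨D k ⊓ W.1, (hD k).inter W.2.1, hk, W.2.2⟩
    refine ⟨_, a ≫ f, haR, V, homOfLE (show V.1 ≤ W.1 from inf_le_right),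
      pieceHom U (show V.1 ≤ D k from inf_le_left), ?_⟩
    rw [← Category.assoc]
    refine congrArg (· ≫ f) (incl_cancel U ?_)
    rw [Category.assoc, ha]
    exact (pieceHom_incl U _).trans (pieceHom_incl U _).symm
  · refine absurd W.2.2 ?_
    have h1 : ((a ≫ Decomp.incl U W').left ⟨x, hk⟩ : ↥U.left) = x := by rw [ha]; rfl
    exact fun hxW => (a.left ⟨x, hk⟩).2 ((congrArg (fun y => y ∈ (W.1 : Set ↥U.left)) h1).mpr hxW)

/-- The point at a point of a weakly contractible affine object. -/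
noncomputable def point (U : X.ProEt) [IsAffine U.left]
    (hU : EtPBC.IsWContractible ↥Γ(U.left, ⊤)) (x : ↥U.left) :
    GrothendieckTopology.Point.{u + 1} (Scheme.ProEt.topology X) :=
  GrothendieckTopology.Point.ofIsCofiltered.{u + 1} (nbhdFunctor U x)
    fun _ R hR W f => exists_refinement U hU x R hR W f

/-- The indexing type of the points. -/
def Index (X : Scheme.{u}) : Type (u + 1) :=
  Σ U : {U : X.ProEt // ∃ _ : IsAffine U.left, EtPBC.IsWContractible ↥Γ(U.left, ⊤)}, ↥U.1.left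

/-- All the points. -/
noncomputable def pointAt (i : Index X) : GrothendieckTopology.Point.{u + 1} (Scheme.ProEt.topology X) :=
  @point X i.1.1 i.1.2.fst i.1.2.snd i.2

theorem hasEnoughPoints (X : Scheme.{u}) :
    GrothendieckTopology.HasEnoughPoints.{u + 1} (Scheme.ProEt.topology X) := by
  refine ⟨ObjectProperty.ofObj (pointAt (X := X)), inferInstance,
    ObjectProperty.IsConservativeFamilyOfPoints.mk' fun U₀ S hS => ?_⟩
  obtain ⟨P, g, hP, hwc, hfam, -, -⟩ := Covers.exists_cover U₀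
    (fun W : U₀.left.affineOpens => W.1) (fun W => W.2) (iSup_affineOpens_eq_top U₀.left)
  refine (Scheme.ProEt.topology X).transitive hfam S fun Z h hh => ?_
  obtain ⟨_, a, _, ⟨i⟩, rfl⟩ := hh
  rw [Sieve.pullback_comp]
  refine (Scheme.ProEt.topology X).pullback_stable a ?_
  have key : ∀ x : ↥(P i).left, ∃ W : (P i).left.Opens, x ∈ W ∧
      (S.pullback (g i)).arrows (Decomp.incl (P i) W) := fun x => by
    let idx : Index X := ⟨⟨P i, hP i, hwc i⟩, x⟩
    let W₀ : Nbhd (P i) x := ⟨⊤, by simpa using isClopen_univ (X := ↥(P i).left), trivial⟩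
    obtain ⟨Y, h, hh, y, hy⟩ := hS ⟨pointAt idx, ⟨idx⟩⟩
      (GrothendieckTopology.Point.ofIsCofiltered.fiberMk.{u + 1} (p := nbhdFunctor (P i) x) (U := W₀)
        (Decomp.incl (P i) ⊤ ≫ g i))
    obtain ⟨V₁, b, rfl⟩ :=
      GrothendieckTopology.Point.ofIsCofiltered.fiberMk_jointly_surjective.{u + 1}
        (p := nbhdFunctor (P i) x) y
    change (GrothendieckTopology.Point.ofIsCofiltered.fiber.{u + 1} (nbhdFunctor (P i) x)).map h _ = _ at hy
    rw [GrothendieckTopology.Point.ofIsCofiltered.fiber_map_fiberMk.{u + 1}] at hy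
    let V₂ : Nbhd (P i) x := IsCofiltered.min V₁ W₀
    rw [← GrothendieckTopology.Point.ofIsCofiltered.fiberMk_map_comp.{u + 1} (nbhdFunctor (P i) x)
        (IsCofiltered.minToLeft V₁ W₀) (b ≫ h),
      ← GrothendieckTopology.Point.ofIsCofiltered.fiberMk_map_comp.{u + 1} (nbhdFunctor (P i) x)
        (IsCofiltered.minToRight V₁ W₀) (Decomp.incl (P i) ⊤ ≫ g i)] at hy
    obtain ⟨V, q, hq⟩ := GrothendieckTopology.Point.ofIsCofiltered.exists_of_fiberMk_eq_fiberMk.{u + 1} hy
    refine ⟨V.1, V.2.2, ?_⟩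
    have e : Decomp.incl (P i) V.1 ≫ g i =
        ((nbhdFunctor (P i) x).map q ≫ (nbhdFunctor (P i) x).map (IsCofiltered.minToLeft V₁ W₀) ≫ b)
          ≫ h := by
      rw [Category.assoc, Category.assoc, hq]
      simp only [← Category.assoc]
      congr 1
      rw [← Functor.map_comp]
      exact (pieceHom_incl (P i) _).symm
    change S (Decomp.incl (P i) V.1 ≫ g i)
    rw [e]
    exact S.downward_closed hh _
  choose W hxW hW using key
  refine (Scheme.ProEt.topology X).superset_covering ?_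
    (Continuity.ofArrows_mem_of_isOpenMap (fun x => Decomp.incl (P i) (W x))
      (fun x => (W x).ι.isOpenEmbedding.isOpenMap)
      (Set.eq_univ_of_forall fun x => Set.mem_iUnion.mpr ⟨x, ⟨x, hxW x⟩, rfl⟩))
  rw [Sieve.ofArrows, Sieve.generate_le_iff]
  rintro _ _ ⟨x⟩
  exact hW x

end Groth.Agent.Lib.ProEt.Points
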