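import Groth.Agent.Lib.ProEt.EtPres
import Groth.Agent.Lib.ProEt.EtSections
import Groth.Agent.Lib.ProEt.Sheafify
import Groth.Agent.Lib.IndEtale.LiftSurj
import Mathlib.CategoryTheory.Limits.Preserves.Filtered

/-!
Presentations of affine etale objects and of weakly contractible affine objects.
-/

set_option autoImplicit false

universe u

open CategoryTheory CategoryTheory.Limits AlgebraicGeometry Opposite

namespace Groth.Agent.Lib.ProEt.EtPres

set_option backward.isDefEq.respectTransparency.types false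

variable {X : Scheme.{u}}

/-- An affine etale object is presented by itself. -/
noncomputable def presSelf (E : X.Etale) (hE : IsAffine E.left) : Pres ((ProEtS.eps X).obj E) where
  I := Discrete PUnit.{u + 1}
  cof := { cone_objs := fun _ _ => ⟨⟨⟨⟩⟩, 𝟙 _, 𝟙 _, trivial⟩
           cone_maps := fun _ _ _ _ => ⟨⟨⟨⟩⟩, 𝟙 _, Subsingleton.elim _ _⟩
           nonempty := ⟨⟨⟨⟩⟩⟩ }
  D := (Functor.const _).obj E
  qc _ := (haveI := hE; inferInstance : CompactSpace ↥E.left)
  qs _ := (haveI := hE; inferInstance : QuasiSeparatedSpace ↥E.left)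
  affHom _ := (inferInstance : IsAffineHom (𝟙 E.left))
  π := { app := fun _ => 𝟙 _ }
  isLimit :=
    { lift := fun s => s.π.app ⟨⟨⟩⟩
      fac := fun s j => Category.comp_id _
      uniq := fun s m hm => ((Category.comp_id _).symm.trans (hm ⟨⟨⟩⟩)) }

/-- A w-contractible affine object maps to an affine etale object. -/
theorem exists_map_affine_etale (P : X.ProEt) [IsAffine P.left]
    (hP : EtPBC.IsWContractible ↥Γ(P.left, ⊤)) :
    ∃ (E : X.Etale) (_ : IsAffine E.left), Nonempty (P ⟶ (ProEtS.eps X).obj E) := by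
  let f : P.left ⟶ X := P.hom
  let O : X.affineOpens → X.ProEt := fun U => Decomp.piece P (f ⁻¹ᵁ U.1)
  let incO : ∀ U, O U ⟶ P := fun U => Decomp.incl P (f ⁻¹ᵁ U.1)
  have hcov : Sieve.ofArrows O incO ∈ Scheme.ProEt.topology X P :=
    Continuity.ofArrows_mem_of_isOpenMap incO (fun U => (f ⁻¹ᵁ U.1).ι.isOpenEmbedding.isOpenMap)
      (Set.eq_univ_of_forall fun x => by
        obtain ⟨U, hU⟩ := TopologicalSpace.Opens.mem_iSup.mp
          ((iSup_affineOpens_eq_top X).ge (trivial : f.base x ∈ (⊤ : X.Opens)))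
        exact Set.mem_iUnion.mpr ⟨U, ⟨x, hU⟩, rfl⟩)
  obtain ⟨n, W, hW, hd, hu, hR⟩ := Decomp.exists_decomposition hP hcov
  choose Y a g hg hag using hR
  have hg'' : ∀ {Z : X.ProEt} (g : Z ⟶ P), Presieve.ofArrows O incO g →
      ∃ (U : X.affineOpens) (b : Z ⟶ O U), b ≫ incO U = g := fun g h => by
    obtain ⟨U⟩ := h
    exact ⟨U, 𝟙 _, Category.id_comp _⟩
  have hg' : ∀ k, ∃ (U : X.affineOpens) (b : Y k ⟶ O U), b ≫ incO U = g k := fun k =>
    hg'' (g k) (hg k)
  choose U b hb using hg'
  let ET : ULift.{u} (Fin n) → X.Etale := fun k => MorphismProperty.Over.mk ⊤ (U k.down).1.ι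
    (inferInstance : Etale (U k.down).1.ι)
  haveI : ∀ k, IsAffine (ET k).left := fun k => (U k.down).2
  haveI : IsAffine (EtSections.sigmaObj ET).left :=
    (inferInstance : IsAffine (∐ fun k => (ET k).left))
  let m : ∀ k : Fin n, O (U k) ⟶ (ProEtS.eps X).obj (ET ⟨k⟩) := fun k =>
    MorphismProperty.Over.homMk (f ∣_ (U k).1) (morphismRestrict_ι f (U k).1)
  obtain ⟨r, -, -⟩ := Sheafify.existsUnique_desc P W hW hd hu
    fun k => a k ≫ b k ≫ m k ≫ (ProEtS.eps X).map (EtSections.sigmaIncl ET ⟨k⟩)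
  exact ⟨EtSections.sigmaObj ET, inferInstance, ⟨r⟩⟩

/-- A w-contractible affine object is presented. -/
theorem nonempty_pres (P : X.ProEt) [IsAffine P.left]
    (hP : EtPBC.IsWContractible ↥Γ(P.left, ⊤)) : Nonempty (Pres P) := by
  obtain ⟨E, hE, ⟨a⟩⟩ := exists_map_affine_etale P hP
  haveI := hE
  let a' : P.left ⟶ E.left := a.left
  haveI : WeaklyEtale a' := Basic.weaklyEtale_left a
  have hw := Basic.weaklyEtale_appTop a'
  letI := a'.appTop.hom.toAlgebra
  haveI : Algebra.WeaklyEtale Γ(E.left, ⊤) Γ(P.left, ⊤) := hw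
  obtain ⟨J, _, _, D, c, hc, hD, ⟨e⟩⟩ :=
    IndEtale.LiftSurj.isIndEtale_of_isWContractible ↥Γ(E.left, ⊤) ↥Γ(P.left, ⊤) hP
  let S : J → Scheme.{u} := fun j => Spec (D.obj j).right
  let s : ∀ j, S j ⟶ X := fun j => Spec.map (D.obj j).hom ≫ E.left.isoSpec.inv ≫ E.hom
  have hs : ∀ j, Etale (s j) := fun j => by
    haveI : Etale (Spec.map (D.obj j).hom) := by
      rw [HasRingHomProperty.Spec_iff (P := @Etale)]
      letI := (D.obj j).hom.hom.toAlgebra
      haveI := hD j
      exact RingHom.etale_algebraMap.mpr inferInstance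
    haveI : Etale E.hom := E.prop
    infer_instance
  have hw' : ∀ {j k : J} (φ : j ⟶ k), Spec.map (D.map φ).right ≫ s j = s k := fun {j k} φ => by
    simp only [s]
    rw [← Category.assoc, ← Spec.map_comp, Under.w (D.map φ)]
  let D' : Jᵒᵖ ⥤ X.Etale :=
    { obj := fun j => MorphismProperty.Over.mk ⊤ (s j.unop) (hs j.unop)
      map := fun {j k} φ => MorphismProperty.Over.homMk (Spec.map (D.map φ.unop).right) (hw' φ.unop)
      map_id := fun j => MorphismProperty.Over.Hom.ext (by
        change Spec.map (D.map (𝟙 j.unop)).right = 𝟙 _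
        rw [D.map_id, Under.id_right, Spec.map_id])
      map_comp := fun φ ψ => MorphismProperty.Over.Hom.ext (by
        change Spec.map (D.map (ψ.unop ≫ φ.unop)).right = Spec.map _ ≫ Spec.map _
        rw [D.map_comp, Under.comp_right, Spec.map_comp]) }
  let q : ∀ j, P.left ⟶ S j := fun j => P.left.isoSpec.hom ≫ Spec.map (c.ι.app j ≫ e.hom).right
  have hq : ∀ j, q j ≫ s j = P.hom := fun j => by
    simp only [q, s]
    rw [Category.assoc, ← Category.assoc (Spec.map _) (Spec.map _), ← Spec.map_comp,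
      Under.w (c.ι.app j ≫ e.hom)]
    change P.left.isoSpec.hom ≫ Spec.map a'.appTop ≫ E.left.isoSpec.inv ≫ E.hom = P.hom
    rw [← Category.assoc, Scheme.isoSpec_hom_naturality, Category.assoc, Iso.hom_inv_id_assoc]
    exact MorphismProperty.Over.w a
  have hqw : ∀ {j k : J} (φ : j ⟶ k), q k ≫ Spec.map (D.map φ).right = q j := fun {j k} φ => by
    simp only [q]
    rw [Category.assoc, ← Spec.map_comp, ← Under.comp_right, ← Category.assoc, c.w]
  let π : (Functor.const Jᵒᵖ).obj P ⟶ D' ⋙ ProEtS.eps X :=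
    { app := fun j => MorphismProperty.Over.homMk (q j.unop) (hq j.unop)
      naturality := fun j k φ => (Category.id_comp _).trans
        (MorphismProperty.Over.Hom.ext (hqw φ.unop).symm) }
  let R : J ⥤ CommRingCat.{u} := D ⋙ Under.forget _
  let cR : Cocone R := (Under.forget _).mapCocone c
  have hR : IsColimit cR := isColimitOfPreserves _ hc
  have hS : IsLimit (Scheme.Spec.mapCone cR.op) := isLimitOfPreserves Scheme.Spec hR.op
  refine ⟨{ I := Jᵒᵖ, D := D', qc := fun j => (inferInstance : CompactSpace ↥(Spec (D.obj j.unop).right)),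
            qs := fun j => (inferInstance : QuasiSeparatedSpace ↥(Spec (D.obj j.unop).right)),
            affHom := fun a => (inferInstance : IsAffineHom (Spec.map (D.map a.unop).right)),
            π := π, isLimit := IsLimit.ofIsoLimit hS (Cone.ext ?_ fun j => ?_) }⟩
  · exact (Scheme.Spec.mapIso ((Under.forget _).mapIso e).op).symm ≪≫ P.left.isoSpec.symm
  · change Spec.map (c.ι.app j.unop).right =
      (Spec.map e.inv.right ≫ P.left.isoSpec.inv) ≫ q j.unop
    simp only [q]
    rw [Category.assoc, Iso.inv_hom_id_assoc, ← Spec.map_comp, ← Under.comp_right,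
      Category.assoc, e.hom_inv_id]
    exact congrArg (fun φ => Spec.map (Under.Hom.right φ)) (Category.comp_id _).symm

end Groth.Agent.Lib.ProEt.EtPres
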