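import Groth.Agent.Lib.ProEt.EpsExact

/-!
Base change of presentations and sections of pullbacks over presented objects.
-/

set_option autoImplicit false

universe u

open CategoryTheory CategoryTheory.Limits AlgebraicGeometry Opposite

namespace Groth.Agent.Lib.ProEt.PresPull

set_option backward.isDefEq.respectTransparency.types false

open EtPres

section BaseChange

variable {X Y : Scheme.{u}} (f : X ⟶ Y)

/-- The first projection of a base change. -/
noncomputable def pr (V : Y.ProEt) : ((ProEtS.bcP f).obj V).left ⟶ V.left := pullback.fst V.hom f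

/-- Base change of a morphism is cartesian. -/
lemma isPullback_map {V W : Y.ProEt} (g : V ⟶ W) :
    IsPullback ((ProEtS.bcP f).map g).left (pr f V) (pr f W) g.left := by
  have e1 : ((ProEtS.bcP f).map g).left ≫ pullback.snd W.hom f = pullback.snd V.hom f :=
    pullback.lift_snd _ _ _
  have e2 : g.left ≫ W.hom = V.hom := MorphismProperty.Over.w g
  refine IsPullback.of_right (h₁₂ := pullback.snd W.hom f) (v₁₃ := f) (h₂₂ := W.hom) ?_ ?_
    (IsPullback.of_hasPullback W.hom f).flip
  · exact (congrArg₂ (fun a d => IsPullback a (pullback.fst V.hom f) f d) e1 e2).mpr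
      (IsPullback.of_hasPullback V.hom f).flip
  · exact pullback.lift_fst _ _ _

variable [QuasiCompact f] [QuasiSeparated f] {V : Y.ProEt} (p : Pres V)

attribute [local instance] IsCofiltered.isConnected

/-- The base change of a presentation. -/
noncomputable def pres : Pres ((ProEtS.bcP f).obj V) where
  I := p.I
  D := p.D ⋙ EtCoh.bc f
  qc i := by
    haveI := p.qc i
    let E := p.D.obj i
    let E₀ : E.left ⟶ Y := E.hom
    let q : pullback E₀ f ⟶ E.left := pullback.fst E₀ f
    haveI : QuasiCompact q := (inferInstance : QuasiCompact (pullback.fst E₀ f))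
    exact (QuasiCompact.compactSpace_of_compactSpace q :
      CompactSpace ↥(pullback E.hom f))
  qs i := by
    haveI := p.qs i
    let E := p.D.obj i
    let E₀ : E.left ⟶ Y := E.hom
    let q : pullback E₀ f ⟶ E.left := pullback.fst E₀ f
    haveI : QuasiSeparated q := (inferInstance : QuasiSeparated (pullback.fst E₀ f))
    exact (quasiSeparatedSpace_of_quasiSeparated q :
      QuasiSeparatedSpace ↥(pullback E.hom f))
  affHom a := MorphismProperty.of_isPullback (P := @IsAffineHom) (EtCoh.isPullback_bc_map f (p.D.map a)).flip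
    (p.affHom a)
  π :=
    { app := fun i => (ProEtS.bcP f).map (p.π.app i)
      naturality := fun i j a => (Category.id_comp _).trans
        ((congrArg (ProEtS.bcP f).map (p.π_w a).symm).trans ((ProEtS.bcP f).map_comp _ _)) }
  isLimit :=
    let F := Scheme.ProEt.forget X ⋙ Over.forget X
    isLimitOfIsPullbackOfIsConnected
      (F := ((p.D ⋙ EtCoh.bc f) ⋙ ProEtS.eps X) ⋙ F) (G := p.sch)
      { app := fun i => pr f ((ProEtS.eps Y).obj (p.D.obj i))
        naturality := fun i j a => (isPullback_map f ((ProEtS.eps Y).map (p.D.map a))).w }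
      _ ((Scheme.ProEt.forget Y ⋙ Over.forget Y).mapCone ⟨V, p.π⟩)
      { hom := pr f V
        w := fun i => (isPullback_map f (p.π.app i)).w.symm }
      (fun i => isPullback_map f (p.π.app i)) p.isLimit

end BaseChange

variable {X : Scheme.{u}} [ProEtS.EpsCont X] (F : EtCoh.Ab X) {U : X.ProEt} (p : Pres U)

open EpsUnit

/-- Sections over a presented object come from a finite stage. -/
theorem exists_rep (y : ProEtS.sectP (G F) U) :
    ∃ (i : p.I) (x : F.obj.obj (op (p.D.obj i))), (G F).obj.map (p.π.app i).op (η F x) = y := by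
  haveI : ∀ (i j : p.I) (a : i ⟶ j), IsAffineHom ((p.D ⋙ ProEtS.eps X).map a).left :=
    fun _ _ a => p.isAffineHom_map a
  haveI : ∀ i, CompactSpace ↥((p.D ⋙ ProEtS.eps X).obj i).left := p.qc
  haveI : ∀ i, QuasiSeparatedSpace ↥((p.D ⋙ ProEtS.eps X).obj i).left := p.qs
  obtain ⟨i, s, hs⟩ := EpsColimit.exists_preimage F (p.D ⋙ ProEtS.eps X) ⟨U, p.π⟩ p.isLimit y
  obtain ⟨x, rfl⟩ := (EtGood.bijective_η F (E := p.D.obj i)).2 s
  exact ⟨i, x, hs⟩

/-- A section vanishing on a presented object vanishes at a finite stage. -/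
theorem exists_zero {i : p.I} (x : F.obj.obj (op (p.D.obj i)))
    (h : (G F).obj.map (p.π.app i).op (η F x) = 0) :
    ∃ (j : p.I) (a : j ⟶ i), F.obj.map (p.D.map a).op x = 0 := by
  haveI : ∀ (i j : p.I) (a : i ⟶ j), IsAffineHom ((p.D ⋙ ProEtS.eps X).map a).left :=
    fun _ _ a => p.isAffineHom_map a
  haveI : ∀ i, CompactSpace ↥((p.D ⋙ ProEtS.eps X).obj i).left := p.qc
  obtain ⟨j, a, ha⟩ := EpsColimit.exists_map_eq_zero F (p.D ⋙ ProEtS.eps X) ⟨U, p.π⟩ p.isLimit
    (R := (p.D ⋙ ProEtS.eps X).obj i) (𝟙 _) (η F x) fun T q r hqr => by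
      rw [Category.comp_id] at hqr
      subst hqr
      exact (map_map F _ r _).symm.trans ((congrArg _ h).trans (map_zero _))
  refine ⟨j, a, (EtGood.bijective_η F).1 ?_⟩
  rw [η_map]
  refine (ha _ ((ProEtS.eps X).map (p.D.map a)) (𝟙 _)
    ((Category.comp_id _).trans (Category.id_comp _).symm)).trans ?_
  exact (map_zero ((ProEtS.epsAdj X).unit.app F |>.hom.app _).hom).symm

end Groth.Agent.Lib.ProEt.PresPull
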