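import Groth.Agent.Lib.ProEt.GoodHom
import Groth.Agent.Lib.ProEt.ClosedPullback
import Mathlib.CategoryTheory.Limits.Preserves.Limits

/-!
Sections of the pullback along a closed immersion on w-contractible affine objects.
-/

set_option autoImplicit false

universe u

open CategoryTheory CategoryTheory.Limits AlgebraicGeometry Opposite

namespace Groth.Agent.Lib.ProEt.PullSections

set_option backward.isDefEq.respectTransparency.types false

variable {Z X : Scheme.{u}} (i : Z ⟶ X) [ProEtS.PCont i]

/-- Evaluation of abelian sheaves at an object. -/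
noncomputable abbrev ev {Y : Scheme.{u}} (U : Y.ProEt) : ProEtS.AbP Y ⥤ AddCommGrpCat.{u + 1} :=
  sheafToPresheaf (Scheme.ProEt.topology Y) AddCommGrpCat.{u + 1} ⋙ (evaluation _ _).obj (op U)

/-- Sections over a lift map to sections of the pullback. -/
noncomputable def comparison {T : X.ProEt} {W : Z.ProEt} (b : W ⟶ (ProEtS.bcP i).obj T) :
    ev T ⟶ ProEtS.pullP i ⋙ ev W where
  app G := ((ProEtS.pullPushAdjP i).unit.app G).hom.app (op T) ≫
    ((ProEtS.pullP i).obj G).obj.map b.op
  naturality G G' φ := by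
    ext x
    have h1 := ConcreteCategory.congr_hom (congr_app (congrArg (fun t => t.hom)
      ((ProEtS.pullPushAdjP i).unit.naturality φ)) (op T)) x
    have h2 := ConcreteCategory.congr_hom (((ProEtS.pullP i).map φ).hom.naturality b.op)
      (((ProEtS.pullPushAdjP i).unit.app G).hom.app (op T) x)
    exact (congrArg (((ProEtS.pullP i).obj G').obj.map b.op) h1).trans h2.symm

lemma comparison_apply {T : X.ProEt} {W : Z.ProEt} (b : W ⟶ (ProEtS.bcP i).obj T)
    (G : ProEtS.AbP X) (x : ProEtS.sectP G T) :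
    (comparison i b).app G x = ClosedPullback.sec i G b x := rfl

variable [IsClosedImmersion i]

theorem bijective_comparison {T : X.ProEt} [IsAffine T.left]
    (hwc : EtPBC.IsWContractible ↥Γ(T.left, ⊤)) (hT : Good.IsGood (Set.range i.base) T)
    {W : Z.ProEt} [IsAffine W.left] (hW : EtPBC.IsWContractible ↥Γ(W.left, ⊤))
    (b : W ⟶ (ProEtS.bcP i).obj T) [IsIso b] (G : ProEtS.AbP X) :
    Function.Bijective ((comparison i b).app G) := by
  refine ⟨(injective_iff_map_eq_zero ((comparison i b).app G).hom).mpr fun x hx => ?_, fun y => ?_⟩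
  · have h0 : AbPullback.sec (ProEtS.bcP i) G b x = AbPullback.sec (ProEtS.bcP i) G b (0 : G.obj.obj (op T)) :=
      (comparison_apply i b G x).symm.trans (hx.trans (map_zero ((comparison i b).app G).hom).symm)
    obtain ⟨V', g, c, hc, hg⟩ :=
      AbPullback.exists_sec_eq (ProEtS.bcP i) G (ClosedPullback.hasSums X) hW h0
    obtain ⟨h, hh⟩ := GoodHom.exists_hom i hwc hT hW b V' c
    have hφ : b ≫ (ProEtS.bcP i).map (h ≫ g) = b := by
      rw [Functor.map_comp, ← Category.assoc, hh, hc]
    haveI := GoodHom.surjective_of_good i hT (h ≫ g) b b hφ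
    haveI : IsAffineHom (h ≫ g : T ⟶ T).left := inferInstance
    haveI : QuasiCompact (h ≫ g : T ⟶ T).left := inferInstance
    have hF : Presieve.IsSheaf (Scheme.ProEt.topology X) (G.obj ⋙ forget AddCommGrpCat.{u + 1}) :=
      (isSheaf_iff_isSheaf_of_type _ _).mp
        ((Presheaf.isSheaf_iff_isSheaf_forget _ G.obj (forget AddCommGrpCat.{u + 1})).mp G.property)
    refine (hF.isSeparated _ (Basic.singleton_mem (h ≫ g))).ext
      (t₁ := x) (t₂ := (0 : G.obj.obj (op T))) fun Y f hf => ?_
    obtain ⟨_, a, _, hh', rfl⟩ := hf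
    cases hh'
    change G.obj.map (a ≫ h ≫ g).op x = G.obj.map (a ≫ h ≫ g).op 0
    simp only [op_comp, Functor.map_comp, ConcreteCategory.comp_apply]
    rw [hg]
  · obtain ⟨V, a, x, rfl⟩ := ClosedPullback.exists_sec i G hW y
    obtain ⟨h, hh⟩ := GoodHom.exists_hom i hwc hT hW b V a
    subst hh
    exact ⟨G.obj.map h.op x, AbPullback.sec_map (ProEtS.bcP i) G h b x⟩

theorem isIso_comparison {T : X.ProEt} [IsAffine T.left]
    (hwc : EtPBC.IsWContractible ↥Γ(T.left, ⊤)) (hT : Good.IsGood (Set.range i.base) T)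
    {W : Z.ProEt} [IsAffine W.left] (hW : EtPBC.IsWContractible ↥Γ(W.left, ⊤))
    (b : W ⟶ (ProEtS.bcP i).obj T) [IsIso b] : IsIso (comparison i b) :=
  haveI : ∀ G, IsIso ((comparison i b).app G) := fun G =>
    (ConcreteCategory.isIso_iff_bijective _).mpr (bijective_comparison i hwc hT hW b G)
  NatIso.isIso_of_isIso_app _

theorem preservesLimitsOfShape (J : Type u) [SmallCategory J] :
    PreservesLimitsOfShape J (ProEtS.pullP i) := by
  haveI : HasLimitsOfSize.{u, u} AddCommGrpCat.{u + 1} := hasLimitsOfSizeShrink.{u, u, u + 1, u + 1} _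
  refine ⟨fun {K} => ?_⟩
  suffices IsIso (limit.post K (ProEtS.pullP i)) from preservesLimit_of_isIso_post _ _
  refine Exact.isIso_of_bijective _ fun W _ hW => ?_
  obtain ⟨T, hT, -, b, hb, -, hwc, hgood⟩ :=
    WCLift.exists_wc_lift i (ProEtS.topP X) W hW (ClosedLift.toTop i W)
  haveI := isIso_comparison i hwc hgood hW b
  haveI : PreservesLimitsOfShape J (ProEtS.pullP i ⋙ ev W) :=
    preservesLimitsOfShape_of_natIso (asIso (comparison i b))
  have h1 : (ev W).map (limit.post K (ProEtS.pullP i)) ≫ limit.post (K ⋙ ProEtS.pullP i) (ev W) =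
      limit.post K (ProEtS.pullP i ⋙ ev W) := limit.post_post _ _ _
  haveI : IsIso ((ev W).map (limit.post K (ProEtS.pullP i)) ≫
      limit.post (K ⋙ ProEtS.pullP i) (ev W)) := by
    rw [h1]
    infer_instance
  haveI : IsIso ((ev W).map (limit.post K (ProEtS.pullP i))) :=
    IsIso.of_isIso_comp_right _ (limit.post (K ⋙ ProEtS.pullP i) (ev W))
  exact ConcreteCategory.bijective_of_isIso ((ev W).map (limit.post K (ProEtS.pullP i)))

end Groth.Agent.Lib.ProEt.PullSections
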