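import Groth.Agent.Lib.ProEt.Good
import Groth.Agent.Lib.ProEt.Decomp
import Groth.Agent.Lib.ProEt.Exact
import Groth.Agent.Lib.ProEt.Sheafify
import Groth.Agent.Lib.WLocal.Finite
import Mathlib.AlgebraicGeometry.Morphisms.Finite
import Mathlib.AlgebraicGeometry.Morphisms.FinitePresentation

/-!
Decomposing weakly contractible objects along a quasi-compact open subscheme.
-/

set_option autoImplicit false

universe u

open CategoryTheory CategoryTheory.Limits AlgebraicGeometry Opposite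

namespace Groth.Agent.Lib.ProEt.Recollement

set_option backward.isDefEq.respectTransparency.types false

variable {U X : Scheme.{u}} (j : U ⟶ X) [IsOpenImmersion j]

/-- A splitting of an object into a part over the open and a part concentrated near the complement. -/
structure Splitting (V : X.ProEt) where
  /-- The part over the open. -/
  E₁ : U.ProEt
  /-- Its map. -/
  e₁ : (ProEtS.compP j).obj E₁ ⟶ V
  /-- The part near the complement. -/
  E₂ : X.ProEt
  /-- Its map. -/
  e₂ : E₂ ⟶ V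
  isAffine : IsAffine E₂.left
  isWContractible : EtPBC.IsWContractible ↥Γ(E₂.left, ⊤)
  isGood : Good.IsGood (Set.range j.base)ᶜ E₂
  bijective : ∀ (K : ProEtS.AbP X), Function.Bijective
    fun s : ProEtS.sectP K V => (K.obj.map e₁.op s, K.obj.map e₂.op s)

variable [QuasiCompact j]

theorem exists_splitting (V : X.ProEt) [IsAffine V.left]
    (hV : EtPBC.IsWContractible ↥Γ(V.left, ⊤)) : Nonempty (Splitting j V) := by
  classical
  let f : V.left ⟶ X := V.hom
  let Z₀ : Set X := (Set.range j.base)ᶜ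
  have hZ₀ : IsClosed Z₀ := j.isOpenEmbedding.isOpen_range.isClosed_compl
  obtain ⟨Q, q, hQ, hq⟩ := Good.exists_good_loc Z₀ hZ₀ V
  let p₀ : pullback f j ⟶ V.left := pullback.fst f j
  let P₀ : X.ProEt := Scheme.ProEt.mk (p₀ ≫ V.hom)
  let g₀ : P₀ ⟶ V := MorphismProperty.Over.homMk p₀
  let arr : Bool → X.ProEt := fun b => cond b P₀ Q
  let arrMap : ∀ b, arr b ⟶ V := fun b => match b with | true => g₀ | false => q
  haveI : ∀ b, QuasiCompact (arrMap b).left := fun b => by
    cases b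
    · haveI := hQ.1
      exact (inferInstance : QuasiCompact q.left)
    · exact (inferInstance : QuasiCompact p₀)
  have hmem : Sieve.ofArrows arr arrMap ∈ Scheme.ProEt.topology X V := by
    refine Basic.ofArrows_mem arrMap (Set.eq_univ_of_forall fun v => Set.mem_iUnion.mpr ?_)
    by_cases h : f.base v ∈ Z₀
    · exact ⟨false, hq v v h specializes_rfl⟩
    · obtain ⟨u', hu⟩ := not_not.mp h
      obtain ⟨t, ht, -⟩ := Scheme.Pullback.exists_preimage_pullback (f := f) (g := j) v u' hu.symm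
      exact ⟨true, t, ht⟩
  obtain ⟨n, D, hD, hd, hu, hR⟩ := Decomp.exists_decomposition hV hmem
  let A : Set (Fin n) := {k | ∀ x ∈ D k, f.base x ∈ Set.range j.base}
  have hsplit : ∀ k ∉ A, ∀ v ∈ D k, ∃ z ∈ D k, f.base z ∈ Z₀ ∧ v ⤳ z := fun k hk v hv => by
    obtain ⟨_, c, _, ⟨b⟩, hc⟩ := hR k
    cases b
    · have h1 : q.left.base (c.left.base ⟨v, hv⟩) = v :=
        congrArg (fun φ : Decomp.piece V (D k) ⟶ V => φ.left.base ⟨v, hv⟩) hc
      obtain ⟨z, hz, hvz⟩ := hQ.2 (c.left.base ⟨v, hv⟩)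
      have h2 : v ⤳ q.left.base z := h1 ▸ hvz.map q.left.continuous
      refine ⟨q.left.base z, h2.mem_closed (hD k).1 hv, ?_, h2⟩
      have h3 : Q.hom = q.left ≫ f := (MorphismProperty.Over.w q).symm
      rw [h3] at hz
      exact hz
    · refine absurd (fun x hx => ?_) hk
      have h1 : p₀.base (c.left.base ⟨x, hx⟩) = x :=
        congrArg (fun φ : Decomp.piece V (D k) ⟶ V => φ.left.base ⟨x, hx⟩) hc
      refine ⟨(pullback.snd f j).base (c.left.base ⟨x, hx⟩), ?_⟩
      exact (congr(($(pullback.condition (f := f) (g := j))).base (c.left.base ⟨x, hx⟩)).symm).trans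
        (congrArg f.base h1)
  let O₁ : V.left.Opens := ⟨⋃ k ∈ A, (D k : Set ↥V.left), isOpen_biUnion fun k _ => (D k).2⟩
  have hO₁ : IsClopen (O₁ : Set ↥V.left) :=
    ⟨(Set.toFinite A).isClosed_biUnion fun k _ => (hD k).1, O₁.2⟩
  let O₂ : V.left.Opens := ⟨(O₁ : Set ↥V.left)ᶜ, hO₁.1.isOpen_compl⟩
  have hO₂ : IsClopen (O₂ : Set ↥V.left) := hO₁.compl
  have hO₁j : Set.range (O₁.ι ≫ f).base ⊆ Set.range j.base := by
    rintro _ ⟨x, rfl⟩
    obtain ⟨k, hk, hxk⟩ := Set.mem_iUnion₂.mp x.2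
    exact hk _ hxk
  let l : O₁.toScheme ⟶ U := IsOpenImmersion.lift j (O₁.ι ≫ f) hO₁j
  have hl : l ≫ j = O₁.ι ≫ f := IsOpenImmersion.lift_fac _ _ _
  haveI : WeaklyEtale f := V.prop
  haveI : WeaklyEtale (l ≫ j) := by rw [hl]; infer_instance
  haveI : WeaklyEtale l := WeaklyEtale.of_comp l j
  let E₁ : U.ProEt := Scheme.ProEt.mk l
  let e₁ : (ProEtS.compP j).obj E₁ ⟶ V := MorphismProperty.Over.homMk O₁.ι hl.symm
  haveI : IsClosedImmersion O₂.ι :=
    IsClosedImmersion.of_isPreimmersion O₂.ι (by rw [Scheme.Opens.range_ι]; exact hO₂.1)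
  haveI : IsAffine O₂.toScheme := isAffine_of_isAffineHom O₂.ι
  have hwc : EtPBC.IsWContractible ↥Γ(O₂.toScheme, ⊤) := by
    letI : Algebra ↥Γ(V.left, ⊤) ↥Γ(O₂.toScheme, ⊤) := O₂.ι.appTop.hom.toAlgebra
    haveI : Module.Finite ↥Γ(V.left, ⊤) ↥Γ(O₂.toScheme, ⊤) :=
      RingHom.finite_algebraMap.mp (HasAffineProperty.iff_of_isAffine.mp
        (inferInstance : IsFinite O₂.ι)).2
    haveI : Algebra.FinitePresentation ↥Γ(V.left, ⊤) ↥Γ(O₂.toScheme, ⊤) :=
      (RingHom.finitePresentation_algebraMap).mp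
        (HasRingHomProperty.appTop (P := @LocallyOfFinitePresentation) O₂.ι inferInstance)
    exact WLocal.Finite.isWContractible hV
  have hgood : Good.IsGood Z₀ (Decomp.piece V O₂) := by
    refine ⟨(inferInstance : IsAffine O₂.toScheme), fun x => ?_⟩
    obtain ⟨k, hk⟩ := Set.mem_iUnion.mp (hu.ge (Set.mem_univ x.1))
    have hkA : k ∉ A := fun hkA => x.2 (Set.mem_iUnion₂.mpr ⟨k, hkA, hk⟩)
    obtain ⟨z, -, hz, hvz⟩ := hsplit k hkA x.1 hk
    refine ⟨⟨z, hvz.mem_closed hO₂.1 x.2⟩, hz, ?_⟩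
    exact (subtype_specializes_iff _ _).mpr hvz
  refine ⟨⟨E₁, e₁, Decomp.piece V O₂, Decomp.incl V O₂, (inferInstance : IsAffine O₂.toScheme),
    hwc, hgood, fun K => ?_⟩⟩
  let a : (ProEtS.compP j).obj E₁ ⟶ Decomp.piece V O₁ :=
    MorphismProperty.Over.homMk (𝟙 O₁.toScheme) ((Category.id_comp _).trans hl.symm)
  let a' : Decomp.piece V O₁ ⟶ (ProEtS.compP j).obj E₁ :=
    MorphismProperty.Over.homMk (𝟙 O₁.toScheme) ((Category.id_comp _).trans hl)
  have ha : a ≫ Decomp.incl V O₁ = e₁ := MorphismProperty.Over.Hom.ext (Category.id_comp _)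
  have haa : a ≫ a' = 𝟙 _ := MorphismProperty.Over.Hom.ext (Category.id_comp _)
  have ha'a : a' ≫ a = 𝟙 _ := MorphismProperty.Over.Hom.ext (Category.id_comp _)
  let Wp : Fin 2 → V.left.Opens := ![O₁, O₂]
  have hW : ∀ k, IsClopen (Wp k : Set ↥V.left) := fun k => by
    fin_cases k
    · exact hO₁
    · exact hO₂
  have hWd : Pairwise fun k l => Disjoint (Wp k : Set ↥V.left) (Wp l) := fun k l hkl => by
    fin_cases k <;> fin_cases l <;> first
      | exact absurd rfl hkl
      | exact disjoint_compl_right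
      | exact disjoint_compl_left
  have hWu : (⋃ k, (Wp k : Set ↥V.left)) = Set.univ := Set.eq_univ_of_forall fun x => by
    by_cases hx : x ∈ O₁
    · exact Set.mem_iUnion.mpr ⟨0, hx⟩
    · exact Set.mem_iUnion.mpr ⟨1, hx⟩
  let K' := (sheafCompose (Scheme.ProEt.topology X) (forget AddCommGrpCat.{u + 1})).obj K
  have hcomp : ∀ s : ProEtS.sectP K V,
      K.obj.map e₁.op s = K.obj.map a.op (K.obj.map (Decomp.incl V O₁).op s) := fun s => by
    rw [← ha, op_comp, Functor.map_comp]
    rfl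
  refine ⟨fun s t hst => ?_, fun st => ?_⟩
  · refine (Decomp.existsUnique_glue K' Wp hW hWd hWu fun k => K.obj.map (Decomp.incl V (Wp k)).op t).unique
      (fun k => ?_) (fun k => rfl)
    fin_cases k
    · have h1 : K.obj.map a.op (K.obj.map (Decomp.incl V O₁).op s) =
          K.obj.map a.op (K.obj.map (Decomp.incl V O₁).op t) := by
        rw [← hcomp, ← hcomp]
        exact congrArg Prod.fst hst
      have h2 := congrArg (K.obj.map a'.op) h1
      simp only [← ConcreteCategory.comp_apply, ← Functor.map_comp, ← op_comp] at h2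
      rw [← Category.assoc, ha'a, Category.id_comp] at h2
      exact h2
    · exact congrArg Prod.snd hst
  · let t : ∀ k, K.obj.obj (op (Decomp.piece V (Wp k))) := fun k =>
      match k with
      | 0 => K.obj.map a'.op st.1
      | 1 => st.2
    obtain ⟨s, hs, -⟩ := Decomp.existsUnique_glue K' Wp hW hWd hWu t
    refine ⟨s, Prod.ext ?_ (hs 1)⟩
    refine (hcomp s).trans ((congrArg (K.obj.map a.op) (hs 0)).trans ?_)
    change K.obj.map a.op (K.obj.map a'.op st.1) = st.1
    rw [← ConcreteCategory.comp_apply, ← Functor.map_comp, ← op_comp, haa, op_id,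
      CategoryTheory.Functor.map_id]
    rfl

end Groth.Agent.Lib.ProEt.Recollement
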