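import Groth.Agent.Lib.ProEt.FinitePush
import Groth.Agent.Lib.ProEt.ClosedLift
import Groth.Agent.Lib.WLocal.LocClosed

/-!
Closed immersions with retrocompact complement.
-/

set_option autoImplicit false

universe u

open CategoryTheory CategoryTheory.Limits AlgebraicGeometry Opposite Topology

namespace Groth.Agent.Lib.ProEt.Retrocompact

set_option backward.isDefEq.respectTransparency.types false

variable {Z X : Scheme.{u}} (i : Z ⟶ X) [IsClosedImmersion i]

theorem isWContractible_bcP (hr : IsRetrocompact (Set.range i.base)ᶜ) (V : X.ProEt) [IsAffine V.left]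
    (hV : EtPBC.IsWContractible ↥Γ(V.left, ⊤)) :
    EtPBC.IsWContractible ↥Γ(pullback V.hom i, ⊤) := by
  let p : pullback V.hom i ⟶ V.left := pullback.fst V.hom i
  obtain ⟨hA, hq⟩ := IsClosedImmersion.isAffine_surjective_of_isAffine (f := p)
  haveI := hA
  let f : V.left ⟶ X := V.hom
  let O : X.Opens := ⟨(Set.range i.base)ᶜ, i.isClosedEmbedding.isClosed_range.isOpen_compl⟩
  haveI : QuasiCompact O.ι :=
    quasiCompact_iff_isSpectralMap.mpr (IsRetrocompact_iff_isSpectralMap_subtypeVal.mp hr)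
  haveI : QuasiCompact (f ⁻¹ᵁ O).ι :=
    MorphismProperty.of_isPullback (P := @QuasiCompact) (isPullback_morphismRestrict f O) inferInstance
  haveI : CompactSpace ↥(f ⁻¹ᵁ O).toScheme := QuasiCompact.compactSpace_of_compactSpace (f ⁻¹ᵁ O).ι
  have hcomp : IsCompact ((f ⁻¹ᵁ O : V.left.Opens) : Set ↥V.left) :=
    isCompact_iff_compactSpace.mpr (inferInstanceAs (CompactSpace ↥(f ⁻¹ᵁ O).toScheme))
  let e := V.left.isoSpec
  let U' : (Spec Γ(V.left, ⊤)).Opens := e.inv ⁻¹ᵁ (f ⁻¹ᵁ O)
  have hcomp' : IsCompact (U' : Set ↥(Spec Γ(V.left, ⊤))) :=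
    (quasiCompact_iff_isSpectralMap.mp (inferInstance : QuasiCompact e.inv)).2 (f ⁻¹ᵁ O).2 hcomp
  obtain ⟨J, hJ, hJU⟩ := PrimeSpectrum.isCompact_isOpen_iff_ideal.mp ⟨hcomp', U'.2⟩
  let I : Ideal ↥Γ(V.left, ⊤) := RingHom.ker p.appTop.hom
  have hrange : PrimeSpectrum.zeroLocus (I : Set ↥Γ(V.left, ⊤)) =
      (U' : Set ↥(Spec Γ(V.left, ⊤)))ᶜ := by
    rw [← range_comap_of_surjective _ p.appTop.hom hq]
    change Set.range (Spec.map p.appTop).base = (e.inv.base ⁻¹' (f.base ⁻¹' (Set.range i.base)ᶜ))ᶜ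
    rw [Set.preimage_compl, Set.preimage_compl, compl_compl]
    have h1 : Spec.map p.appTop = (pullback V.hom i).isoSpec.inv ≫ p ≫ e.hom := by
      rw [Iso.eq_inv_comp, Scheme.isoSpec_hom_naturality]
    ext x
    constructor
    · rintro ⟨y, rfl⟩
      let y' := (pullback V.hom i).isoSpec.inv.base y
      refine ⟨(pullback.snd V.hom i).base y', ?_⟩
      have h2 : e.inv.base ((Spec.map p.appTop).base y) = p.base y' := by
        rw [← Scheme.Hom.comp_apply, h1]
        simp [y']
      rw [h2]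
      exact congr(($(pullback.condition (f := V.hom) (g := i))).base y').symm
    · rintro ⟨z, hz⟩
      obtain ⟨t, ht, -⟩ := Scheme.Pullback.exists_preimage_pullback (f := V.hom) (g := i)
        (e.inv.base x) z hz.symm
      refine ⟨(pullback V.hom i).isoSpec.hom.base t, ?_⟩
      rw [← Scheme.Hom.comp_apply, h1, Iso.hom_inv_id_assoc, Scheme.Hom.comp_apply,
        show p.base t = e.inv.base x from ht, ← Scheme.Hom.comp_apply, Iso.inv_hom_id]
      rfl
  have h : EtPBC.IsWContractible (↥Γ(V.left, ⊤) ⧸ I) :=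
    WLocal.LocClosed.isWContractible_quotient hV J I hJ
      (hrange.trans (compl_eq_comm.mp hJU))
  exact Covers.isWContractible_of_ringEquiv (RingHom.quotientKerEquivOfSurjective (f := p.appTop.hom) hq) h

theorem isWC_bcP (hr : IsRetrocompact (Set.range i.base)ᶜ) (V : X.ProEt) [IsAffine V.left]
    (hV : EtPBC.IsWContractible ↥Γ(V.left, ⊤)) : ProEtS.IsWC ((ProEtS.bcP i).obj V) := by
  let p : pullback V.hom i ⟶ V.left := pullback.fst V.hom i
  haveI : IsAffine ((ProEtS.bcP i).obj V).left :=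
    (IsClosedImmersion.isAffine_surjective_of_isAffine (f := p)).1
  exact (Criterion.isWContractible_iff_isWC ((ProEtS.bcP i).obj V)).mp (isWContractible_bcP i hr V hV)

end Groth.Agent.Lib.ProEt.Retrocompact
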