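import Groth.Agent.Lib.ProEt.OpenJ
import Groth.Agent.Lib.ProEt.PullSections
import Groth.Agent.Lib.ProEt.Retrocompact
import Mathlib.Algebra.Homology.ShortComplex.ShortExact

/-!
The recollement exact sequence.
-/

set_option autoImplicit false

universe u

open CategoryTheory CategoryTheory.Limits AlgebraicGeometry Opposite

namespace Groth.Agent.Lib.ProEt.RecollementSeq

set_option backward.isDefEq.respectTransparency.types false

variable {X Z U : Scheme.{u}} (i : Z ⟶ X) [IsClosedImmersion i] (j : U ⟶ X) [IsOpenImmersion j]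
  (hc : Set.range j.base = (Set.range i.base)ᶜ) [ProEtS.JPCont j] [ProEtS.PCont i]
  (F : ProEtS.AbP X)

/-- The map from the extension by zero of the restriction. -/
noncomputable abbrev f : (ProEtS.extZeroP j).obj ((ProEtS.restrP j).obj F) ⟶ F :=
  (ProEtS.extZeroPAdj j).counit.app F

/-- The map to the push-forward of the pull-back. -/
noncomputable abbrev g : F ⟶ (ProEtS.pushP i).obj ((ProEtS.pullP i).obj F) :=
  (ProEtS.pullPushAdjP i).unit.app F

include hc in
lemma subsingleton_over_open (G : ProEtS.AbP Z) (E : U.ProEt) :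
    Subsingleton (ProEtS.sectP ((ProEtS.pushP i).obj G) ((ProEtS.compP j).obj E)) := by
  haveI : IsEmpty ↥((ProEtS.bcP i).obj ((ProEtS.compP j).obj E)).left := ⟨fun t => by
    let t' : ↥(pullback ((ProEtS.compP j).obj E).hom i) := t
    have h1 : j.base (E.hom.base ((pullback.fst ((ProEtS.compP j).obj E).hom i).base t')) =
        i.base ((pullback.snd ((ProEtS.compP j).obj E).hom i).base t') :=
      congr(($(pullback.condition (f := ((ProEtS.compP j).obj E).hom) (g := i))).base t')
    exact (hc.le ⟨_, rfl⟩) ⟨_, h1.symm⟩⟩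
  exact Decomp.subsingleton_of_isEmpty
    ((sheafCompose (Scheme.ProEt.topology Z) (forget AddCommGrpCat.{u + 1})).obj G) _

include hc in
theorem f_g : f j F ≫ g i F = 0 := by
  refine ((ProEtS.extZeroPAdj j).homEquiv _ _).injective ?_
  apply Sheaf.hom_ext
  ext E x
  haveI := subsingleton_over_open i j hc ((ProEtS.pullP i).obj F) E.unop
  exact @Subsingleton.elim _ this _ _

lemma counit_unit (E : U.ProEt) (x : ProEtS.sectP F ((ProEtS.compP j).obj E)) :
    (f j F).hom.app (op ((ProEtS.compP j).obj E))
      (((ProEtS.extZeroPAdj j).unit.app ((ProEtS.restrP j).obj F)).hom.app (op E) x) = x :=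
  ConcreteCategory.congr_hom (congr_app (congrArg (fun t => t.hom)
    ((ProEtS.extZeroPAdj j).right_triangle_components F)) (op E)) x

lemma bijective_f_over_open (E : U.ProEt) :
    Function.Bijective ((f j F).hom.app (op ((ProEtS.compP j).obj E))) := by
  haveI := OpenJ.isIso_unitAt j E
  have h := ConcreteCategory.bijective_of_isIso ((OpenJ.unitAt j E).app ((ProEtS.restrP j).obj F))
  refine ⟨fun s t hst => ?_, fun x => ⟨_, counit_unit j F E x⟩⟩
  obtain ⟨s', rfl⟩ := h.2 s
  obtain ⟨t', rfl⟩ := h.2 t
  exact congrArg _ ((counit_unit j F E s').symm.trans (hst.trans (counit_unit j F E t')))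

variable [QuasiCompact j]

include hc in
lemma isRetrocompact : IsRetrocompact (Set.range i.base)ᶜ := by
  intro K hK hKo
  rw [← hc, Set.inter_comm, ← Set.image_preimage_eq_inter_range]
  exact ((quasiCompact_iff_isSpectralMap.mp (inferInstance : QuasiCompact j)).2 hKo hK).image
    j.continuous

include hc in
lemma bijective_g_good {V : X.ProEt} (S : Recollement.Splitting j V) :
    Function.Bijective ((g i F).hom.app (op S.E₂)) := by
  haveI := S.isAffine
  have hW := Retrocompact.isWContractible_bcP i (isRetrocompact i j hc) S.E₂ S.isWContractible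
  let p : pullback S.E₂.hom i ⟶ S.E₂.left := pullback.fst S.E₂.hom i
  haveI : IsAffine ((ProEtS.bcP i).obj S.E₂).left :=
    (IsClosedImmersion.isAffine_surjective_of_isAffine (f := p)).1
  have hgood : Good.IsGood (Set.range i.base) S.E₂ := by
    have h := S.isGood
    rw [hc, compl_compl] at h
    exact h
  have h := PullSections.bijective_comparison i (T := S.E₂) S.isWContractible hgood
    (W := (ProEtS.bcP i).obj S.E₂) hW (𝟙 _) F
  have e : ∀ x, (PullSections.comparison i (𝟙 ((ProEtS.bcP i).obj S.E₂))).app F x =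
      (g i F).hom.app (op S.E₂) x := fun x => by
    change ((ProEtS.pullP i).obj F).obj.map (𝟙 ((ProEtS.bcP i).obj S.E₂)).op _ = _
    rw [op_id, CategoryTheory.Functor.map_id]
    rfl
  exact ⟨fun x y hxy => h.1 ((e x).trans (hxy.trans (e y).symm)), fun y => by
    obtain ⟨x, hx⟩ := h.2 y
    exact ⟨x, (e x).symm.trans hx⟩⟩

include hc in
theorem shortExact : ∃ h : f j F ≫ g i F = 0, (ShortComplex.mk _ _ h).ShortExact := by
  have h0 := f_g i j hc F
  have hZ : ∀ {V : X.ProEt} (S : Recollement.Splitting j V),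
      Subsingleton (ProEtS.sectP ((ProEtS.pushP i).obj ((ProEtS.pullP i).obj F)) ((ProEtS.compP j).obj S.E₁)) :=
    fun S => subsingleton_over_open i j hc _ _
  have nat : ∀ {A B : ProEtS.AbP X} (φ : A ⟶ B) {V W : X.ProEt} (e : W ⟶ V) (s : ProEtS.sectP A V),
      φ.hom.app (op W) (A.obj.map e.op s) = B.obj.map e.op (φ.hom.app (op V) s) :=
    fun φ _ _ e s => ConcreteCategory.congr_hom (φ.hom.naturality e.op) s
  haveI hf : Mono (f j F) := by
    refine Exact.mono_of_injective _ fun V _ hV => ?_
    obtain ⟨S⟩ := Recollement.exists_splitting j V hV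
    haveI := OpenJ.subsingleton_good j S ((ProEtS.restrP j).obj F)
    intro s t hst
    refine (S.bijective _).1 (Prod.ext ((bijective_f_over_open j F S.E₁).1 ?_) (Subsingleton.elim _ _))
    exact (nat (f j F) S.e₁ s).trans ((congrArg (F.obj.map S.e₁.op) hst).trans (nat (f j F) S.e₁ t).symm)
  haveI hg : Epi (g i F) := by
    refine Exact.epi_of_surjective _ fun V _ hV y => ?_
    obtain ⟨S⟩ := Recollement.exists_splitting j V hV
    haveI := hZ S
    obtain ⟨x₂, hx₂⟩ := (bijective_g_good i j hc F S).2
      (((ProEtS.pushP i).obj ((ProEtS.pullP i).obj F)).obj.map S.e₂.op y)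
    obtain ⟨x, hx⟩ := (S.bijective F).2 (0, x₂)
    refine ⟨x, (S.bijective _).1 (Prod.ext (Subsingleton.elim _ _) ?_)⟩
    exact (nat (g i F) S.e₂ x).symm.trans
      ((congrArg _ (congrArg Prod.snd hx)).trans hx₂)
  refine ⟨h0, ?_⟩
  have hex : (ShortComplex.mk _ _ h0).Exact := by
    rw [ShortComplex.exact_iff_epi_kernel_lift]
    refine Exact.epi_of_surjective _ fun V _ hV k => ?_
    obtain ⟨S⟩ := Recollement.exists_splitting j V hV
    let ι := kernel.ι (g i F)
    have hinj : Function.Injective (ι.hom.app (op V)) := by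
      have : Mono ((OpenJ.ev V).map ι) := inferInstance
      exact (AddCommGrpCat.mono_iff_injective _).mp this
    let y := ι.hom.app (op V) k
    have hy : (g i F).hom.app (op V) y = 0 :=
      ConcreteCategory.congr_hom (congr_app (congrArg (fun t => t.hom) (kernel.condition (g i F))) (op V)) k
    have hy₂ : F.obj.map S.e₂.op y = 0 := by
      refine (bijective_g_good i j hc F S).1 ?_
      rw [nat (g i F) S.e₂ y, hy, map_zero, map_zero]
    obtain ⟨x₁, hx₁⟩ := (bijective_f_over_open j F S.E₁).2 (F.obj.map S.e₁.op y)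
    obtain ⟨x, hx⟩ := (S.bijective ((ProEtS.extZeroP j).obj ((ProEtS.restrP j).obj F))).2 (x₁, 0)
    refine ⟨x, hinj ?_⟩
    have h1 : ι.hom.app (op V) ((kernel.lift (g i F) (f j F) h0).hom.app (op V) x) =
        (f j F).hom.app (op V) x :=
      ConcreteCategory.congr_hom (congr_app (congrArg (fun t => t.hom)
        (kernel.lift_ι (g i F) (f j F) h0)) (op V)) x
    refine h1.trans ((S.bijective F).1 (Prod.ext ?_ ?_))
    · exact (nat (f j F) S.e₁ x).symm.trans ((congrArg _ (congrArg Prod.fst hx)).trans hx₁)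
    · exact (nat (f j F) S.e₂ x).symm.trans
        ((congrArg _ (congrArg Prod.snd hx)).trans ((map_zero _).trans hy₂.symm))
  exact ShortComplex.ShortExact.mk' hex hf hg

end Groth.Agent.Lib.ProEt.RecollementSeq
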