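import Groth.Agent.Lib.ProEt.PresPull
import Groth.Agent.Lib.RDer.Compare

/-!
Higher direct images commute with the pullback from the etale site.
-/

set_option autoImplicit false

universe u

open CategoryTheory CategoryTheory.Limits AlgebraicGeometry Opposite

namespace Groth.Agent.Lib.ProEt.RpushEps

set_option backward.isDefEq.respectTransparency.types false

open EpsUnit EtPres

variable {X Y : Scheme.{u}} (f : X ⟶ Y) [ProEtS.EpsCont X] [ProEtS.EpsCont Y] [ProEtS.PCont f]

/-- The map adjoint to the comparison. -/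
noncomputable def ψ (F : EtCoh.Ab X) :
    (EtCoh.push f).obj F ⟶ (ProEtS.epsPush Y).obj ((ProEtS.pushP f).obj (G F)) :=
  ObjectProperty.homMk
    { app := fun E => ((ProEtS.epsAdj X).unit.app F).hom.app (op ((EtCoh.bc f).obj E.unop))
      naturality := fun E E' g => ((ProEtS.epsAdj X).unit.app F).hom.naturality ((EtCoh.bc f).map g.unop).op }

/-- The comparison. -/
noncomputable def θ (F : EtCoh.Ab X) :
    (ProEtS.epsPull Y).obj ((EtCoh.push f).obj F) ⟶ (ProEtS.pushP f).obj (G F) :=
  ((ProEtS.epsAdj Y).homEquiv _ _).symm (ψ f F)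

lemma θ_η (F : EtCoh.Ab X) {E : Y.Etale} (x : F.obj.obj (op ((EtCoh.bc f).obj E))) :
    (θ f F).hom.app (op ((ProEtS.eps Y).obj E)) (η ((EtCoh.push f).obj F) (E := E) x) = η F x := by
  have h : (ProEtS.epsAdj Y).unit.app ((EtCoh.push f).obj F) ≫ (ProEtS.epsPush Y).map (θ f F) = ψ f F :=
    ((ProEtS.epsAdj Y).homEquiv_unit _ _ _).symm.trans (Equiv.apply_symm_apply _ _)
  exact ConcreteCategory.congr_hom (congr_app (congrArg (fun t => t.hom) h) (op E)) x

lemma θ_rep (F : EtCoh.Ab X) {V : Y.ProEt} {E : Y.Etale} (a : V ⟶ (ProEtS.eps Y).obj E)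
    (x : F.obj.obj (op ((EtCoh.bc f).obj E))) :
    (θ f F).hom.app (op V)
        ((G ((EtCoh.push f).obj F)).obj.map a.op (η ((EtCoh.push f).obj F) (E := E) x)) =
      (G F).obj.map ((ProEtS.bcP f).map a).op (η F x) := by
  refine (ConcreteCategory.congr_hom ((θ f F).hom.naturality a.op) _).trans ?_
  exact congrArg ((G F).obj.map ((ProEtS.bcP f).map a).op) (θ_η f F x)

variable [QuasiCompact f] [QuasiSeparated f]

theorem isIso_θ (F : EtCoh.Ab X) : IsIso (θ f F) := by
  refine Exact.isIso_of_bijective _ fun W _ hW => ?_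
  obtain ⟨p⟩ := nonempty_pres W hW
  refine ⟨(injective_iff_map_eq_zero ((θ f F).hom.app (op W)).hom).mpr fun y hy => ?_, fun z => ?_⟩
  · obtain ⟨i, x, rfl⟩ := PresPull.exists_rep ((EtCoh.push f).obj F) p y
    have h0 : (G F).obj.map ((ProEtS.bcP f).map (p.π.app i)).op (η F x) = 0 :=
      (θ_rep f F (p.π.app i) x).symm.trans hy
    obtain ⟨j, a, ha⟩ := PresPull.exists_zero F (PresPull.pres f p) (i := i) x h0
    rw [← p.π_w a, ← map_map, ← η_map,
      show ((EtCoh.push f).obj F).obj.map (p.D.map a).op x = 0 from ha]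
    exact (congrArg _ (map_zero _)).trans (map_zero _)
  · obtain ⟨i, x, hx⟩ := PresPull.exists_rep F (PresPull.pres f p) z
    exact ⟨_, (θ_rep f F (p.π.app i) x).trans hx⟩

omit [QuasiCompact f] [QuasiSeparated f] in
lemma θ_naturality {F F' : EtCoh.Ab X} (φ : F ⟶ F') :
    (ProEtS.epsPull Y).map ((EtCoh.push f).map φ) ≫ θ f F' =
      θ f F ≫ (ProEtS.pushP f).map ((ProEtS.epsPull X).map φ) := by
  apply ((ProEtS.epsAdj Y).homEquiv _ _).injective
  rw [Adjunction.homEquiv_naturality_left, Adjunction.homEquiv_naturality_right, θ, θ,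
    Equiv.apply_symm_apply, Equiv.apply_symm_apply]
  refine Sheaf.hom_ext (NatTrans.ext (funext fun E => ?_))
  ext x
  exact (EpsExact.map_η φ (E := (EtCoh.bc f).obj E.unop) x).symm

/-- The comparison, as an isomorphism of functors. -/
noncomputable def θIso : EtCoh.push f ⋙ ProEtS.epsPull Y ≅ ProEtS.epsPull X ⋙ ProEtS.pushP f :=
  NatIso.ofComponents (fun F => haveI := isIso_θ f F; asIso (θ f F)) fun φ => θ_naturality f φ

/-- Pullbacks of injectives are acyclic. -/
theorem isZero_RpushP_injective (I : EtCoh.Ab X) [Injective I] (q : ℕ) :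
    IsZero ((ProEtS.RpushP f (q + 1)).obj ((ProEtS.epsPull X).obj I)) := by
  let R := injectiveResolution ((ProEtS.epsPull X).obj I)
  refine IsZero.of_iso ?_ (R.isoRightDerivedObj (ProEtS.pushP f) (q + 1))
  refine (HomologicalComplex.exactAt_iff_isZero_homology _ _).mp ?_
  rw [HomologicalComplex.exactAt_iff' _ q (q + 1) (q + 2) (by simp) (by simp),
    ShortComplex.exact_iff_epi_toCycles]
  refine Exact.epi_of_surjective _ fun W _ hW z => ?_
  let S := (((ProEtS.pushP f).mapHomologicalComplex (ComplexShape.up ℕ)).obj R.cocomplex).sc' q (q + 1) (q + 2)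
  obtain ⟨p⟩ := nonempty_pres W hW
  have hz : S.g.hom.app (op W) (S.iCycles.hom.app (op W) z) = 0 :=
    ConcreteCategory.congr_hom (congr_app (congrArg (fun t => t.hom) S.iCycles_g) (op W)) z
  obtain ⟨y, hy⟩ := CechCrit.exists_eq_d R EtGood.good_epsPull
    (U := (ProEtS.bcP f).obj W) (show (EtGood.covers X).B _ from ⟨PresPull.pres f p⟩) q
    (S.iCycles.hom.app (op W) z) hz
  refine ⟨y, CechCrit.injective_app S.iCycles W ?_⟩
  exact (ConcreteCategory.congr_hom (congr_app (congrArg (fun t => t.hom) S.toCycles_i) (op W)) y).trans hy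

/-- The comparison in all degrees. -/
theorem nonempty_iso (F : EtCoh.Ab X) (q : ℕ) :
    Nonempty ((ProEtS.RpushP f q).obj ((ProEtS.epsPull X).obj F) ≅
      (ProEtS.epsPull Y).obj ((EtCoh.Rpush f q).obj F)) := by
  haveI : (EtCoh.push f).IsRightAdjoint :=
    ((EtCoh.bc f).sheafAdjunctionContinuous AddCommGrpCat.{u + 1} Y.smallEtaleTopology
      X.smallEtaleTopology).isRightAdjoint
  haveI : (ProEtS.pushP f).IsRightAdjoint := (ProEtS.pullPushAdjP f).isRightAdjoint
  haveI : (ProEtS.epsPull Y).IsLeftAdjoint := (ProEtS.epsAdj Y).isLeftAdjoint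
  haveI : PreservesFiniteLimits (EtCoh.push f) := inferInstance
  haveI : PreservesFiniteLimits (ProEtS.pushP f) := inferInstance
  haveI : PreservesFiniteColimits (ProEtS.epsPull Y) := inferInstance
  exact RDer.Compare.nonempty_iso (ProEtS.epsPull X) (ProEtS.epsPull Y)
    (fun hS => EpsExact.shortExact_map hS) (θIso f) (fun I _ q => isZero_RpushP_injective f I q) q F

end Groth.Agent.Lib.ProEt.RpushEps
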