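import Groth.Agent.Lib.ProEt.RadicialEtale
import Groth.Agent.Lib.IndEtale.BigTensor
import Groth.Agent.Lib.WLocal.RetractLoc
import Groth.Agent.S0076

/-!
Topological invariance of ind-etale algebras along integral radicial surjective morphisms.
-/

set_option autoImplicit false

universe u

open CategoryTheory CategoryTheory.Limits AlgebraicGeometry TensorProduct

namespace Groth.Agent.Lib.ProEt.TopInvRing

set_option backward.isDefEq.respectTransparency.types false
set_option linter.style.haveILetI false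

variable (A A' : Type u) [CommRing A] [CommRing A'] [Algebra A A']
  [IsIntegralHom (Spec.map (CommRingCat.ofHom (algebraMap A A')))]
  [UniversallyInjective (Spec.map (CommRingCat.ofHom (algebraMap A A')))]
  [Surjective (Spec.map (CommRingCat.ofHom (algebraMap A A')))]

lemma univHomeo_inclRight (M : Type u) [CommRing M] [Algebra A M] :
    IsIntegralHom (Spec.map (CommRingCat.ofHom
        (Algebra.TensorProduct.includeRight.toRingHom : M →+* A' ⊗[A] M))) ∧
      UniversallyInjective (Spec.map (CommRingCat.ofHom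
        (Algebra.TensorProduct.includeRight.toRingHom : M →+* A' ⊗[A] M))) ∧
      Surjective (Spec.map (CommRingCat.ofHom
        (Algebra.TensorProduct.includeRight.toRingHom : M →+* A' ⊗[A] M))) := by
  have h := pullbackSpecIso_inv_snd A A' M
  haveI : UniversallyInjective (pullback.snd (Spec.map (CommRingCat.ofHom (algebraMap A A')))
      (Spec.map (CommRingCat.ofHom (algebraMap A M)))) :=
    MorphismProperty.pullback_snd _ _ ‹_›
  erw [← h]
  exact ⟨inferInstance, (MorphismProperty.cancel_left_of_respectsIso @UniversallyInjective _ _).mpr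
    ‹_›, inferInstance⟩

lemma injective_comap_inclRight (M : Type u) [CommRing M] [Algebra A M] :
    Function.Injective (PrimeSpectrum.comap
      (Algebra.TensorProduct.includeRight.toRingHom : M →+* A' ⊗[A] M)) := by
  haveI := (univHomeo_inclRight A A' M).2.1
  exact (Spec.map (CommRingCat.ofHom
    (Algebra.TensorProduct.includeRight.toRingHom : M →+* A' ⊗[A] M))).injective

lemma isHomeomorph_comap_inclRight (M : Type u) [CommRing M] [Algebra A M] :
    IsHomeomorph (PrimeSpectrum.comap
      (Algebra.TensorProduct.includeRight.toRingHom : M →+* A' ⊗[A] M)) := by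
  obtain ⟨h1, h2, h3⟩ := univHomeo_inclRight A A' M
  let π := Spec.map (CommRingCat.ofHom
    (Algebra.TensorProduct.includeRight.toRingHom : M →+* A' ⊗[A] M))
  exact isHomeomorph_iff_continuous_isClosedMap_bijective.2
    ⟨π.continuous, π.isClosedMap, π.injective, π.surjective⟩

omit [Algebra A A'] [IsIntegralHom (Spec.map (CommRingCat.ofHom (algebraMap A A')))]
  [UniversallyInjective (Spec.map (CommRingCat.ofHom (algebraMap A A')))]
  [Surjective (Spec.map (CommRingCat.ofHom (algebraMap A A')))] [CommRing A'] in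
/-- Maps into ind-etale affine schemes extend along integral radicial surjections. -/
theorem exists_lift (B : Type u) [CommRing B] [Algebra A B] (hB : EtPBC.IsIndEtale A B)
    {M : CommRingCat.{u}} {Y₀ : Scheme.{u}} (π : Y₀ ⟶ Spec M) [IsIntegralHom π]
    [UniversallyInjective π] [Surjective π] (a : Y₀ ⟶ Spec (CommRingCat.of B))
    (b : Spec M ⟶ Spec (CommRingCat.of A))
    (w : π ≫ b = a ≫ Spec.map (CommRingCat.ofHom (algebraMap A B))) :
    ∃ l : Spec M ⟶ Spec (CommRingCat.of B),
      π ≫ l = a ∧ l ≫ Spec.map (CommRingCat.ofHom (algebraMap A B)) = b := by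
  obtain ⟨J, _, _, D, c, hc, hD, ⟨e⟩⟩ := hB
  let st : ∀ j, Spec (CommRingCat.of B) ⟶ Spec (D.obj j).right := fun j =>
    Spec.map (c.ι.app j ≫ e.hom).right
  have hst : ∀ j, st j ≫ Spec.map (D.obj j).hom = Spec.map (CommRingCat.ofHom (algebraMap A B)) :=
    fun j => by
      rw [← Spec.map_comp]
      exact congrArg Spec.map (Under.w (c.ι.app j ≫ e.hom))
  have hstn : ∀ {i j} (f : i ⟶ j), st j ≫ Spec.map (D.map f).right = st i := fun {i j} f => by
    rw [← Spec.map_comp]
    exact congrArg Spec.map (congrArg (fun m => m.right)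
      ((Category.assoc _ _ _).symm.trans (congrArg (· ≫ e.hom) (c.w f))))
  have key : ∀ j, ∃ l, π ≫ l = a ≫ st j ∧ l ≫ Spec.map (D.obj j).hom = b ∧
      ∀ l', π ≫ l' = a ≫ st j → l' ≫ Spec.map (D.obj j).hom = b → l' = l := by
    intro j
    letI := (D.obj j).hom.hom.toAlgebra
    haveI : Algebra.Etale A (D.obj j).right := hD j
    haveI : Etale (Spec.map (D.obj j).hom) :=
      HasRingHomProperty.Spec_iff.mpr (RingHom.etale_algebraMap.mpr (hD j))
    obtain ⟨l, h1, h2⟩ := S0076.exists_hom_of_univHomeo (Spec.map (D.obj j).hom) π (a ≫ st j) b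
      (w.trans (by rw [Category.assoc, hst]))
    exact ⟨l, h1, h2, fun l' h1' h2' =>
      H95.TopInv.hom_ext _ π (h1'.trans h1.symm) (h2'.trans h2.symm)⟩
  choose l hl1 hl2 hlu using key
  have hnat : ∀ {i j} (f : i ⟶ j), l j ≫ Spec.map (D.map f).right = l i := fun {i j} f =>
    hlu i _ (by rw [← Category.assoc, hl1 j, Category.assoc, hstn f]) (by
      rw [Category.assoc, ← Spec.map_comp, Under.w, hl2 j])
  let d : Cocone D :=
    { pt := Under.mk (Spec.preimage b)
      ι :=
        { app := fun j => Under.homMk (Spec.preimage (l j))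
            (Spec.map_injective (by simp [hl2 j]))
          naturality := fun i j f => Under.UnderMorphism.ext (Spec.map_injective (by
            simpa using hnat f)) } }
  let F := e.inv ≫ hc.desc d
  have hF : ∀ j, (c.ι.app j ≫ e.hom) ≫ F = d.ι.app j := fun j => by simp [F]
  refine ⟨Spec.map F.right, ?_, ?_⟩
  · refine ext_of_isAffine ?_
    rw [← cancel_epi (Scheme.ΓSpecIso _).inv]
    refine (cancel_epi ((Under.forget _).map e.hom)).mp ?_
    refine (isColimitOfPreserves (Under.forget _) hc).hom_ext fun j => ?_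
    have h : ∀ (g : Y₀ ⟶ Spec (CommRingCat.of B)),
        (c.ι.app j).right ≫ e.hom.right ≫ (Scheme.ΓSpecIso _).inv ≫ g.appTop =
          (Scheme.ΓSpecIso _).inv ≫ (g ≫ st j).appTop := fun g => by
      rw [Scheme.Hom.comp_appTop]
      refine Eq.trans ?_ (Category.assoc _ _ _)
      refine Eq.trans ?_ (congrArg (· ≫ g.appTop)
        (Scheme.ΓSpecIso_inv_naturality (c.ι.app j ≫ e.hom).right))
      simp
    refine (h _).trans ((congrArg (fun r => _ ≫ Scheme.Hom.appTop r) ?_).trans (h a).symm)
    rw [Category.assoc, ← Spec.map_comp, ← Under.comp_right, hF j]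
    exact (congrArg (π ≫ ·) (Spec.map_preimage (l j))).trans (hl1 j)
  · rw [← Spec.map_comp]
    exact (congrArg Spec.map (Under.w F)).trans (Spec.map_preimage b)

lemma stableUnderGeneralization_range {R D : Type u} [CommRing R] [CommRing D] (φ : R →+* D)
    (hφ : φ.Flat) : StableUnderGeneralization (Set.range (PrimeSpectrum.comap φ)) := by
  letI := φ.toAlgebra
  haveI : Module.Flat R D := hφ
  intro x y hxy hx
  obtain ⟨x₀, rfl⟩ := hx
  haveI : x₀.asIdeal.LiesOver (PrimeSpectrum.comap φ x₀).asIdeal := ⟨rfl⟩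
  obtain ⟨y₀, -, hy₀, hover⟩ := Ideal.exists_ideal_le_liesOver_of_le (S := D) x₀.asIdeal
    ((PrimeSpectrum.le_iff_specializes _ _).mpr hxy :
      y.asIdeal ≤ (PrimeSpectrum.comap φ x₀).asIdeal)
  exact ⟨⟨y₀, hy₀⟩, PrimeSpectrum.ext hover.over.symm⟩

lemma flat_algHom {R D : Type u} [CommRing R] [CommRing D] [Algebra A' R] [Algebra A' D]
    [Algebra.WeaklyEtale A' R] [Algebra.WeaklyEtale A' D] (φ : R →ₐ[A'] D) :
    φ.toRingHom.Flat := by
  letI := φ.toRingHom.toAlgebra
  haveI : IsScalarTower A' R D := .of_algHom φ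
  haveI := WeaklyEt.Cancel.weaklyEtale A' R D
  exact (inferInstance : Module.Flat R D)

/-- A weakly etale quotient of a base change descends. -/
theorem exists_descent_of_surjective (C D : Type u) [CommRing C] [Algebra A C]
    [Algebra.WeaklyEtale A C] [CommRing D] [Algebra A D] [Algebra A' D] [IsScalarTower A A' D]
    [Algebra.WeaklyEtale A' D] (φ : A' ⊗[A] C →ₐ[A'] D) (hsurj : Function.Surjective φ) :
    ∃ (V : Type u) (_ : CommRing V) (_ : Algebra A V) (_ : Algebra.WeaklyEtale A V),
      Nonempty ((A' ⊗[A] V) ≃ₐ[A'] D) := by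
  let t : C →ₐ[A] D := (φ.restrictScalars A).comp Algebra.TensorProduct.includeRight
  let π : C →+* A' ⊗[A] C := Algebra.TensorProduct.includeRight.toRingHom
  have hπ := isHomeomorph_comap_inclRight A A' C
  have hclosed : IsClosed (Set.range (PrimeSpectrum.comap (R := A' ⊗[A] C) φ.toRingHom)) :=
    (PrimeSpectrum.isClosedEmbedding_comap_of_surjective _ (R := A' ⊗[A] C) φ.toRingHom hsurj).isClosed_range
  have hgen : StableUnderGeneralization
      (Set.range (PrimeSpectrum.comap (R := A' ⊗[A] C) φ.toRingHom)) :=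
    stableUnderGeneralization_range _ (flat_algHom A' φ)
  obtain ⟨I, hI⟩ := (PrimeSpectrum.isClosed_iff_zeroLocus_ideal _).mp
    (hπ.isClosedMap _ hclosed)
  let S : Submonoid C :=
    { carrier := {b | b - 1 ∈ I}
      one_mem' := by simp
      mul_mem' := fun {a b} (ha : a - 1 ∈ I) (hb : b - 1 ∈ I) => by
        change a * b - 1 ∈ I
        rw [show a * b - 1 = a * (b - 1) + (a - 1) by ring]
        exact I.add_mem (I.mul_mem_left a hb) ha }
  let V := Localization S
  haveI : Algebra.WeaklyEtale C V := WLocal.RetractLoc.weaklyEtale_of_isLocalization V S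
  haveI : Algebra.WeaklyEtale A V := Algebra.WeaklyEtale.trans A C V
  have hunit : ∀ s : S, IsUnit (t (s : C)) := fun s => by
    by_contra hu
    obtain ⟨m, hm, hsm⟩ := exists_max_ideal_of_mem_nonunits hu
    let P : PrimeSpectrum D := ⟨m, hm.isPrime⟩
    have hP : PrimeSpectrum.comap π (PrimeSpectrum.comap (R := A' ⊗[A] C) φ.toRingHom P) ∈
        PrimeSpectrum.zeroLocus (I : Set C) := hI ▸ ⟨_, ⟨P, rfl⟩, rfl⟩
    have h1 : t ((s : C) - 1) ∈ m := hP s.2
    rw [map_sub, map_one] at h1
    exact hm.ne_top ((Ideal.eq_top_iff_one m).mpr (by simpa using m.sub_mem hsm h1))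
  let tV : V →ₐ[A] D := IsLocalization.liftAlgHom (M := S) (f := t) hunit
  let ψ : A' ⊗[A] V →ₐ[A'] D :=
    Algebra.TensorProduct.lift (Algebra.ofId A' D) tV fun _ _ => Commute.all _ _
  let κ : A' ⊗[A] C →ₐ[A'] A' ⊗[A] V :=
    Algebra.TensorProduct.map (AlgHom.id A' A') (IsScalarTower.toAlgHom A C V)
  have hψκ : ψ.comp κ = φ := Algebra.TensorProduct.ext (Subsingleton.elim _ _)
    (AlgHom.ext fun x => by simp [ψ, κ, tV, t])
  refine ⟨V, inferInstance, inferInstance, inferInstance, ?_⟩
  have hψs : Function.Surjective ψ := fun d => by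
    obtain ⟨x, rfl⟩ := hsurj d
    exact ⟨κ x, congr($hψκ x)⟩
  have hψi : Function.Injective ψ := by
    refine (?_ : RingHom.FaithfullyFlat (R := A' ⊗[A] V) ψ.toRingHom).injective
    refine RingHom.FaithfullyFlat.iff_flat_and_comap_surjective.mpr
      ⟨flat_algHom A' ψ, fun P => ?_⟩
    let πV : V →+* A' ⊗[A] V := Algebra.TensorProduct.includeRight.toRingHom
    let p := PrimeSpectrum.comap (algebraMap C V) (PrimeSpectrum.comap πV P)
    have hsq : (κ.toRingHom : A' ⊗[A] C →+* A' ⊗[A] V).comp π = πV.comp (algebraMap C V) :=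
      RingHom.ext fun x => by simp [κ, π, πV]
    have hpI : (I ⊔ p.asIdeal) ≠ ⊤ := fun htop => by
      obtain ⟨i, hi, q, hq, hiq⟩ := Submodule.mem_sup.mp ((Ideal.eq_top_iff_one _).mp htop)
      have hqS : q ∈ S := by
        change q - 1 ∈ I
        rw [show q - 1 = -i by rw [← hiq]; ring]
        exact I.neg_mem hi
      exact (PrimeSpectrum.comap πV P).isPrime.ne_top
        (Ideal.eq_top_of_isUnit_mem _ hq (IsLocalization.map_units V ⟨q, hqS⟩))
    obtain ⟨m, hm, hIm⟩ := Ideal.exists_le_maximal _ hpI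
    have hpm : p ⤳ (⟨m, hm.isPrime⟩ : PrimeSpectrum C) :=
      (PrimeSpectrum.le_iff_specializes _ _).mp (le_sup_right.trans hIm)
    have hpZ : p ∈ PrimeSpectrum.comap π ''
        Set.range (PrimeSpectrum.comap (R := A' ⊗[A] C) φ.toRingHom) := by
      obtain ⟨x, hx, hxm⟩ : (⟨m, hm.isPrime⟩ : PrimeSpectrum C) ∈ PrimeSpectrum.comap π ''
        Set.range (PrimeSpectrum.comap (R := A' ⊗[A] C) φ.toRingHom) :=
          hI ▸ (le_sup_left.trans hIm : I ≤ m)
      obtain ⟨y', hy'⟩ := hπ.surjective p
      exact ⟨y', hgen (hπ.isEmbedding.isInducing.specializes_iff.mp (hy' ▸ hxm ▸ hpm)) hx, hy'⟩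
    obtain ⟨_, ⟨R, rfl⟩, hR⟩ := hpZ
    refine ⟨R, injective_comap_inclRight A A' V
      (PrimeSpectrum.localization_comap_injective V S ?_)⟩
    change PrimeSpectrum.comap (algebraMap C V) (PrimeSpectrum.comap πV
      (PrimeSpectrum.comap (R := A' ⊗[A] V) ψ.toRingHom R)) = p
    rw [← hR, ← PrimeSpectrum.comap_comp_apply (algebraMap C V) πV, ← hsq,
      PrimeSpectrum.comap_comp_apply,
      ← PrimeSpectrum.comap_comp_apply (R := A' ⊗[A] C) κ.toRingHom]
    refine congrArg (fun r : A' ⊗[A] C →+* D => PrimeSpectrum.comap π (PrimeSpectrum.comap r R)) ?_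
    exact congrArg (fun h : A' ⊗[A] C →ₐ[A'] D => (h.toRingHom : A' ⊗[A] C →+* D)) hψκ
  exact ⟨AlgEquiv.ofBijective ψ ⟨hψi, hψs⟩⟩

/-- Ind-etale w-contractible algebras over the target descend. -/
theorem exists_descent (D : Type u) [CommRing D] [Algebra A' D] (hD : EtPBC.IsIndEtale A' D)
    (hwc : EtPBC.IsWContractible D) :
    ∃ (V : Type u) (_ : CommRing V) (_ : Algebra A V) (_ : Algebra.WeaklyEtale A V),
      Nonempty ((A' ⊗[A] V) ≃ₐ[A'] D) := by
  letI : Algebra A D := ((algebraMap A' D).comp (algebraMap A A')).toAlgebra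
  haveI : IsScalarTower A A' D := .of_algebraMap_eq fun _ => rfl
  let C := IndEtale.BigTensor.Cover A D
  let t : C →ₐ[A] D := IndEtale.BigTensor.toB
  let φ : A' ⊗[A] C →ₐ[A'] D :=
    Algebra.TensorProduct.lift (Algebra.ofId A' D) t fun _ _ => Commute.all _ _
  have hφtmul : ∀ a x, φ (a ⊗ₜ x) = algebraMap A' D a * t x := fun a x => by simp [φ]
  have hsurj : Function.Surjective φ := by
    intro d
    obtain ⟨E', _, _, hE', u, v, huv⟩ := IndEtale.Basic.factors hD (Polynomial A') inferInstance
      (Polynomial.aeval d)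
    haveI : Algebra.Etale A' E' := hE'
    obtain ⟨E, _, _, _, h, hff, het⟩ := RadicialEtale.exists_faithfullyFlat (A := A) (A' := A') E'
    letI := v.toRingHom.toAlgebra
    letI := h.toRingHom.toAlgebra
    haveI : Module.FaithfullyFlat E' (A' ⊗[A] E) := hff
    haveI : Algebra.Etale E' (A' ⊗[A] E) := het
    obtain ⟨r⟩ := hwc (D ⊗[E'] (A' ⊗[A] E)) inferInstance inferInstance
    let ψ : (A' ⊗[A] E) →+* D :=
      r.toRingHom.comp Algebra.TensorProduct.includeRight.toRingHom
    have hψh : ∀ x, ψ (h x) = v x := fun x => by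
      change r ((1 : D) ⊗ₜ[E'] (algebraMap E' (A' ⊗[A] E) x)) = v x
      rw [Algebra.algebraMap_eq_smul_one, ← TensorProduct.smul_tmul, ← Algebra.algebraMap_eq_smul_one]
      exact r.commutes (v x)
    have hψa : ∀ a : A', ψ (a ⊗ₜ 1) = algebraMap A' D a := fun a => by
      have : (a ⊗ₜ (1 : E) : A' ⊗[A] E) = h (algebraMap A' E' a) := (h.commutes a).symm
      rw [this, hψh]
      exact v.commutes a
    let w : E →ₐ[A] D :=
      { ψ.comp Algebra.TensorProduct.includeRight.toRingHom with
        commutes' := fun a => by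
          change ψ ((1 : A') ⊗ₜ[A] algebraMap A E a) = algebraMap A D a
          rw [Algebra.algebraMap_eq_smul_one, ← TensorProduct.smul_tmul,
            ← Algebra.algebraMap_eq_smul_one]
          exact hψa _ }
    have hd : d = ψ (h (u Polynomial.X)) := by
      rw [hψh, ← AlgHom.comp_apply, huv, Polynomial.aeval_X]
    rw [hd]
    generalize h (u Polynomial.X) = z
    induction z with
    | zero => exact ⟨0, by rw [map_zero, map_zero]⟩
    | add x y hx hy =>
      obtain ⟨x', hx'⟩ := hx
      obtain ⟨y', hy'⟩ := hy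
      exact ⟨x' + y', by rw [map_add, map_add, hx', hy']⟩
    | tmul a x =>
      obtain ⟨z, hz⟩ := IndEtale.BigTensor.range_le E w ⟨x, rfl⟩
      refine ⟨a ⊗ₜ z, ?_⟩
      rw [hφtmul, show t z = ψ ((1 : A') ⊗ₜ x) from hz, ← hψa, ← map_mul,
        Algebra.TensorProduct.tmul_mul_tmul, mul_one, one_mul]
  haveI : Algebra.WeaklyEtale A C :=
    IndEtale.Basic.weaklyEtale (IndEtale.Basic.of_factors IndEtale.BigTensor.factorsEtale)
  haveI : Algebra.WeaklyEtale A' D := IndEtale.Basic.weaklyEtale hD
  exact exists_descent_of_surjective A A' C D φ hsurj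

end Groth.Agent.Lib.ProEt.TopInvRing
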