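import Groth.Agent.Lib.ProEt.TopInvRing
import Groth.Agent.Lib.ProEt.Covers
import Groth.Agent.Lib.ProEt.Exact
import Mathlib.AlgebraicGeometry.Morphisms.FlatMono
import Mathlib.CategoryTheory.Sites.DenseSubsite.Basic

/-!
Base change of small pro-etale sites along an integral radicial surjection is a dense subsite.
-/

set_option autoImplicit false

universe u

open CategoryTheory CategoryTheory.Limits AlgebraicGeometry Opposite TensorProduct

namespace Groth.Agent.Lib.ProEt.TopInvSite

set_option backward.isDefEq.respectTransparency.types false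
set_option linter.style.haveILetI false

variable {Z X : Scheme.{u}} (i : Z ⟶ X) [IsIntegralHom i] [UniversallyInjective i] [Surjective i]

/-- The projection of a base change. -/
noncomputable abbrev pr (U : X.ProEt) : ((ProEtS.bcP i).obj U).left ⟶ U.left := pullback.fst U.hom i

lemma pr_univHomeo (U : X.ProEt) :
    IsIntegralHom (pr i U) ∧ UniversallyInjective (pr i U) ∧ Surjective (pr i U) := by
  haveI : UniversallyInjective (pullback.fst U.hom i) :=
    MorphismProperty.pullback_fst _ _ ‹UniversallyInjective i›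
  exact ⟨(inferInstance : IsIntegralHom (pullback.fst U.hom i)), this,
    (inferInstance : Surjective (pullback.fst U.hom i))⟩

lemma map_pr {U V : X.ProEt} (g : U ⟶ V) :
    ((ProEtS.bcP i).map g).left ≫ pr i V = pr i U ≫ g.left :=
  pullback.lift_fst _ _ _

lemma hom_ext_bc {U : Z.ProEt} {V : X.ProEt} {a b : U ⟶ (ProEtS.bcP i).obj V}
    (h : a.left ≫ pr i V = b.left ≫ pr i V) : a = b := by
  refine MorphismProperty.Over.Hom.ext (pullback.hom_ext h ?_)
  exact (MorphismProperty.Over.w a).trans (MorphismProperty.Over.w b).symm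

instance faithful_bcP : (ProEtS.bcP i).Faithful where
  map_injective {U V} a b h := by
    haveI : WeaklyEtale V.hom := V.prop
    haveI : Surjective (pr i U) := (pr_univHomeo i U).2.2
    refine MorphismProperty.Over.Hom.ext ?_
    let δ := pullback.diagonal V.hom
    let l : U.left ⟶ pullback V.hom V.hom := pullback.lift a.left b.left
      ((MorphismProperty.Over.w a).trans (MorphismProperty.Over.w b).symm)
    have h0 : pr i U ≫ a.left = pr i U ≫ b.left :=
      (map_pr i a).symm.trans ((congrArg (fun t => t.left ≫ pr i V) h).trans (map_pr i b))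
    let m : ((ProEtS.bcP i).obj U).left ⟶ pullback l δ := pullback.lift (pr i U) (pr i U ≫ a.left) (by
      apply pullback.hom_ext
      · refine (Category.assoc _ _ _).trans ((congrArg (pr i U ≫ ·) (pullback.lift_fst _ _ _)).trans ?_)
        exact ((Category.assoc _ _ _).trans ((congrArg (_ ≫ ·) (pullback.diagonal_fst _)).trans
          (Category.comp_id _))).symm
      · refine (Category.assoc _ _ _).trans ((congrArg (pr i U ≫ ·) (pullback.lift_snd _ _ _)).trans ?_)
        exact h0.symm.trans ((Category.assoc _ _ _).trans ((congrArg (_ ≫ ·)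
          (pullback.diagonal_snd _)).trans (Category.comp_id _))).symm)
    have hm : m ≫ pullback.fst l δ = pr i U := pullback.lift_fst _ _ _
    haveI : Surjective (pullback.fst l δ) := by
      haveI : Surjective (m ≫ pullback.fst l δ) := hm ▸ inferInstance
      exact Surjective.of_comp m _
    haveI : Flat δ := inferInstance
    haveI : QuasiCompact (pullback.fst l δ) := by
      refine ⟨fun O hO hOc => ?_⟩
      haveI := (pr_univHomeo i U).1
      have hc : IsCompact ((pr i U).base ⁻¹' O) :=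
        (inferInstance : QuasiCompact (pr i U)).isCompact_preimage O hO hOc
      have : (pullback.fst l δ).base ⁻¹' O = m.base '' ((pr i U).base ⁻¹' O) := by
        refine Set.Subset.antisymm (fun x hx => ?_) ?_
        · obtain ⟨y, hy⟩ := (pr i U).surjective ((pullback.fst l δ).base x)
          refine ⟨y, show (pr i U).base y ∈ O from hy.symm ▸ hx, ?_⟩
          exact (pullback.fst l δ).injective ((congr($(hm).base y)).trans hy)
        · rintro _ ⟨y, hy, rfl⟩
          change (m ≫ pullback.fst l δ).base y ∈ O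
          rw [hm]
          exact hy
      rw [this]
      exact hc.image m.continuous
    haveI : IsIso (pullback.fst l δ) := Flat.isIso_of_surjective_of_mono _
    refine (cancel_epi (pullback.fst l δ)).mp ?_
    have e1 := congrArg (· ≫ pullback.fst V.hom V.hom) (pullback.condition (f := l) (g := δ))
    have e2 := congrArg (· ≫ pullback.snd V.hom V.hom) (pullback.condition (f := l) (g := δ))
    simp only [Category.assoc, l, δ, pullback.lift_fst, pullback.lift_snd, pullback.diagonal_fst,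
      pullback.diagonal_snd, Category.comp_id] at e1 e2
    exact e1.trans e2.symm

/-- Affine objects which are ind-etale over an open affine of the base. -/
def Nice (N : X.ProEt) : Prop :=
  ∃ (A B : CommRingCat.{u}) (j : Spec A ⟶ X) (_ : IsOpenImmersion j) (φ : A ⟶ B)
    (e : Spec B ⟶ N.left), IsIso e ∧ (letI := φ.hom.toAlgebra; EtPBC.IsIndEtale A B) ∧
      e ≫ N.hom = Spec.map φ ≫ j

/-- Morphisms of base changes into nice objects descend. -/
theorem exists_descend {M N : X.ProEt} [IsAffine M.left] (hN : Nice N)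
    (b : (ProEtS.bcP i).obj M ⟶ (ProEtS.bcP i).obj N) :
    ∃ a : M ⟶ N, (ProEtS.bcP i).map a = b := by
  obtain ⟨A, B, j, hj, φ, e, he, hB, hw⟩ := hN
  obtain ⟨h1, h2, h3⟩ := pr_univHomeo i M
  let π := pr i M
  let a₀ : ((ProEtS.bcP i).obj M).left ⟶ Spec B := b.left ≫ pr i N ≫ inv e
  have hw₀ : π ≫ M.hom = (a₀ ≫ Spec.map φ) ≫ j := by
    have hb : b.left ≫ pullback.snd N.hom i = pullback.snd M.hom i := MorphismProperty.Over.w b
    simp only [a₀, Category.assoc, ← hw, IsIso.inv_hom_id_assoc]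
    refine pullback.condition.trans (Eq.trans ?_ (congrArg (b.left ≫ ·) pullback.condition.symm))
    exact (congrArg (· ≫ i) hb).symm.trans (Category.assoc _ _ _)
  have hr : Set.range M.hom.base ⊆ Set.range j.base := by
    rintro _ ⟨m, rfl⟩
    obtain ⟨z, rfl⟩ := π.surjective m
    exact ⟨(a₀ ≫ Spec.map φ).base z, (congr($(hw₀).base z)).symm⟩
  let m := IsOpenImmersion.lift j M.hom hr
  have hm : m ≫ j = M.hom := IsOpenImmersion.lift_fac _ _ _
  let e' := M.left.isoSpec
  haveI : UniversallyInjective π := h2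
  haveI : UniversallyInjective (π ≫ e'.hom) :=
    (MorphismProperty.cancel_right_of_respectsIso @UniversallyInjective _ _).mpr h2
  haveI : IsIntegralHom (π ≫ e'.hom) :=
    (MorphismProperty.cancel_right_of_respectsIso @IsIntegralHom _ _).mpr h1
  haveI : Surjective (π ≫ e'.hom) :=
    (MorphismProperty.cancel_right_of_respectsIso @Surjective _ _).mpr h3
  letI := φ.hom.toAlgebra
  obtain ⟨l, hl1, hl2⟩ := TopInvRing.exists_lift A B hB (π ≫ e'.hom) a₀ (e'.inv ≫ m) (by
    rw [Category.assoc, Iso.hom_inv_id_assoc, ← cancel_mono j, Category.assoc, hm]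
    exact hw₀)
  have hl2' : l ≫ Spec.map φ = e'.inv ≫ m := hl2
  refine ⟨MorphismProperty.Over.homMk (e'.hom ≫ l ≫ e) ?_, hom_ext_bc i ?_⟩
  · simp only [Category.assoc, hw, reassoc_of% hl2', hm, Iso.hom_inv_id_assoc]
  · refine (map_pr i _).trans ?_
    change π ≫ e'.hom ≫ l ≫ e = b.left ≫ pr i N
    rw [← Category.assoc π, ← Category.assoc (π ≫ e'.hom), hl1]
    simp [a₀]

lemma isIndEtale_ofHom {A B : Type u} [CommRing A] [CommRing B] [inst : Algebra A B]
    (h : EtPBC.IsIndEtale A B) :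
    letI : Algebra A B := (CommRingCat.ofHom (algebraMap A B)).hom.toAlgebra
    EtPBC.IsIndEtale A B := by
  have e : (CommRingCat.ofHom (algebraMap A B)).hom.toAlgebra = inst :=
    Algebra.algebra_ext _ _ fun _ => rfl
  change @EtPBC.IsIndEtale A B _ _ (CommRingCat.ofHom (algebraMap A B)).hom.toAlgebra
  rw [e]
  exact h

/-- Nice covers. -/
theorem exists_nice_cover (U : X.ProEt) :
    ∃ (κ : Type u) (P : κ → X.ProEt) (g : ∀ k, P k ⟶ U), (∀ k, IsAffine (P k).left) ∧
      (∀ k, Nice (P k)) ∧ Sieve.ofArrows P g ∈ Scheme.ProEt.topology X U := by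
  have hpt : ∀ x : U.left, ∃ (O : X.Opens) (T : U.left.Opens), IsAffineOpen O ∧ IsAffineOpen T ∧
      x ∈ T ∧ T ≤ U.hom ⁻¹ᵁ O := fun x => by
    obtain ⟨O, hO, hx, -⟩ := exists_isAffineOpen_mem_and_subset
      (TopologicalSpace.Opens.mem_top (U.hom.base x))
    obtain ⟨T, hT, hxT, hTO⟩ := exists_isAffineOpen_mem_and_subset (U := U.hom ⁻¹ᵁ O) hx
    exact ⟨O, T, hO, hT, hxT, hTO⟩
  choose O T hO hT hx hTO using hpt
  have hgo : ∀ x : U.left, ∃ (P : X.ProEt) (g : P ⟶ U), IsAffine P.left ∧ Nice P ∧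
      Set.range g.left.base = (T x : Set ↥U.left) := fun x => by
    let φ : Γ(X, O x) ⟶ Γ(U.left, T x) := U.hom.appLE (O x) (T x) (hTO x)
    haveI : WeaklyEtale U.hom := U.prop
    letI : Algebra ↥Γ(X, O x) ↥Γ(U.left, T x) := φ.hom.toAlgebra
    have hwe₀ : Algebra.WeaklyEtale Γ(X, O x) Γ(U.left, T x) := by
      have := Basic.weaklyEtale_SpecMap_iff' φ
      refine this.mp ?_
      haveI : IsOpenImmersion (hT x).fromSpec := (hT x).isOpenImmersion_fromSpec
      haveI : IsOpenImmersion (hO x).fromSpec := (hO x).isOpenImmersion_fromSpec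
      haveI : WeaklyEtale (Spec.map φ ≫ (hO x).fromSpec) := by
        rw [(hO x).SpecMap_appLE_fromSpec U.hom (hT x) (hTO x)]
        infer_instance
      exact MorphismProperty.of_postcomp (W := @WeaklyEtale) (W' := @WeaklyEtale) _
        (hO x).fromSpec inferInstance inferInstance
    obtain ⟨B', _, _, _, _, hff, -, hind⟩ :=
      WLocal.Contract.exists_indEtale_cover Γ(X, O x) Γ(U.left, T x)
    let e : Spec (CommRingCat.of B') ⟶ Spec Γ(U.left, T x) :=
      Spec.map (CommRingCat.ofHom (algebraMap ↥Γ(U.left, T x) B'))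
    let ψ : Γ(X, O x) ⟶ CommRingCat.of B' := CommRingCat.ofHom (algebraMap Γ(X, O x) B')
    have he : e ≫ Spec.map φ = Spec.map ψ := by
      rw [← Spec.map_comp]
      exact congrArg Spec.map (CommRingCat.hom_ext (RingHom.ext fun a =>
        (IsScalarTower.algebraMap_apply Γ(X, O x) Γ(U.left, T x) B' a).symm))
    haveI : WeaklyEtale (Spec.map ψ) :=
      Basic.weaklyEtale_SpecMap_iff.mpr (IndEtale.Basic.weaklyEtale hind)
    haveI : IsOpenImmersion (hO x).fromSpec := (hO x).isOpenImmersion_fromSpec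
    refine ⟨Scheme.ProEt.mk (Spec.map ψ ≫ (hO x).fromSpec),
      MorphismProperty.Over.homMk (e ≫ (hT x).fromSpec) ?_,
      (inferInstance : IsAffine (Spec (CommRingCat.of B'))), ⟨_, _, (hO x).fromSpec, inferInstance, ψ,
        𝟙 _, IsIso.id _, ?_, Category.id_comp _⟩, ?_⟩
    · change (e ≫ (hT x).fromSpec) ≫ U.hom = Spec.map ψ ≫ (hO x).fromSpec
      rw [Category.assoc, ← (hO x).SpecMap_appLE_fromSpec U.hom (hT x) (hTO x), ← Category.assoc, he]
    · exact isIndEtale_ofHom hind
    · change Set.range (e ≫ (hT x).fromSpec : Spec (CommRingCat.of B') ⟶ U.left).base = _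
      have hse : Function.Surjective e.base :=
        PrimeSpectrum.comap_surjective_of_faithfullyFlat (A := ↥Γ(U.left, T x)) (B := B')
      rw [Scheme.Hom.comp_base, TopCat.coe_comp, Set.range_comp, hse.range_eq, Set.image_univ]
      exact (hT x).range_fromSpec
  choose P g hP hN hg using hgo
  haveI := hP
  exact ⟨U.left, P, g, hP, hN, Covers.fam_mem g T hT hg (top_le_iff.mp fun x _ =>
    TopologicalSpace.Opens.mem_iSup.mpr ⟨x, hx x⟩)⟩

/-- Every object is covered by base changes of affine objects. -/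
theorem exists_dense_cover (W : Z.ProEt) :
    ∃ (κ : Type u) (V : κ → X.ProEt) (g : ∀ k, (ProEtS.bcP i).obj (V k) ⟶ W),
      (∀ k, IsAffine (V k).left) ∧ Sieve.ofArrows _ g ∈ Scheme.ProEt.topology Z W := by
  have hpt : ∀ w : W.left, ∃ (O : X.Opens) (T : W.left.Opens), IsAffineOpen O ∧ IsAffineOpen T ∧
      w ∈ T ∧ T ≤ W.hom ⁻¹ᵁ (i ⁻¹ᵁ O) := fun w => by
    obtain ⟨O, hO, hx, -⟩ := exists_isAffineOpen_mem_and_subset
      (TopologicalSpace.Opens.mem_top (i.base (W.hom.base w)))
    obtain ⟨T, hT, hxT, hTO⟩ := exists_isAffineOpen_mem_and_subset (U := W.hom ⁻¹ᵁ (i ⁻¹ᵁ O)) hx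
    exact ⟨O, T, hO, hT, hxT, hTO⟩
  choose O T hO hT hx hTO using hpt
  have hgo : ∀ w : W.left, ∃ (V : X.ProEt) (g : (ProEtS.bcP i).obj V ⟶ W), IsAffine V.left ∧
      Set.range g.left.base = (T w : Set ↥W.left) := fun w => by
    have hB : IsAffineOpen (i ⁻¹ᵁ O w) := (hO w).preimage i
    let q : Γ(X, O w) ⟶ Γ(Z, i ⁻¹ᵁ O w) := i.appLE (O w) (i ⁻¹ᵁ O w) le_rfl
    let φ : Γ(Z, i ⁻¹ᵁ O w) ⟶ Γ(W.left, T w) := W.hom.appLE (i ⁻¹ᵁ O w) (T w) (hTO w)
    haveI : IsOpenImmersion (hO w).fromSpec := (hO w).isOpenImmersion_fromSpec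
    haveI : IsOpenImmersion hB.fromSpec := hB.isOpenImmersion_fromSpec
    haveI : IsOpenImmersion (hT w).fromSpec := (hT w).isOpenImmersion_fromSpec
    have hsq : IsPullback hB.fromSpec (Spec.map q) i (hO w).fromSpec := by
      refine (IsOpenImmersion.isPullback _ _ _ _ ?_ ?_).flip
      · exact ((hO w).SpecMap_appLE_fromSpec i hB le_rfl).symm
      · rw [(hO w).opensRange_fromSpec, hB.opensRange_fromSpec]
    letI : Algebra ↥Γ(X, O w) ↥Γ(Z, i ⁻¹ᵁ O w) := q.hom.toAlgebra
    have hq : CommRingCat.ofHom (algebraMap Γ(X, O w) Γ(Z, i ⁻¹ᵁ O w)) = q := rfl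
    haveI : IsIntegralHom (Spec.map (CommRingCat.ofHom (algebraMap Γ(X, O w) Γ(Z, i ⁻¹ᵁ O w)))) :=
      MorphismProperty.of_isPullback (P := @IsIntegralHom) hsq ‹_›
    haveI : UniversallyInjective
        (Spec.map (CommRingCat.ofHom (algebraMap Γ(X, O w) Γ(Z, i ⁻¹ᵁ O w)))) :=
      MorphismProperty.of_isPullback (P := @UniversallyInjective) hsq ‹_›
    haveI : Surjective (Spec.map (CommRingCat.ofHom (algebraMap Γ(X, O w) Γ(Z, i ⁻¹ᵁ O w)))) :=
      MorphismProperty.of_isPullback (P := @Surjective) hsq ‹_›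
    haveI : WeaklyEtale W.hom := W.prop
    letI : Algebra ↥Γ(Z, i ⁻¹ᵁ O w) ↥Γ(W.left, T w) := φ.hom.toAlgebra
    have hwe₀ : Algebra.WeaklyEtale Γ(Z, i ⁻¹ᵁ O w) Γ(W.left, T w) := by
      refine (Basic.weaklyEtale_SpecMap_iff' φ).mp ?_
      haveI : WeaklyEtale (Spec.map φ ≫ hB.fromSpec) := by
        rw [hB.SpecMap_appLE_fromSpec W.hom (hT w) (hTO w)]
        infer_instance
      exact MorphismProperty.of_postcomp (W := @WeaklyEtale) (W' := @WeaklyEtale) _
        hB.fromSpec inferInstance inferInstance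
    obtain ⟨B', _, _, _, _, hff, -, hind⟩ :=
      WLocal.Contract.exists_indEtale_cover Γ(Z, i ⁻¹ᵁ O w) Γ(W.left, T w)
    obtain ⟨D, _, _, hffD, hindD, hwc⟩ := WLocal.Contract.exists_wContractible B'
    letI : Algebra Γ(Z, i ⁻¹ᵁ O w) D :=
      ((algebraMap B' D).comp (algebraMap Γ(Z, i ⁻¹ᵁ O w) B')).toAlgebra
    haveI : IsScalarTower Γ(Z, i ⁻¹ᵁ O w) B' D := .of_algebraMap_eq fun _ => rfl
    obtain ⟨V, _, _, hV, ⟨ε⟩⟩ := TopInvRing.exists_descent Γ(X, O w) Γ(Z, i ⁻¹ᵁ O w) D
      (IndEtale.Basic.trans hind hindD) hwc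
    let ψ : Γ(X, O w) ⟶ CommRingCat.of V := CommRingCat.ofHom (algebraMap Γ(X, O w) V)
    haveI : WeaklyEtale (Spec.map ψ) := Basic.weaklyEtale_SpecMap_iff.mpr hV
    let e : Spec (CommRingCat.of D) ⟶ Spec Γ(W.left, T w) :=
      Spec.map (CommRingCat.ofHom ((algebraMap B' D).comp (algebraMap ↥Γ(W.left, T w) B')))
    have he : e ≫ Spec.map φ =
        Spec.map (CommRingCat.ofHom (algebraMap Γ(Z, i ⁻¹ᵁ O w) D)) := by
      rw [← Spec.map_comp]
      exact congrArg Spec.map (CommRingCat.hom_ext (RingHom.ext fun a => congrArg (algebraMap B' D)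
        (IsScalarTower.algebraMap_apply Γ(Z, i ⁻¹ᵁ O w) Γ(W.left, T w) B' a).symm))
    let εs : Spec (CommRingCat.of D) ≅
        Spec (CommRingCat.of (Γ(Z, i ⁻¹ᵁ O w) ⊗[Γ(X, O w)] V)) :=
      Scheme.Spec.mapIso (ε.toRingEquiv.toCommRingCatIso.op)
    let k : Spec (CommRingCat.of D) ≅ pullback (Spec.map q) (Spec.map ψ) :=
      εs ≪≫ (pullbackSpecIso Γ(X, O w) Γ(Z, i ⁻¹ᵁ O w) V).symm
    have hk : k.hom ≫ pullback.fst (Spec.map q) (Spec.map ψ) =
        Spec.map (CommRingCat.ofHom (algebraMap Γ(Z, i ⁻¹ᵁ O w) D)) := by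
      refine (Category.assoc _ _ _).trans ?_
      refine (congrArg (εs.hom ≫ ·) (pullbackSpecIso_inv_fst _ _ _)).trans ?_
      refine (Spec.map_comp _ _).symm.trans (congrArg Spec.map ?_)
      exact CommRingCat.hom_ext (RingHom.ext ε.commutes)
    have hP : IsPullback (k.hom ≫ pullback.snd (Spec.map q) (Spec.map ψ))
        (Spec.map (CommRingCat.ofHom (algebraMap Γ(Z, i ⁻¹ᵁ O w) D)) ≫ hB.fromSpec)
        (Spec.map ψ ≫ (hO w).fromSpec) i := by
      refine IsPullback.paste_vert ?_ hsq.flip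
      exact IsPullback.of_iso (IsPullback.of_hasPullback (Spec.map q) (Spec.map ψ)).flip k.symm
        (Iso.refl _) (Iso.refl _) (Iso.refl _) (by simp) (by simp [← hk]) (by simp) (by simp)
    let Vo : X.ProEt := Scheme.ProEt.mk (Spec.map ψ ≫ (hO w).fromSpec)
    refine ⟨Vo, MorphismProperty.Over.homMk (hP.isoPullback.inv ≫ e ≫ (hT w).fromSpec) ?_,
      (inferInstance : IsAffine (Spec (CommRingCat.of V))), ?_⟩
    · change (hP.isoPullback.inv ≫ e ≫ (hT w).fromSpec) ≫ W.hom =
        pullback.snd (Spec.map ψ ≫ (hO w).fromSpec) i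
      rw [Category.assoc, Category.assoc, ← hB.SpecMap_appLE_fromSpec W.hom (hT w) (hTO w),
        ← Category.assoc e, he]
      exact hP.isoPullback_inv_snd
    · change Set.range (hP.isoPullback.inv ≫ e ≫ (hT w).fromSpec).base = _
      have hse : Function.Surjective e.base := by
        haveI : Module.FaithfullyFlat B' D := hffD
        exact fun p => by
          obtain ⟨p', rfl⟩ := PrimeSpectrum.comap_surjective_of_faithfullyFlat
            (A := ↥Γ(W.left, T w)) (B := B') p
          obtain ⟨p'', rfl⟩ := PrimeSpectrum.comap_surjective_of_faithfullyFlat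
            (A := B') (B := D) p'
          exact ⟨p'', rfl⟩
      have hsi : Function.Surjective hP.isoPullback.inv.base := hP.isoPullback.inv.surjective
      rw [Scheme.Hom.comp_base, TopCat.coe_comp, Set.range_comp, hsi.range_eq, Set.image_univ,
        Scheme.Hom.comp_base, TopCat.coe_comp, Set.range_comp, hse.range_eq, Set.image_univ]
      exact (hT w).range_fromSpec
  choose V g hV hg using hgo
  haveI : ∀ w, IsAffine ((ProEtS.bcP i).obj (V w)).left := fun w => by
    haveI := hV w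
    haveI := (pr_univHomeo i (V w)).1
    exact isAffine_of_isAffineHom (pr i (V w))
  exact ⟨W.left, V, g, hV, Covers.fam_mem g T hT hg (top_le_iff.mp fun x _ =>
    TopologicalSpace.Opens.mem_iSup.mpr ⟨x, hx x⟩)⟩

variable [ProEtS.PCont i]

instance isCoverDense_bcP : (ProEtS.bcP i).IsCoverDense (Scheme.ProEt.topology Z) where
  is_cover W := by
    obtain ⟨κ, V, g, -, hmem⟩ := exists_dense_cover i W
    refine GrothendieckTopology.superset_covering _ ?_ hmem
    rw [Sieve.ofArrows, Sieve.generate_le_iff]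
    rintro _ _ ⟨k⟩
    exact ⟨⟨V k, 𝟙 _, g k, Category.id_comp _⟩⟩

lemma cover_bcP {U : X.ProEt} {S : Sieve U} (hS : S ∈ Scheme.ProEt.topology X U) :
    S.functorPushforward (ProEtS.bcP i) ∈ Scheme.ProEt.topology Z ((ProEtS.bcP i).obj U) :=
  (CoverPreserving.of_isContinuous (ProEtS.bcP i) (Scheme.ProEt.topology X)
    (Scheme.ProEt.topology Z)).cover_preserve hS

instance isLocallyFull_bcP : (ProEtS.bcP i).IsLocallyFull (Scheme.ProEt.topology Z) where
  functorPushforward_imageSieve_mem {U V} f := by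
    obtain ⟨κ, N, gN, -, hN, hNmem⟩ := exists_nice_cover V
    obtain ⟨μ, M, gM, -, hM, hMmem⟩ := exists_nice_cover U
    refine GrothendieckTopology.transitive _ ((Scheme.ProEt.topology Z).intersection_covering
      ((Scheme.ProEt.topology Z).pullback_stable f (cover_bcP i hNmem)) (cover_bcP i hMmem)) _
      fun R h ⟨hR₁, hR₂⟩ => ?_
    obtain ⟨ν, L, gL, hL, hLmem⟩ := exists_dense_cover i R
    refine GrothendieckTopology.superset_covering _ ?_ hLmem
    rw [Sieve.ofArrows, Sieve.generate_le_iff]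
    rintro _ _ ⟨l⟩
    haveI := hL l
    obtain ⟨N', a, b, ha, hab⟩ := hR₁
    obtain ⟨_, q, _, ⟨k⟩, rfl⟩ := ha
    obtain ⟨M', c, d, hc, hcd⟩ := hR₂
    obtain ⟨_, p, _, ⟨m⟩, rfl⟩ := hc
    obtain ⟨α, hα⟩ := exists_descend i (hN k) (gL l ≫ b ≫ (ProEtS.bcP i).map q)
    obtain ⟨β, hβ⟩ := exists_descend i (hM m) (gL l ≫ d ≫ (ProEtS.bcP i).map p)
    refine ⟨L l, β ≫ gM m, 𝟙 _, ⟨α ≫ gN k, ?_⟩, ?_⟩
    · rw [Functor.map_comp, Functor.map_comp, hα, hβ]
      simp only [Category.assoc, ← Functor.map_comp, ← hab, ← hcd]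
    · rw [Category.id_comp, Functor.map_comp, hβ]
      simp only [Category.assoc, ← Functor.map_comp, ← hcd]

set_option maxHeartbeats 800000 in
/-- A sieve whose base change covers is a covering. -/
theorem mem_of_functorPushforward_mem {U : X.ProEt} {S : Sieve U}
    (hS : S.functorPushforward (ProEtS.bcP i) ∈ Scheme.ProEt.topology Z ((ProEtS.bcP i).obj U)) :
    S ∈ Scheme.ProEt.topology X U := by
  have hfam : Sieve.ofArrows _ (fun W : U.left.affineOpens => Decomp.incl U W.1) ∈
      Scheme.ProEt.topology X U := by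
    haveI : ∀ W : U.left.affineOpens, IsAffine (Decomp.piece U W.1).left := fun W => W.2
    exact Covers.fam_mem _ (fun W : U.left.affineOpens => W.1) (fun W => W.2)
      (fun W => Scheme.Opens.range_ι W.1) (iSup_affineOpens_eq_top U.left)
  refine GrothendieckTopology.transitive _ hfam _ fun P f hf => ?_
  obtain ⟨_, a, _, ⟨W⟩, rfl⟩ := hf
  rw [Sieve.pullback_comp]
  refine GrothendieckTopology.pullback_stable _ a ?_
  haveI : IsAffine (Decomp.piece U W.1).left := W.2
  haveI := (pr_univHomeo i (Decomp.piece U W.1)).1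
  haveI : IsAffine ((ProEtS.bcP i).obj (Decomp.piece U W.1)).left :=
    isAffine_of_isAffineHom (pr i (Decomp.piece U W.1))
  obtain ⟨n, Q, g, hQ, hg, hcov⟩ := Basic.exists_finite_refinement
    ((Scheme.ProEt.topology Z).pullback_stable ((ProEtS.bcP i).map (Decomp.incl U W.1)) hS)
  choose U' h' f hf hfac using hg
  have he : ∀ k, (f k).left ≫ pr i (U' k) ≫ (h' k).left =
      ((g k).left ≫ pr i (Decomp.piece U W.1)) ≫ W.1.ι := fun k => by
    have e₁ := congrArg (fun t => t.left ≫ pr i U) (hfac k)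
    have e₂ : ((ProEtS.bcP i).map (Decomp.incl U W.1)).left ≫ pr i U =
        pr i (Decomp.piece U W.1) ≫ W.1.ι := map_pr i _
    have e₁' : ((f k).left ≫ ((ProEtS.bcP i).map (h' k)).left) ≫ pr i U =
        ((g k).left ≫ ((ProEtS.bcP i).map (Decomp.incl U W.1)).left) ≫ pr i U := e₁.symm
    refine Eq.trans (Eq.trans (congrArg ((f k).left ≫ ·) (map_pr i (h' k)).symm) ?_)
      (Category.assoc _ _ _).symm
    exact ((Category.assoc _ _ _).symm.trans e₁').trans
      ((Category.assoc _ _ _).trans (congrArg ((g k).left ≫ ·) e₂))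
  have key : ∀ k : Fin n, ∃ t : Finset (U' k).left.Opens,
      (∀ T ∈ t, IsAffineOpen T ∧ T ≤ (h' k).left ⁻¹ᵁ W.1) ∧
      ∀ q, ∃ T ∈ t, (pr i (U' k)).base ((f k).left.base q) ∈ T := fun k => by
    haveI := hQ k
    let K : Set (U' k).left := Set.range fun q => (pr i (U' k)).base ((f k).left.base q)
    have hK : IsCompact K := isCompact_range ((pr i (U' k)).continuous.comp (f k).left.continuous)
    have hKW : ∀ x ∈ K, (h' k).left.base x ∈ W.1 := by
      rintro _ ⟨q, rfl⟩
      change ((f k).left ≫ pr i (U' k) ≫ (h' k).left).base q ∈ W.1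
      rw [he k]
      exact (((g k).left ≫ pr i (Decomp.piece U W.1)).base q).2
    let S₀ := {T : (U' k).left.Opens // IsAffineOpen T ∧ T ≤ (h' k).left ⁻¹ᵁ W.1}
    obtain ⟨t, ht⟩ := hK.elim_finite_subcover (fun T : S₀ => (T.1 : Set (U' k).left))
      (fun T => T.1.2) fun x hx => by
        obtain ⟨T, hT, hxT, hTW⟩ := exists_isAffineOpen_mem_and_subset
          (U := (h' k).left ⁻¹ᵁ W.1) (hKW x hx)
        exact Set.mem_iUnion.mpr ⟨⟨T, hT, hTW⟩, hxT⟩
    classical
    refine ⟨t.image Subtype.val, fun T hT => ?_, fun q => ?_⟩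
    · obtain ⟨T, -, rfl⟩ := Finset.mem_image.mp hT
      exact T.2
    · obtain ⟨T', hT', hq⟩ := Set.mem_iUnion₂.mp (ht ⟨q, rfl⟩)
      exact ⟨T'.1, Finset.mem_image_of_mem _ hT', hq⟩
  choose t ht hcovt using key
  let σ := Σ k : Fin n, Fin (t k).card
  let T : ∀ s : σ, (U' s.1).left.Opens := fun s => ((t s.1).equivFin.symm s.2).1
  have hT : ∀ s : σ, IsAffineOpen (T s) ∧ T s ≤ (h' s.1).left ⁻¹ᵁ W.1 :=
    fun s => ht _ _ ((t s.1).equivFin.symm s.2).2
  let jW : (W.1 : U.left.Opens).toScheme ⟶ U.left := (W.1 : U.left.Opens).ι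
  haveI hjW : IsOpenImmersion jW := Scheme.Opens.instIsOpenImmersionι _
  have hl : ∀ s : σ, Set.range ((T s).ι ≫ (h' s.1).left).base ⊆ Set.range jW.base := fun s => by
    rintro _ ⟨x, rfl⟩
    rw [show Set.range jW.base = ((W.1 : U.left.Opens) : Set U.left) from Scheme.Opens.range_ι _]
    exact (hT s).2 x.2
  let l := fun s : σ => IsOpenImmersion.lift jW ((T s).ι ≫ (h' s.1).left) (hl s)
  have hlf : ∀ s : σ, l s ≫ jW = (T s).ι ≫ (h' s.1).left := fun s => IsOpenImmersion.lift_fac _ _ _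
  let m : ∀ s : σ, Decomp.piece (U' s.1) (T s) ⟶ Decomp.piece U W.1 := fun s =>
    MorphismProperty.Over.homMk (l s) ((Category.assoc (l s) jW U.hom).symm.trans
      ((congrArg (· ≫ U.hom) (hlf s)).trans ((Category.assoc _ _ _).trans
        (congrArg ((T s).ι ≫ ·) (MorphismProperty.Over.w (h' s.1))))))
  have hm : ∀ s : σ, m s ≫ Decomp.incl U W.1 = Decomp.incl (U' s.1) (T s) ≫ h' s.1 := fun s => by
    apply MorphismProperty.Over.Hom.ext
    exact hlf s
  haveI : ∀ s : σ, QuasiCompact (m s).left := fun s => by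
    haveI : IsAffine (Decomp.piece (U' s.1) (T s)).left := (hT s).1
    exact quasiCompact_of_compactSpace (m s).left
  refine GrothendieckTopology.superset_covering _ ?_ (Basic.ofArrows_mem m ?_)
  · rw [Sieve.ofArrows, Sieve.generate_le_iff]
    rintro _ _ ⟨s⟩
    change S (m s ≫ Decomp.incl U W.1)
    rw [hm]
    exact S.downward_closed (hf s.1) _
  · refine Set.eq_univ_of_forall fun y => ?_
    haveI := (pr_univHomeo i (Decomp.piece U W.1)).2.2
    obtain ⟨z, rfl⟩ := (pr i (Decomp.piece U W.1)).surjective y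
    obtain ⟨k, q, rfl⟩ := Set.mem_iUnion.mp (hcov.ge (Set.mem_univ z))
    obtain ⟨T₀, hT₀, hq⟩ := hcovt k q
    let s : σ := ⟨k, (t k).equivFin ⟨T₀, hT₀⟩⟩
    have hs : (pr i (U' k)).base ((f k).left.base q) ∈ T s := by
      have : T s = T₀ := congrArg Subtype.val ((t k).equivFin.symm_apply_apply ⟨T₀, hT₀⟩)
      rw [this]
      exact hq
    refine Set.mem_iUnion.mpr ⟨s, ⟨_, hs⟩, W.1.ι.isOpenEmbedding.injective ?_⟩
    exact (congr($(hlf s).base ⟨_, hs⟩)).trans (congr($(he k).base q))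

theorem isDenseSubsite_bcP : (ProEtS.bcP i).IsDenseSubsite (Scheme.ProEt.topology X)
    (Scheme.ProEt.topology Z) where
  functorPushforward_mem_iff := ⟨mem_of_functorPushforward_mem i, cover_bcP i⟩

end Groth.Agent.Lib.ProEt.TopInvSite
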