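import Groth.Agent.Lib.ProEt.LanPieces
import Groth.Agent.Lib.ProEt.GoodHom
import Mathlib.CategoryTheory.Sites.Pullback

/-!
Set valued pullback along a closed immersion on w-contractible affine objects.
-/

set_option autoImplicit false

universe u

open CategoryTheory CategoryTheory.Limits AlgebraicGeometry Opposite

namespace Groth.Agent.Lib.ProEt.TypePull

set_option backward.isDefEq.respectTransparency.types false

variable {Z X : Scheme.{u}} (i : Z ⟶ X) [ProEtS.PCont i]

/-- The set valued pullback. -/
noncomputable abbrev R : Sheaf (Scheme.ProEt.topology X) (Type (u + 1)) ⥤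
    Sheaf (Scheme.ProEt.topology Z) (Type (u + 1)) :=
  (ProEtS.bcP i).sheafPullback (Type (u + 1)) (Scheme.ProEt.topology X) (Scheme.ProEt.topology Z)

/-- The unit. -/
noncomputable abbrev adj :=
  (ProEtS.bcP i).sheafAdjunctionContinuous (Type (u + 1)) (Scheme.ProEt.topology X)
    (Scheme.ProEt.topology Z)

variable (G : Sheaf (Scheme.ProEt.topology X) (Type (u + 1)))

/-- The canonical sections. -/
noncomputable def sec {W : Z.ProEt} {V : X.ProEt} (a : W ⟶ (ProEtS.bcP i).obj V)
    (x : G.obj.obj (op V)) : ((R i).obj G).obj.obj (op W) :=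
  ((R i).obj G).obj.map a.op (((adj i).unit.app G).hom.app (op V) x)

/-- The comparison with the presheaf pullback. -/
noncomputable def η : LanPieces.L i G.obj ⟶ ((R i).obj G).obj :=
  toSheafify (Scheme.ProEt.topology Z) (LanPieces.L i G.obj) ≫
    ((Functor.sheafPullbackConstruction.sheafPullbackIso (ProEtS.bcP i) (Type (u + 1))
      (Scheme.ProEt.topology X) (Scheme.ProEt.topology Z)).inv.app G).hom

lemma η_ι {W : Z.ProEt} {V : X.ProEt} (a : W ⟶ (ProEtS.bcP i).obj V) (x : G.obj.obj (op V)) :
    (η i G).app (op W) (LanPieces.ι i G.obj a x) = sec i G a x := by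
  have h1 := ConcreteCategory.congr_hom ((η i G).naturality a.op)
    (((ProEtS.bcP i).op.lanUnit.app G.obj).app (op V) x)
  refine h1.trans ?_
  refine congrArg (((R i).obj G).obj.map a.op) ?_
  have h2 := Adjunction.unit_leftAdjointUniq_hom_app
    (Functor.sheafPullbackConstruction.sheafAdjunctionContinuous (ProEtS.bcP i) (Type (u + 1))
      (Scheme.ProEt.topology X) (Scheme.ProEt.topology Z)) (adj i) G
  have h3 := ConcreteCategory.congr_hom (congr_app (congrArg (fun t => t.hom) h2) (op V)) x
  refine Eq.trans ?_ h3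
  simp [η, Functor.sheafPullbackConstruction.sheafAdjunctionContinuous,
    Functor.sheafPullbackConstruction.sheafPullbackIso, Adjunction.restrictFullyFaithful]
  rfl

theorem bijective_η (W : Z.ProEt) [IsAffine W.left]
    (hW : EtPBC.IsWContractible ↥Γ(W.left, ⊤)) : Function.Bijective ((η i G).app (op W)) := by
  let e := (Functor.sheafPullbackConstruction.sheafPullbackIso (ProEtS.bcP i) (Type (u + 1))
    (Scheme.ProEt.topology X) (Scheme.ProEt.topology Z)).inv.app G
  have he : IsIso ((sheafToPresheaf (Scheme.ProEt.topology Z) (Type (u + 1))).map e) := inferInstance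
  have hb : Function.Bijective
      (((sheafToPresheaf (Scheme.ProEt.topology Z) (Type (u + 1))).map e).app (op W)) :=
    ConcreteCategory.bijective_of_isIso _
  exact hb.comp (Sheafify.bijective_toSheafify _ W hW (LanPieces.splitsPieces i G W))

/-- Sections over a lift, mapped to the pullback. -/
noncomputable def comparison {T : X.ProEt} {W : Z.ProEt} (b : W ⟶ (ProEtS.bcP i).obj T)
    (x : G.obj.obj (op T)) : ((R i).obj G).obj.obj (op W) :=
  sec i G b x

lemma map_comparison {G' : Sheaf (Scheme.ProEt.topology X) (Type (u + 1))} (φ : G ⟶ G')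
    {T : X.ProEt} {W : Z.ProEt} (b : W ⟶ (ProEtS.bcP i).obj T) (x : G.obj.obj (op T)) :
    ((R i).map φ).hom.app (op W) (comparison i G b x) = comparison i G' b (φ.hom.app (op T) x) := by
  have h1 := ConcreteCategory.congr_hom (congr_app (congrArg (fun t => t.hom)
    ((adj i).unit.naturality φ)) (op T)) x
  have h2 := ConcreteCategory.congr_hom (((R i).map φ).hom.naturality b.op)
    (((adj i).unit.app G).hom.app (op T) x)
  exact h2.trans (congrArg (((R i).obj G').obj.map b.op) h1.symm)

variable [IsClosedImmersion i]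

theorem bijective_comparison {T : X.ProEt} [IsAffine T.left]
    (hwc : EtPBC.IsWContractible ↥Γ(T.left, ⊤)) (hT : Good.IsGood (Set.range i.base) T)
    {W : Z.ProEt} [IsAffine W.left] (hW : EtPBC.IsWContractible ↥Γ(W.left, ⊤))
    (b : W ⟶ (ProEtS.bcP i).obj T) [IsIso b] : Function.Bijective (comparison i G b) := by
  refine ⟨fun x x' hx => ?_, fun y => ?_⟩
  · have h0 : LanPieces.ι i G.obj b x = LanPieces.ι i G.obj b x' :=
      (bijective_η i G W hW).1 ((η_ι i G b x).trans (hx.trans (η_ι i G b x').symm))
    obtain ⟨V', g, c, hc, hg⟩ := LanPieces.exists_eq i G.obj h0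
    obtain ⟨h, hh⟩ := GoodHom.exists_hom i hwc hT hW b V' c
    have hφ : b ≫ (ProEtS.bcP i).map (h ≫ g) = b := by
      rw [Functor.map_comp, ← Category.assoc, hh, hc]
    haveI := GoodHom.surjective_of_good i hT (h ≫ g) b b hφ
    haveI : IsAffineHom (h ≫ g : T ⟶ T).left := inferInstance
    haveI : QuasiCompact (h ≫ g : T ⟶ T).left := inferInstance
    have hF : Presieve.IsSheaf (Scheme.ProEt.topology X) G.obj :=
      (isSheaf_iff_isSheaf_of_type _ _).mp G.property
    refine (hF.isSeparated _ (Basic.singleton_mem (h ≫ g))).ext fun Y f hf => ?_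
    obtain ⟨_, a, _, hh', rfl⟩ := hf
    cases hh'
    simp only [op_comp, Functor.map_comp, ConcreteCategory.comp_apply]
    rw [hg]
  · obtain ⟨z, rfl⟩ := (bijective_η i G W hW).2 y
    obtain ⟨V, a, x, rfl⟩ := LanPieces.exists_rep i G.obj z
    obtain ⟨h, hh⟩ := GoodHom.exists_hom i hwc hT hW b V a
    subst hh
    refine ⟨G.obj.map h.op x, ?_⟩
    rw [comparison, ← η_ι, LanPieces.ι_map]

end Groth.Agent.Lib.ProEt.TypePull
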