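import Groth.Agent.Lib.ProEt.ClosedLift
import Groth.Agent.Lib.ProEt.Good
import Groth.Agent.Lib.ProEt.Criterion
import Groth.Agent.Lib.IndEtale.LocPushout
import Groth.Agent.Lib.WLocal.LocClosed

/-!
Weakly contractible lifts along closed immersions, concentrated near the closed subscheme.
-/

set_option autoImplicit false

universe u

open CategoryTheory CategoryTheory.Limits AlgebraicGeometry Opposite

namespace Groth.Agent.Lib.ProEt.WCLift

set_option backward.isDefEq.respectTransparency.types false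

variable {Z X : Scheme.{u}} (i : Z ⟶ X) [IsClosedImmersion i]

/-- Localising an affine w-contractible object along a w-contractible closed piece of its fibre. -/
theorem exists_localization (P : X.ProEt) [IsAffine P.left]
    (hP : EtPBC.IsWContractible ↥Γ(P.left, ⊤)) (W : Z.ProEt) [IsAffine W.left]
    (hW : EtPBC.IsWContractible ↥Γ(W.left, ⊤)) (σ : W ⟶ (ProEtS.bcP i).obj P)
    [IsClosedImmersion σ.left] :
    ∃ (T : X.ProEt) (_ : IsAffine T.left) (g : T ⟶ P) (b : W ⟶ (ProEtS.bcP i).obj T),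
      IsIso b ∧ b ≫ (ProEtS.bcP i).map g = σ ∧ EtPBC.IsWContractible ↥Γ(T.left, ⊤) ∧
      Good.IsGood (Set.range i.base) T := by
  let p : pullback P.hom i ⟶ P.left := pullback.fst P.hom i
  obtain ⟨hA, hq⟩ := IsClosedImmersion.isAffine_surjective_of_isAffine (f := p)
  haveI := hA
  let a' : W.left ⟶ pullback P.hom i := σ.left
  haveI : WeaklyEtale a' := Basic.weaklyEtale_left σ
  haveI : IsClosedImmersion a' := ‹IsClosedImmersion σ.left›
  obtain ⟨-, hf⟩ := IsClosedImmersion.isAffine_surjective_of_isAffine (f := a')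
  have hflat : a'.appTop.hom.Flat :=
    HasRingHomProperty.appTop (P := @Flat) a' inferInstance
  have hpo := IndEtale.LocPushout.isPushout p.appTop a'.appTop hq hf hflat
  let I : Ideal ↥Γ(P.left, ⊤) := RingHom.ker (p.appTop ≫ a'.appTop).hom
  let S := IndEtale.LocPushout.oneAdd I
  let gL : Γ(P.left, ⊤) ⟶ CommRingCat.of (Localization S) := IndEtale.LocPushout.g p.appTop a'.appTop
  haveI : Algebra.WeaklyEtale ↥Γ(P.left, ⊤) (Localization S) :=
    WLocal.RetractLoc.weaklyEtale_of_isLocalization _ S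
  haveI : WeaklyEtale (Spec.map gL) := Basic.weaklyEtale_SpecMap_iff.mpr inferInstance
  obtain ⟨b, hb, hb'⟩ := ClosedLift.exists_lift_of_isPushout i P W σ _ gL
    (IndEtale.LocPushout.ψ p.appTop a'.appTop) hpo
  have hwcQ : EtPBC.IsWContractible (↥Γ(P.left, ⊤) ⧸ I) :=
    Covers.isWContractible_of_ringEquiv
      (RingHom.quotientKerEquivOfSurjective (f := (p.appTop ≫ a'.appTop).hom) (hf.comp hq)).symm hW
  have hwcL : EtPBC.IsWContractible (Localization S) :=
    WLocal.LocClosed.isWContractible_localization hP S I (IndEtale.LocPushout.range_comap I) hwcQ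
  refine ⟨_, (inferInstance : IsAffine (Spec (CommRingCat.of (Localization S)))), _, b, hb, hb',
    Covers.isWContractible_of_ringEquiv
      (Scheme.ΓSpecIso (CommRingCat.of (Localization S))).symm.commRingCatIsoToRingEquiv hwcL,
    (inferInstance : IsAffine (Spec (CommRingCat.of (Localization S)))), fun v => ?_⟩
  let c : Spec (CommRingCat.of (Localization S)) ⟶ Spec Γ(P.left, ⊤) := Spec.map gL
  obtain ⟨z, hz, hvz⟩ : ∃ z, z ∈ PrimeSpectrum.zeroLocus (I : Set ↥Γ(P.left, ⊤)) ∧
      PrimeSpectrum.comap (algebraMap ↥Γ(P.left, ⊤) (Localization S)) v ⤳ z :=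
    (IndEtale.LocPushout.range_comap I).le ⟨v, rfl⟩
  obtain ⟨z', rfl⟩ : z ∈ Set.range (PrimeSpectrum.comap (algebraMap ↥Γ(P.left, ⊤) (Localization S))) :=
    (IndEtale.LocPushout.range_comap I).ge ⟨z, hz, specializes_rfl⟩
  refine ⟨z', ?_,
    (PrimeSpectrum.localization_comap_isEmbedding (Localization S) S).isInducing.specializes_iff.mp hvz⟩
  have hrw := range_comap_of_surjective _ (p.appTop ≫ a'.appTop).hom (hf.comp hq)
  obtain ⟨w, hw⟩ : c.base z' ∈ Set.range (Spec.map (p.appTop ≫ a'.appTop)).base :=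
    hrw.ge hz
  let w' : ↥W.left := W.left.isoSpec.inv.base w
  have h1 : P.left.isoSpec.inv.base (c.base z') = (a' ≫ p).base w' := by
    have h2 : Spec.map (p.appTop ≫ a'.appTop) ≫ P.left.isoSpec.inv = W.left.isoSpec.inv ≫ a' ≫ p := by
      rw [← Scheme.Hom.comp_appTop, Scheme.isoSpec_inv_naturality]
    rw [← hw, ← Scheme.Hom.comp_apply, h2]
    rfl
  refine ⟨(a' ≫ pullback.snd P.hom i).base w', ?_⟩
  change i.base ((a' ≫ pullback.snd P.hom i).base w') = P.hom.base (P.left.isoSpec.inv.base (c.base z'))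
  rw [h1]
  exact congr(($(pullback.condition (f := P.hom) (g := i))).base (a'.base w')).symm

/-- Weakly contractible lifts. -/
theorem exists_wc_lift (V : X.ProEt) (W : Z.ProEt) [IsAffine W.left]
    (hW : EtPBC.IsWContractible ↥Γ(W.left, ⊤)) (a : W ⟶ (ProEtS.bcP i).obj V) :
    ∃ (T : X.ProEt) (_ : IsAffine T.left) (g : T ⟶ V) (b : W ⟶ (ProEtS.bcP i).obj T),
      IsIso b ∧ b ≫ (ProEtS.bcP i).map g = a ∧ EtPBC.IsWContractible ↥Γ(T.left, ⊤) ∧
      Good.IsGood (Set.range i.base) T := by
  obtain ⟨T₀, hT₀, g₀, b₀, hb₀, hb₀'⟩ := ClosedLift.exists_lift i V W hW a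
  obtain ⟨P, π, hPa, hP, hπ⟩ := Covers.exists_over_affineOpen T₀ (W := ⊤) (isAffineOpen_top T₀.left)
  haveI := hPa
  let π' := (ProEtS.bcP i).map π ≫ inv b₀
  let p : pullback P.hom i ⟶ P.left := pullback.fst P.hom i
  obtain ⟨hA, -⟩ := IsClosedImmersion.isAffine_surjective_of_isAffine (f := p)
  haveI : IsAffine ((ProEtS.bcP i).obj P).left := hA
  haveI : WeaklyEtale π'.left := Basic.weaklyEtale_left π'
  haveI : Surjective π'.left := ⟨fun w => by
    obtain ⟨y, hy⟩ := hπ.ge (trivial : (pullback.fst T₀.hom i).base (b₀.left.base w) ∈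
      ((⊤ : T₀.left.Opens) : Set ↥T₀.left))
    have h1 : P.hom.base y = i.base ((pullback.snd T₀.hom i).base (b₀.left.base w)) := by
      rw [show P.hom = π.left ≫ T₀.hom from (MorphismProperty.Over.w π).symm, Scheme.Hom.comp_apply,
        hy, ← Scheme.Hom.comp_apply, pullback.condition, Scheme.Hom.comp_apply]
    obtain ⟨z, hz1, hz2⟩ := Scheme.Pullback.exists_preimage_pullback (f := P.hom) (g := i) y _ h1
    refine ⟨z, ?_⟩
    have h2 : ((ProEtS.bcP i).map π).left.base z = b₀.left.base w := by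
      have hinj : Function.Injective (pullback.fst T₀.hom i).base :=
        (pullback.fst T₀.hom i).isClosedEmbedding.injective
      refine hinj ?_
      change (pullback.fst T₀.hom i).base ((pullback.lift _ _ _ : pullback P.hom i ⟶ pullback T₀.hom i).base z) = _
      rw [← Scheme.Hom.comp_apply, pullback.lift_fst]
      exact (congrArg π.left.base hz1).trans hy
    change ((ProEtS.bcP i).map π ≫ inv b₀).left.base z = w
    have h3 : (inv b₀).left.base (b₀.left.base w) = w := by
      exact congrArg (fun φ : W ⟶ W => φ.left.base w) (IsIso.hom_inv_id b₀)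
    exact (congrArg (inv b₀).left.base h2).trans h3⟩
  obtain ⟨s, hs⟩ := Decomp.exists_section π'.left hW
  let σ : W ⟶ (ProEtS.bcP i).obj P := MorphismProperty.Over.homMk s (by
    rw [← MorphismProperty.Over.w π', ← Category.assoc, hs, Category.id_comp])
  have hσ : σ ≫ π' = 𝟙 W := MorphismProperty.Over.Hom.ext hs
  haveI : IsClosedImmersion σ.left := by
    haveI : IsClosedImmersion (s ≫ π'.left) := by rw [hs]; infer_instance
    exact IsClosedImmersion.of_comp s π'.left
  obtain ⟨T, hT, g, b, hb, hb', hwc, hgood⟩ := exists_localization i P hP W hW σ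
  refine ⟨T, hT, g ≫ π ≫ g₀, b, hb, ?_, hwc, hgood⟩
  have h4 : σ ≫ (ProEtS.bcP i).map π = b₀ := by
    rw [← cancel_mono (inv b₀), Category.assoc, hσ, IsIso.hom_inv_id]
  rw [Functor.map_comp, Functor.map_comp, ← Category.assoc, hb', ← Category.assoc, h4, hb₀']

end Groth.Agent.Lib.ProEt.WCLift
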